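import Groth.Agent.AlgSp2.Approx.KerSub
import Groth.Agent.AlgSp2.FpqcRep
import Groth.Agent.AlgSp2.AffineRows
import Groth.Agent.AlgSpBasic.QComp

/-!
# Closed subspaces are limits of finitely presented closed subspaces
-/

set_option autoImplicit false
set_option linter.unusedSectionVars false
set_option backward.isDefEq.respectTransparency.types false
universe u

open CategoryTheory CategoryTheory.Limits AlgebraicGeometry Opposite AlgSp

namespace Groth.AlgSp2.Approx

open Groth.AlgSpBasic Groth.AlgSp2.QcAffine Groth.AlgSp3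

noncomputable section

variable {S : Scheme.{u}} {Y N X : Sp S}

/-- A lift through a monomorphism exists when it exists on all points. -/
theorem exists_lift_of_forall_yon (h : X ⟶ N) [Mono h] {P : Sp S} (f : P ⟶ N)
    (H : ∀ (T : Over S) (z : (yon S).obj T ⟶ P), ∃ l, l ≫ h = z ≫ f) : ∃ g, g ≫ h = f := by
  have : IsIso (pullback.snd h f) := isIso_of_bijective_comp _ fun T =>
    ⟨fun a b hab => (cancel_mono (pullback.snd h f)).1 hab, fun z => by
      obtain ⟨l, hl⟩ := H T z
      exact ⟨pullback.lift l z hl, pullback.lift_snd _ _ _⟩⟩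
  exact ⟨inv (pullback.snd h f) ≫ pullback.fst h f, by
    rw [Category.assoc, pullback.condition, IsIso.inv_hom_id_assoc]⟩

theorem isFinitePresentationMor_of_closed (hX : IsAlgSpace X) (hN : IsAlgSpace N) {i : X ⟶ N}
    (hi : RepWith @IsClosedImmersion i) (hfp : LocP @LocallyOfFinitePresentation i) :
    IsFinitePresentationMor i := by
  have : Mono i := mono_of_repWith (fun _ _ g (_ : IsClosedImmersion g) => inferInstance) hi
  exact ⟨hfp, isQuasiCompactMor_of_repWith hX hN
    (repWith_mono (fun _ _ g (_ : IsClosedImmersion g) => (inferInstance : QuasiCompact g)) hi),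
    repWith_isIso _⟩

/-- A closed subspace of an affine space over a qcqs space is the intersection of the finitely
presented closed subspaces containing it. -/
theorem exists_closed_limit {ν : N ⟶ Y} (hν : IsAffineMor ν) {h : X ⟶ N}
    (hh : RepWith @IsClosedImmersion h) (hY : IsAlgSpace Y) (hN : IsAlgSpace N) (A : Atlas Y) :
    ∃ (I : Type u) (_ : Preorder I) (_ : IsDirected I (· ≤ ·)) (_ : Nonempty I) (D : Iᵒᵖ ⥤ Sp S)
      (t : D ⟶ (Functor.const Iᵒᵖ).obj N) (π : (Functor.const Iᵒᵖ).obj X ⟶ D)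
      (_ : IsLimit (Cone.mk X π)),
      (∀ i, IsAlgSpace (D.obj i)) ∧ (∀ (i j : Iᵒᵖ) (φ : i ⟶ j), RepWith @IsClosedImmersion (D.map φ)) ∧
      (∀ i, RepWith @IsClosedImmersion (t.app i) ∧ IsFinitePresentationMor (t.app i)) ∧
      (∀ i, π.app i ≫ t.app i = h) := by
  classical
  let U := A.C
  let M := kerSub hν hh
  let I : Type u := {G : Submodule (fns U) (sections hν U) //
    G.FG ∧ G ≤ M.M U ∧ StableOn hν U Set.univ G}
  have hp : RepWith @Etale (toN hν U) := repWith_of_isPullback (isPullback_tot hν U).flip A.etale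
  have hps : RepWith @Surjective (toN hν U) := repWith_of_isPullback (isPullback_tot hν U).flip A.surj
  choose Z i hi hZ hfp hI using fun G : I => exists_closedSub_of_stable hν hN A G.2.1 G.2.2.2
  have hmono : ∀ G, Mono (i G) := fun G =>
    mono_of_repWith (fun _ _ g (_ : IsClosedImmersion g) => inferInstance) (hi G)
  have hmh : Mono h := mono_of_repWith (fun _ _ g (_ : IsClosedImmersion g) => inferInstance) hh
  have hex : ∀ G G' : I, G ≤ G' → ∃ k, k ≫ i G = i G' := fun G G' hle =>
    (exists_lift_closed_iff_le hp hps (hi G) (isPullback_closedIncl hν (hi G) U)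
      (isPullback_closedIncl hν (hi G') U)).2 (by
        show idealAt hν (hi G) U ≤ idealAt hν (hi G') U
        refine Scheme.IdealSheafData.le_of_isAffine ?_
        show secIdeal hν (hi G) U ≤ secIdeal hν (hi G') U
        rw [hI, hI]
        exact Ideal.span_mono hle)
  have hexX : ∀ G : I, ∃ k, k ≫ i G = h := fun G =>
    (exists_lift_closed_iff_le hp hps (hi G) (isPullback_closedIncl hν (hi G) U)
      (isPullback_closedIncl hν hh U)).2 (by
        show idealAt hν (hi G) U ≤ idealAt hν hh U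
        refine Scheme.IdealSheafData.le_of_isAffine ?_
        show secIdeal hν (hi G) U ≤ secIdeal hν hh U
        rw [hI, Ideal.span_le]
        exact G.2.2.1)
  choose k hk using hex
  choose g hg using hexX
  let D : Iᵒᵖ ⥤ Sp S :=
    { obj := fun G => Z G.unop
      map := fun {G G'} φ => k G'.unop G.unop φ.unop.le
      map_id := fun G => (cancel_mono (i G.unop)).1 (by rw [hk, Category.id_comp])
      map_comp := fun {G₁ G₂ G₃} φ ψ => (cancel_mono (i G₃.unop)).1 (by
        rw [hk, Category.assoc, hk, hk]) }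
  let t : D ⟶ (Functor.const Iᵒᵖ).obj N :=
    { app := fun G => i G.unop
      naturality := fun G G' φ => by
        show k _ _ _ ≫ i G'.unop = i G.unop ≫ 𝟙 N
        rw [hk, Category.comp_id] }
  let π : (Functor.const Iᵒᵖ).obj X ⟶ D :=
    { app := fun G => g G.unop
      naturality := fun G G' φ => by
        show 𝟙 X ≫ g G'.unop = g G.unop ≫ k _ _ _
        rw [← cancel_mono (i G'.unop), Category.id_comp, hg, Category.assoc, hk, hg] }
  have hdir : IsDirected I (· ≤ ·) := ⟨fun G G' => by
    obtain ⟨G'', h₁, h₂, h₃, h₄⟩ := A.exists_stable hν hY M (G.1 ⊔ G'.1) (G.2.1.sup G'.2.1)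
      (sup_le G.2.2.1 G'.2.2.1)
    exact ⟨⟨G'', h₁, h₃, h₄⟩, le_sup_left.trans h₂, le_sup_right.trans h₂⟩⟩
  obtain ⟨G₀⟩ : Nonempty I := by
    obtain ⟨G', h₁, -, h₃, h₄⟩ := A.exists_stable hν hY M ⊥ Submodule.fg_bot bot_le
    exact ⟨⟨G', h₁, h₃, h₄⟩⟩
  -- compatible maps into all the subspaces factor through the intersection
  have hlift : ∀ s : Cone D, ∃ l : s.pt ⟶ X, l ≫ h = s.π.app (op G₀) ≫ i G₀ := by
    intro s
    have hconst : ∀ G : I, s.π.app (op G) ≫ i G = s.π.app (op G₀) ≫ i G₀ := by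
      intro G
      obtain ⟨G', h₁, h₂⟩ := hdir.directed G G₀
      have e : ∀ G₁ : I, G₁ ≤ G' → s.π.app (op G₁) ≫ i G₁ = s.π.app (op G') ≫ i G' := by
        intro G₁ hle
        rw [← s.w (homOfLE hle).op, Category.assoc]
        exact congrArg (_ ≫ ·) (hk G₁ G' hle)
      exact (e G h₁).trans (e G₀ h₂).symm
    refine exists_lift_of_forall_yon h _ fun T z => ?_
    obtain ⟨W, w, α, sqW⟩ := hp.rep (z ≫ s.π.app (op G₀) ≫ i G₀)
    have hwe : RepWith @Etale ((yon S).map w) := repWith_of_isPullback sqW hp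
    have hws : RepWith @Surjective ((yon S).map w) := repWith_of_isPullback sqW hps
    obtain ⟨α, rfl⟩ := (yon S).map_surjective α
    rw [exists_lift_iff_comap_eq_bot_of_chart hh (isPullback_closedIncl hν hh U) _ hwe hws
      sqW.w.symm, ← le_ker_iff_comap_eq_bot]
    refine Scheme.IdealSheafData.le_of_isAffine ?_
    show secIdeal hν hh U ≤ _
    intro x hx
    obtain ⟨G', h₁, h₂, h₃, h₄⟩ := A.exists_stable hν hY M (Submodule.span _ {x})
      (Submodule.fg_span_singleton x) (by rw [Submodule.span_le, Set.singleton_subset_iff]; exact hx)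
    have := (exists_lift_iff_comap_eq_bot_of_chart (hi ⟨G', h₁, h₃, h₄⟩)
      (isPullback_closedIncl hν (hi ⟨G', h₁, h₃, h₄⟩) U) (z ≫ s.π.app (op G₀) ≫ i G₀) hwe hws
      sqW.w.symm).1 ⟨z ≫ s.π.app (op ⟨G', h₁, h₃, h₄⟩), by rw [Category.assoc, hconst]⟩
    rw [← le_ker_iff_comap_eq_bot] at this
    refine this ⟨⊤, isAffineOpen_top _⟩ ?_
    show x ∈ secIdeal hν (hi ⟨G', h₁, h₃, h₄⟩) U
    rw [hI]
    exact Ideal.subset_span (h₂ (Submodule.mem_span_singleton_self x))
  choose l hl using hlift
  refine ⟨I, inferInstance, hdir, ⟨G₀⟩, D, t, π,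
    { lift := l
      fac := fun s G => ?_
      uniq := fun s m hm => ?_ }, fun G => hZ _, fun G G' φ => ?_,
    fun G => ⟨hi _, isFinitePresentationMor_of_closed (hZ _) hN (hi _) (hfp _)⟩, fun G => hg _⟩
  · show l s ≫ g G.unop = _
    rw [← cancel_mono (i G.unop), Category.assoc, hg, hl]
    obtain ⟨G', h₁, h₂⟩ := hdir.directed G.unop G₀
    have e : ∀ G₁ : I, G₁ ≤ G' → s.π.app (op G₁) ≫ i G₁ = s.π.app (op G') ≫ i G' := by
      intro G₁ hle
      rw [← s.w (homOfLE hle).op, Category.assoc]
      exact congrArg (_ ≫ ·) (hk G₁ G' hle)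
    exact (e G₀ h₂).trans (e G.unop h₁).symm
  · rw [← cancel_mono h, hl, ← hg G₀, ← Category.assoc]
    exact congrArg (· ≫ i G₀) (hm (op G₀))
  · exact repWith_of_isPullback (isPullback_of_mono_comp (hk _ _ φ.unop.le)) (hi _)

end

end Groth.AlgSp2.Approx
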