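import Groth.Agent.AlgSp2.Approx.EnvelopeStep
import Groth.Agent.AlgSpBasic.IntegralCover
import Groth.Agent.AlgSpBasic.OpenSub
import Groth.Agent.AlgSp2.Approx.ClosedLimit

/-!
# Finite morphisms to qcqs spaces embed in finite, finitely presented ones
-/

set_option autoImplicit false
set_option linter.unusedSectionVars false
set_option backward.isDefEq.respectTransparency.types false
universe u

open CategoryTheory CategoryTheory.Limits AlgebraicGeometry Opposite AlgSp

namespace Groth.AlgSp2.Approx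

open Groth.AlgSpBasic Groth.AlgSp2 Groth.AlgSp2.QcAffine

noncomputable section

variable {S : Scheme.{u}} {X Y : Sp S} {Q : MorphismProperty Scheme.{u}} [EnvKind Q]

theorem HasEnv.of_iso_source {X' : Sp S} {f : X ⟶ Y} {f' : X' ⟶ Y} (e : X' ≅ X) (he : e.hom ≫ f = f')
    (h : HasEnv Q f) : HasEnv Q f' := by
  obtain ⟨T, ν, k, hT, hν, hfp, hk, hfac⟩ := h
  exact ⟨T, ν, e.hom ≫ k, hT, hν, hfp, repWith_comp (repWith_isIso e.hom) hk,
    by rw [Category.assoc, hfac, he]⟩

theorem injective_map_of_openImm {W : Sp S} {j : W ⟶ Y} (hj : RepWith @IsOpenImmersion j) :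
    Function.Injective (AlgSp.Points.map j) :=
  injective_map_of_repWith (fun _ _ φ (h : IsOpenImmersion φ) => φ.isOpenEmbedding.injective) hj

/-- Envelopes exist over the open set. -/
def GoodEnv (Q : MorphismProperty Scheme.{u}) (f : X ⟶ Y) {U : Over S} (a : (yon S).obj U ⟶ Y) (O : Set (AlgSp.Points Y)) : Prop :=
  IsOpen O ∧ IsCompact (AlgSp.Points.ofPt a ⁻¹' O) ∧ HasEnv Q (pullback.snd f (openSubι Y O))

theorem goodEnv_empty (hY : IsAlgSpace Y) (f : X ⟶ Y) {U : Over S} (a : (yon S).obj U ⟶ Y) :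
    GoodEnv Q f a ∅ := by
  refine ⟨isOpen_empty, by rw [Set.preimage_empty]; exact isCompact_empty,
    openSub Y ∅, 𝟙 _, pullback.snd f (openSubι Y ∅), isAlgSpace_openSub hY isOpen_empty, ?_, ?_, ?_,
    Category.comp_id _⟩
  · exact affWith_of_repWith EnvKind.le_isAffineHom
      (repWith_mono (P := @IsClosedImmersion) EnvKind.closed (repWith_isIso _))
  · exact locP_of_repWith (repWith_mono (P := @IsOpenImmersion) (fun _ _ k (_ : IsOpenImmersion k) => (inferInstance : LocallyOfFinitePresentation k)) (repWith_isIso _))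
  · refine repWith_of_exists fun T g => ?_
    have : IsEmpty ↥T.left :=
      ⟨fun t => (openSub_exists_lift_iff Y ∅ (g ≫ openSubι Y ∅)).1 ⟨g, rfl⟩ t⟩
    obtain ⟨P, hP⟩ : ∃ P : Sp S, ∃ (p₁ : P ⟶ pullback f (openSubι Y ∅)) (p₂ : P ⟶ (yon S).obj T),
        IsPullback p₁ p₂ (pullback.snd f (openSubι Y ∅)) g :=
      ⟨_, _, _, IsPullback.of_hasPullback _ _⟩
    obtain ⟨p₁, p₂, sq⟩ := hP
    have : IsIso p₂ := isIso_of_bijective_comp _ fun W => by
      constructor
      · intro z z' e
        obtain ⟨w, hw⟩ := (yon S).map_surjective (z ≫ p₂)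
        have : IsEmpty ↥W.left := Function.isEmpty w.left
        have := Groth.AlgSp2.subsingleton_of_isEmpty P W
        exact Groth.AlgSpBasic.yEquiv.injective (Subsingleton.elim _ _)
      · intro w₀
        obtain ⟨w, rfl⟩ := (yon S).map_surjective w₀
        have : IsEmpty ↥W.left := Function.isEmpty w.left
        obtain ⟨z, -, -⟩ := Groth.AlgSp2.exists_glue (fun e : PEmpty.{u+1} => (e.elim : Over S))
          (Q := P) fun e => e.elim
        have hbot := Groth.AlgSp2.bot_mem_of_isEmpty W
        have hs := ((isSheaf_iff_isSheaf_of_type _ _).1 P.property) ⊥ hbot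
        obtain ⟨x, -⟩ := hs (fun Z k hk => hk.elim) (fun _ _ _ _ _ _ _ hk => hk.elim)
        refine ⟨Groth.AlgSpBasic.yEquiv.symm x, ?_⟩
        have := Groth.AlgSp2.subsingleton_of_isEmpty ((yon S).obj T) W
        exact Groth.AlgSpBasic.yEquiv.injective (Subsingleton.elim _ _)
    refine ⟨T, inv p₂ ≫ p₁, 𝟙 T, ?_, ?_⟩
    · rw [CategoryTheory.Functor.map_id]
      exact sq.of_iso (asIso p₂) (Iso.refl _) (Iso.refl _) (Iso.refl _) (by simp) (by simp)
        (by simp) (by simp)
    · rw [Over.id_left]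
      infer_instance

variable [QuasiSeparatedSpace ↥S] (hY : IsAlgSpace Y) (hYqs : IsQuasiSeparatedSp Y) (A : Atlas Y)
  {f : X ⟶ Y} (hf : AffWith Q f)

include hY hYqs hf in
theorem goodEnv_step {O : Set (AlgSp.Points Y)} (hO : GoodEnv Q f A.C.b O) (V : Chart Y)
    (hV : RepWith @Etale V.b)
    (hinj : ∀ {T : Over S} (x y : T ⟶ V.Z), (yon S).map x ≫ V.b = (yon S).map y ≫ V.b →
      (∀ t, AlgSp.Points.ofPt ((yon S).map x ≫ V.b) t ∉ O) → x = y) :
    GoodEnv Q f A.C.b (O ∪ Set.range (AlgSp.Points.ofPt V.b)) := by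
  obtain ⟨hOo, hOc, hE⟩ := hO
  let O' := O ∪ Set.range (AlgSp.Points.ofPt V.b)
  have hO'o : IsOpen O' := hOo.union (isOpenMap_ofPt_of_etale hV).isOpen_range
  refine ⟨hO'o, ?_, ?_⟩
  · rw [Set.preimage_union]
    refine hOc.union ?_
    obtain ⟨Q, qu, qw, sqQ⟩ := exists_pullback_of_diag hY.diag A.C.b V.b
    have : QuasiCompact qw.left := repWith_fst_of_isPullback sqQ A.qc
    have : CompactSpace ↥Q.left := QuasiCompact.compactSpace_of_compactSpace qw.left
    have : AlgSp.Points.ofPt A.C.b ⁻¹' Set.range (AlgSp.Points.ofPt V.b) = Set.range qu.left := by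
      ext z
      constructor
      · rintro ⟨v, hv⟩
        obtain ⟨m, hm, -⟩ := (ofPt_eq_ofPt_iff sqQ z v).1 hv.symm
        exact ⟨m, hm⟩
      · rintro ⟨m, rfl⟩
        exact ⟨qw.left m, by rw [← ofPt_comp_yon, ← ofPt_comp_yon, sqQ.w]⟩
    rw [this]
    exact isCompact_range qu.left.continuous
  -- the open subspaces
  let Y' := openSub Y O'
  let Os := openSub Y O
  let ι' := openSubι Y O'
  let ι := openSubι Y O
  have hY' : IsAlgSpace Y' := isAlgSpace_openSub hY hO'o
  have hOs : IsAlgSpace Os := isAlgSpace_openSub hY hOo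
  have hι' : RepWith @IsOpenImmersion ι' := repWith_openSubι hO'o
  have hι : RepWith @IsOpenImmersion ι := repWith_openSubι hOo
  have hι'm : Mono ι' := mono_of_repWith (fun _ _ k (_ : IsOpenImmersion k) => inferInstance) hι'
  have hιm : Mono ι := mono_of_repWith (fun _ _ k (_ : IsOpenImmersion k) => inferInstance) hι
  obtain ⟨j, hj⟩ : ∃ j : Os ⟶ Y', j ≫ ι' = ι := exists_lift_of_forall_yon ι' ι fun T z =>
    (openSub_exists_lift_iff Y O' _).2 fun t =>
      Or.inl ((openSub_exists_lift_iff Y O (z ≫ ι)).1 ⟨z, rfl⟩ t)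
  have hjo : RepWith @IsOpenImmersion j := repWith_of_isPullback (isPullback_of_mono_comp hj) hι
  obtain ⟨b, hb⟩ : ∃ b : (yon S).obj V.Z ⟶ Y', b ≫ ι' = V.b :=
    (openSub_exists_lift_iff Y O' _).2 fun t => Or.inr ⟨t, rfl⟩
  have hbe : RepWith @Etale b := repWith_of_isPullback (isPullback_of_mono_comp hb) hV
  -- the open has an atlas
  have hOqc : IsQuasiCompactSp Os := by
    let K : A.C.Z.left.Opens :=
      ⟨AlgSp.Points.ofPt A.C.b ⁻¹' O, hOo.preimage (AlgSp.Points.continuous_ofPt _)⟩
    let KO : Over S := Over.mk (K.ι ≫ A.C.Z.hom)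
    have : CompactSpace ↥KO.left := isCompact_iff_compactSpace.1 hOc
    obtain ⟨l, hl⟩ : ∃ l : (yon S).obj KO ⟶ Os, l ≫ ι =
        (yon S).map (Over.homMk K.ι rfl : KO ⟶ A.C.Z) ≫ A.C.b :=
      (openSub_exists_lift_iff Y O _).2 fun t => by
        rw [ofPt_comp_yon]
        exact t.2
    refine isQuasiCompactSp_of_surjective ((isQuasiCompactSp_yon_iff KO).2 ‹_›)
      (IsAlgSpace.yon_obj KO) hOs l fun y => ?_
    obtain ⟨u, hu⟩ := surjective_ofPt_of_repWith A.surj (AlgSp.Points.map ι y)
    have huO : u ∈ K := by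
      show AlgSp.Points.ofPt A.C.b u ∈ O
      rw [hu]
      exact (range_map_openSubι (X := Y) (W := O)).le ⟨y, rfl⟩
    refine ⟨AlgSp.Points.schemeHomeo KO ⟨u, huO⟩, injective_map_of_openImm hι ?_⟩
    rw [← hu]
    show AlgSp.Points.map ι (AlgSp.Points.map l (AlgSp.Points.ofPt (𝟙 _) ⟨u, huO⟩)) = _
    rw [AlgSp.Points.map_ofPt, AlgSp.Points.map_ofPt, Category.id_comp, hl, ofPt_comp_yon]
    rfl
  obtain ⟨AO⟩ := exists_atlas hOs hOqc (isQuasiSeparatedSp_of_mono hYqs ι)
  -- the morphism over the open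
  let X' := pullback f ι'
  let f' : X' ⟶ Y' := pullback.snd f ι'
  let xO : pullback f ι ⟶ X' := pullback.lift (pullback.fst f ι) (pullback.snd f ι ≫ j)
    (by rw [Category.assoc, hj]; exact pullback.condition)
  have sqO : IsPullback xO (pullback.snd f ι) f' j :=
    IsPullback.of_right (by rw [pullback.lift_fst, hj]; exact IsPullback.of_hasPullback f ι)
      (pullback.lift_snd _ _ _) (IsPullback.of_hasPullback f ι')
  refine envelope_step hY' (isQuasiSeparatedSp_of_mono hYqs ι') hOs AO
    (affWith_of_isPullback (IsPullback.of_hasPullback f ι') hf) hjo b hbe ?_ ?_ sqO hE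
  · intro W x y e hout
    refine hinj x y (by rw [← hb, reassoc_of% e]) fun t ht => hout t ?_
    obtain ⟨o, ho⟩ := (range_map_openSubι (X := Y) (W := O)).ge ht
    refine ⟨o, injective_map_of_openImm hι' ?_⟩
    rw [← AlgSp.Points.map_comp, hj, ho, AlgSp.Points.map_ofPt, Category.assoc, hb]
  · intro y
    rcases (range_map_openSubι (X := Y) (W := O')).le ⟨y, rfl⟩ with h | ⟨v, hv⟩
    · obtain ⟨o, ho⟩ := (range_map_openSubι (X := Y) (W := O)).ge h
      exact Or.inl ⟨o, injective_map_of_openImm hι' (by rw [← AlgSp.Points.map_comp, hj, ho])⟩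
    · exact Or.inr ⟨v, injective_map_of_openImm hι' (by rw [AlgSp.Points.map_ofPt, hb, hv])⟩

/-- Morphisms with `Q` to qcqs spaces factor as a closed immersion followed by a finitely
presented morphism with `Q`. -/
theorem exists_envelope {f : X ⟶ Y} (hf : AffWith Q f) (hY : IsAlgSpace Y)
    (hYqc : IsQuasiCompactSp Y) (hYqs : IsQuasiSeparatedSp Y) : HasEnv Q f := by
  classical
  obtain ⟨A⟩ := exists_atlas hY hYqc hYqs
  have hU := A.etale
  have main : ∀ k n : ℕ, n + k = A.deg → GoodEnv Q f A.C.b (confSet A.C.b (n + 1)) := by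
    intro k
    induction k with
    | zero =>
      intro n hn
      rw [show n + 1 = A.deg + 1 by omega, confSet_eq_empty_of_degFibresLE hY hU A.bdd]
      exact goodEnv_empty hY f _
    | succ k ih =>
      intro n hn
      have hgood : GoodEnv Q f A.C.b (confSet A.C.b (n + 2)) := ih (n + 1) (by omega)
      obtain ⟨D⟩ := exists_distinctSpace hY hU n
      obtain ⟨Us⟩ := exists_unorderedSpace hY hU D
      have := Us.compact A.qc
      obtain ⟨m, W, hW, hWc⟩ := exists_affine_family (isCompact_univ (X := ↥Us.V.left)) isOpen_univ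
        subset_rfl
      let V : Fin m → Chart Y := fun i => sub Us.f (W i) (hW i).1
      have hstep : ∀ s : Finset (Fin m), GoodEnv Q f A.C.b (confSet A.C.b (n + 2) ∪
          ⋃ i ∈ s, Set.range (AlgSp.Points.ofPt (V i).b)) := by
        intro s
        induction s using Finset.induction with
        | empty => simpa using hgood
        | insert i s hi his =>
          have hVe : RepWith @Etale (V i).b := repWith_comp
            ((AlgSp.repWith_yon_map_iff _ (subι (W i))).2
              (inferInstanceAs (Etale (W i).ι))) Us.f_etale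
          have := goodEnv_step hY hYqs A hf his (V i) hVe fun {T} x y e hout => by
            have h := Us.eq_of_comp_eq (v := x ≫ subι (W i)) (v' := y ≫ subι (W i))
              (by simp only [Functor.map_comp, Category.assoc]; exact e) fun t ht => hout t (by
                left
                show AlgSp.Points.ofPt ((yon S).map x ≫ (yon S).map (subι (W i)) ≫ Us.f) t ∈ _
                simpa only [Functor.map_comp, Category.assoc] using ht)
            exact Over.OverMorphism.ext ((cancel_mono (subι (W i)).left).1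
              (congrArg CommaMorphism.left h))
          convert this using 1
          rw [Finset.set_biUnion_insert, Set.union_assoc, Set.union_comm (Set.range _)]
      convert hstep Finset.univ using 1
      apply Set.Subset.antisymm
      · intro y hy
        rw [← Us.range_ofPt] at hy
        obtain ⟨v, rfl⟩ := hy
        obtain ⟨i, hi⟩ := Set.mem_iUnion.1 (hWc (Set.mem_univ v))
        refine Or.inr (Set.mem_iUnion₂.2 ⟨i, Finset.mem_univ i, ⟨v, hi⟩, ?_⟩)
        exact ofPt_comp_yon _ _ _
      · rintro y (hy | hy)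
        · exact confSet_antitone (by omega) hy
        · obtain ⟨i, -, v, rfl⟩ := Set.mem_iUnion₂.1 hy
          rw [← Us.range_ofPt]
          exact ⟨_, (ofPt_comp_yon _ _ _).symm⟩
  obtain ⟨-, -, hE⟩ := main A.deg 0 (by omega)
  rw [confSet_one (surjective_ofPt_of_repWith A.surj)] at hE
  let ι := openSubι Y (Set.univ : Set (AlgSp.Points Y))
  have : IsIso ι := isIso_of_bijective_comp _ fun T =>
    ⟨fun a b h => openSub_hom_ext Y _ h, fun z =>
      (openSub_exists_lift_iff Y _ z).2 fun _ => Set.mem_univ _⟩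
  obtain ⟨T, ν, h, hT, hν, hfp, hh, hfac⟩ := hE
  have hO : IsAlgSpace (openSub Y (Set.univ : Set (AlgSp.Points Y))) :=
    isAlgSpace_openSub hY isOpen_univ
  refine ⟨T, ν ≫ ι, inv (pullback.fst f ι) ≫ h, hT, ?_,
    locP_comp hT hO hY hfp (locP_of_repWith (repWith_mono (P := @IsOpenImmersion) (fun _ _ k (_ : IsOpenImmersion k) => (inferInstance : LocallyOfFinitePresentation k)) (repWith_isIso ι))),
    repWith_comp (repWith_isIso _) hh, ?_⟩
  · exact affWith_of_repWith EnvKind.le_isAffineHom
      (repWith_comp (repWith_of_affWith hν) (repWith_mono (P := @IsClosedImmersion) EnvKind.closed (repWith_isIso ι)))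
  · rw [Category.assoc, reassoc_of% hfac, ← pullback.condition, IsIso.inv_hom_id_assoc]

end

end Groth.AlgSp2.Approx
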