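import Groth.Agent.SpLimit.SchemeLimit
import Groth.Agent.SpLimit.AffineRows
import Groth.Agent.AlgSpBasic.IntegralCover
import Mathlib.AlgebraicGeometry.AffineTransitionLimit

/-!
# Local lifts to a chart descend to a stage of a limit
-/

set_option autoImplicit false
set_option linter.unusedSectionVars false
set_option backward.isDefEq.respectTransparency false
set_option backward.isDefEq.respectTransparency.types false
universe u

open CategoryTheory CategoryTheory.Limits AlgebraicGeometry Opposite AlgSp TopologicalSpace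

namespace Groth.AlgSp2.Approx

open Groth.AlgSpBasic Groth.SpLimit

noncomputable section

variable {S : Scheme.{u}}

/-- Quasi-compactness is inherited along affine morphisms. -/
theorem isQuasiCompactSp_of_affineMor {X Y : Sp S} {f : X ⟶ Y} (_hX : IsAlgSpace X)
    (hf : IsAffineMor f) (hY : IsAlgSpace Y) (hqc : IsQuasiCompactSp Y) : IsQuasiCompactSp X := by
  obtain ⟨U, a, hU, hae, has⟩ := exists_affine_chart hY hqc
  have hr := isAffineMor_iff_repWith.1 hf
  obtain ⟨M, m, t, sq⟩ := hr.rep a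
  have : IsAffineHom m.left := hr.property _ _ _ sq
  have : IsAffine M.left := isAffine_of_isAffineHom m.left
  exact ⟨M, t, repWith_of_isPullback sq.flip hae, repWith_of_isPullback sq.flip has, inferInstance⟩

/-- Quasi-separatedness is inherited along affine morphisms. -/
theorem isQuasiSeparatedSp_of_affineMor {X Y : Sp S} {f : X ⟶ Y} (hX : IsAlgSpace X)
    (hf : IsAffineMor f) (hqs : IsQuasiSeparatedSp Y) : IsQuasiSeparatedSp X := by
  refine isQuasiSeparatedSp_of_mor (f := f) ?_ hqs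
  exact repWith_mono (fun _ _ g (_ : IsClosedImmersion g) => (inferInstance : QuasiCompact g))
    (repWith_diagonal_of_isAffineMor hX hf)

/-- Local lifts are preserved by precomposition with an isomorphism. -/
theorem localFactor_iso {X : Sp S} {U Y Y' : Over S} {b : (yon S).obj U ⟶ X}
    {g : (yon S).obj Y ⟶ X} (h : LocalFactor b g) (e : Y' ≅ Y) :
    LocalFactor b ((yon S).map e.hom ≫ g) := fun y => by
  obtain ⟨V, j, c, hj, ⟨v, hv⟩, hc⟩ := h (e.hom.left y)
  have : IsIso e.inv.left := inferInstanceAs (IsIso ((Over.forget S).map e.inv))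
  refine ⟨V, j ≫ e.inv, c, inferInstanceAs (IsOpenImmersion (j.left ≫ e.inv.left)), ⟨v, ?_⟩, ?_⟩
  · show (j.left ≫ e.inv.left) v = y
    rw [Scheme.Hom.comp_apply, hv, ← Scheme.Hom.comp_apply, ← Over.comp_left, e.hom_inv_id]
    rfl
  · rw [hc, ← Category.assoc ((yon S).map (j ≫ e.inv)), ← Functor.map_comp, Category.assoc,
      e.inv_hom_id, Category.comp_id]

/-- A map to an etale scheme over a space from the limit of an affine piece of a system comes from
a stage. -/
theorem exists_lift_piece {K : Type u} [SmallCategory K] [IsCofiltered K] {X : Sp S} {U : Over S}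
    {b : (yon S).obj U ⟶ X} (hb : RepWith @Etale b) (E : K ⥤ Over S) (L : Cone E)
    (hL : IsLimit ((Over.forget S).mapCone L))
    [∀ {k l : K} (m : k ⟶ l), IsAffineHom ((E ⋙ Over.forget S).map m)]
    (γ : ∀ k, (yon S).obj (E.obj k) ⟶ X) (hγ : ∀ {k l : K} (m : k ⟶ l), (yon S).map (E.map m) ≫ γ l = γ k)
    (i : K) (V : (E.obj i).left.Opens) (hV : IsAffineOpen V)
    (l : Over.mk (((L.π.app i).left ⁻¹ᵁ V).ι ≫ L.pt.hom) ⟶ U)
    (hl : (yon S).map l ≫ b =
      (yon S).map (Over.homMk ((L.π.app i).left ⁻¹ᵁ V).ι rfl : Over.mk (((L.π.app i).left ⁻¹ᵁ V).ι ≫ L.pt.hom) ⟶ L.pt) ≫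
        (yon S).map (L.π.app i) ≫ γ i) :
    ∃ (k : K) (φ : k ⟶ i) (g : Over.mk (((E.map φ).left ⁻¹ᵁ V).ι ≫ (E.obj k).hom) ⟶ U),
      (yon S).map g ≫ b =
        (yon S).map (Over.homMk ((E.map φ).left ⁻¹ᵁ V).ι rfl : Over.mk (((E.map φ).left ⁻¹ᵁ V).ι ≫ (E.obj k).hom) ⟶ E.obj k) ≫ γ k := by
  let D := E ⋙ Over.forget S
  let cD := (Over.forget S).mapCone L
  let Vo : Over S := Over.mk (V.ι ≫ (E.obj i).hom)
  let vi : Vo ⟶ E.obj i := Over.homMk V.ι rfl
  obtain ⟨P, p₂, p₁', sq⟩ := hb.rep ((yon S).map vi ≫ γ i)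
  obtain ⟨p₁, rfl⟩ := (yon S).map_surjective p₁'
  have : Etale p₂.left := hb.property _ _ _ sq
  have (k : Over i) : IsAffine ((opensDiagram D i V).obj k) := hV.preimage _
  let W : L.pt.left.Opens := (L.π.app i).left ⁻¹ᵁ V
  let Wo : Over S := Over.mk (W.ι ≫ L.pt.hom)
  let wV : Wo ⟶ Vo := Over.homMk ((L.π.app i).left ∣_ V) (by
    show ((L.π.app i).left ∣_ V) ≫ V.ι ≫ (E.obj i).hom = W.ι ≫ L.pt.hom
    exact (morphismRestrict_ι_assoc _ _ _).trans (congrArg (W.ι ≫ ·) (Over.w (L.π.app i))))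
  have hwV : wV ≫ vi = (Over.homMk W.ι rfl : Wo ⟶ L.pt) ≫ L.π.app i :=
    Over.OverMorphism.ext (morphismRestrict_ι _ _)
  obtain ⟨s, hs⟩ := (yon S).map_surjective (sq.lift ((yon S).map l) ((yon S).map wV) (by
    rw [hl, ← Category.assoc, ← Functor.map_comp, ← Category.assoc, ← Functor.map_comp, hwV]))
  have hs₁ : s ≫ p₁ = l := (yon S).map_injective (by rw [Functor.map_comp, hs, sq.lift_fst])
  have hs₂ : s ≫ p₂ = wV := (yon S).map_injective (by rw [Functor.map_comp, hs, sq.lift_snd])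
  let t : opensDiagram D i V ⟶ (Functor.const (Over i)).obj V.toScheme :=
    { app := fun k => (D.map k.hom) ∣_ V
      naturality := fun k k' m => by
        show (D.map m.left).resLE _ _ _ ≫ (D.map k'.hom ∣_ V) = (D.map k.hom ∣_ V) ≫ 𝟙 _
        rw [Category.comp_id, ← cancel_mono V.ι, Category.assoc, morphismRestrict_ι,
          morphismRestrict_ι, Scheme.Hom.resLE_comp_ι_assoc, ← D.map_comp, Over.w m] }
  obtain ⟨k, g, -, hg⟩ := Scheme.exists_π_app_comp_eq_of_locallyOfFinitePresentation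
    (opensDiagram D i V) t p₂.left (opensCone D cD i V) (isLimitOpensCone D cD hL i V) s.left (by
      ext k
      show (cD.π.app k.left).resLE _ _ _ ≫ (D.map k.hom ∣_ V) = s.left ≫ p₂.left
      rw [← cancel_mono V.ι, ← Over.comp_left, hs₂, Category.assoc, morphismRestrict_ι,
        ← Category.assoc, Scheme.Hom.resLE_comp_ι, Category.assoc, cD.w]
      exact (morphismRestrict_ι _ _).symm)
  let Vk : Over S := Over.mk (((E.map k.hom).left ⁻¹ᵁ V).ι ≫ (E.obj k.left).hom)
  let g' : Vk ⟶ P := Over.homMk g (by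
    show g ≫ P.hom = ((E.map k.hom).left ⁻¹ᵁ V).ι ≫ (E.obj k.left).hom
    rw [← Over.w p₂, ← Category.assoc, hg]
    show ((E.map k.hom).left ∣_ V) ≫ V.ι ≫ (E.obj i).hom = _
    rw [morphismRestrict_ι_assoc, Over.w (E.map k.hom)])
  refine ⟨k.left, k.hom, g' ≫ p₁, ?_⟩
  have e : g' ≫ p₂ ≫ vi = (Over.homMk ((E.map k.hom).left ⁻¹ᵁ V).ι rfl : Vk ⟶ E.obj k.left) ≫ E.map k.hom := by
    apply Over.OverMorphism.ext
    show g ≫ p₂.left ≫ V.ι = ((E.map k.hom).left ⁻¹ᵁ V).ι ≫ (E.map k.hom).left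
    rw [reassoc_of% hg]
    exact morphismRestrict_ι _ _
  rw [Functor.map_comp, Category.assoc, sq.w, ← Category.assoc, ← Functor.map_comp,
    ← Category.assoc, ← Functor.map_comp, Category.assoc, e, Functor.map_comp, Category.assoc, hγ]

variable {I : Type u} [SmallCategory I] [IsCofiltered I] {D : I ⥤ Sp S} {c : Cone D}

set_option maxHeartbeats 2000000 in
/-- A scheme which is a limit of qcqs spaces over a space, and which lifts locally to a chart, is a
limit of schemes with the same property. -/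
theorem exists_scheme_stage [QuasiSeparatedSpace ↥S] (hD : ∀ i, IsAlgSpace (D.obj i))
    (hDa : ∀ (i j : I) (φ : i ⟶ j), IsAffineMor (D.map φ)) (hc : IsLimit c)
    (hqc : ∀ i, IsQuasiCompactSp (D.obj i)) (hqs : ∀ i, IsQuasiSeparatedSp (D.obj i))
    {X : Sp S} (t : D ⟶ (Functor.const I).obj X) {W : Over S} (e : (yon S).obj W ≅ c.pt)
    {g₀ : (yon S).obj W ⟶ X} (hg : ∀ i, e.hom ≫ c.π.app i ≫ t.app i = g₀)
    {U : Over S} {b : (yon S).obj U ⟶ X} (hb : RepWith @Etale b) (hf : LocalFactor b g₀) :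
    ∃ (i : I) (Y : Over S) (e' : (yon S).obj Y ≅ D.obj i), LocalFactor b (e'.hom ≫ t.app i) := by
  classical
  obtain ⟨i₁, T, ⟨eT⟩⟩ := exists_scheme_of_limit hD hDa hc hqc hqs e
  let eT' := isoOfRepresentableBy eT
  have : CompactSpace ↥T.left := (isQuasiCompactSp_yon_iff T).1
    (isQuasiCompactSp_of_affineMor (IsAlgSpace.yon_obj T)
      (isAffineMor_iff_repWith.2 (repWith_isIso eT'.hom)) (hD i₁) (hqc i₁))
  obtain ⟨P⟩ := nonempty_pullSys D hDa hc i₁ eT'.hom
  have hp : ∀ k, IsIso (P.p k) := fun k => (P.sq k).isIso_fst_of_isIso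
  have htop : IsIso P.top := P.sqTop.isIso_fst_of_isIso
  let E := P.E ⋙ Over.forget S
  let cE := (Over.forget S).mapCone P.L
  have hEa : ∀ {k l : Over i₁} (m : k ⟶ l), IsAffineHom (E.map m) := fun m => P.aff_map m
  have hEc : ∀ k, CompactSpace ↥(E.obj k) := fun k => by
    have := P.aff k
    exact QuasiCompact.compactSpace_of_compactSpace (P.q k).left
  have hLc : CompactSpace ↥P.L.pt.left := by
    have := P.isAffineHom_bot
    exact QuasiCompact.compactSpace_of_compactSpace P.bot.left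
  let γ : ∀ k, (yon S).obj (P.E.obj k) ⟶ X := fun k => P.p k ≫ t.app k.left
  have hγ : ∀ {k l : Over i₁} (m : k ⟶ l), (yon S).map (P.E.map m) ≫ γ l = γ k := fun {k l} m => by
    show _ ≫ P.p l ≫ t.app l.left = P.p k ≫ t.app k.left
    rw [← Category.assoc, P.map_p, Category.assoc, t.naturality]
    exact congrArg (P.p k ≫ ·) (Category.comp_id _)
  -- the lift on the limit
  let w := (yon S).preimageIso (asIso P.top ≪≫ e.symm)
  have hfL : LocalFactor b ((yon S).map w.hom ≫ g₀) := localFactor_iso hf w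
  have hπ : ∀ k, (yon S).map (P.L.π.app k) ≫ γ k = (yon S).map w.hom ≫ g₀ := fun k => by
    show _ ≫ P.p k ≫ t.app k.left = _
    rw [← Category.assoc, ← P.top_π k, ← hg k.left]
    simp [w]
  -- the loci of lifting
  let O : ∀ k, (E.obj k).Opens := fun k =>
    ⟨{y | ∃ (V : Over S) (j : V ⟶ P.E.obj k) (l : V ⟶ U), IsOpenImmersion j.left ∧
        y ∈ Set.range j.left ∧ (yon S).map l ≫ b = (yon S).map j ≫ γ k},
      isOpen_iff_forall_mem_open.2 fun y ⟨V, j, l, hj, hy, hl⟩ =>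
        ⟨Set.range j.left, fun z hz => ⟨V, j, l, hj, hz, hl⟩, j.left.isOpenEmbedding.isOpen_range, hy⟩⟩
  have hmono : ∀ {k l : Over i₁} (m : k ⟶ l), E.map m ⁻¹ᵁ O l ≤ O k := by
    rintro k l m y ⟨V, j, f, hj, hy, hf⟩
    have := hj
    let V' : Over S := Over.mk (((P.E.map m).left ⁻¹ᵁ j.left.opensRange).ι ≫ (P.E.obj k).hom)
    let j' : V' ⟶ P.E.obj k := Over.homMk ((P.E.map m).left ⁻¹ᵁ j.left.opensRange).ι rfl
    have hr : Set.range (j' ≫ P.E.map m).left ⊆ Set.range j.left := by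
      rintro _ ⟨z, rfl⟩
      exact z.2
    let r : V' ⟶ V := Over.homMk (IsOpenImmersion.lift j.left (j' ≫ P.E.map m).left hr) (by
      rw [← Over.w j, IsOpenImmersion.lift_fac_assoc, Over.w])
    have hrj : r ≫ j = j' ≫ P.E.map m := Over.OverMorphism.ext (IsOpenImmersion.lift_fac _ _ _)
    refine ⟨V', j', r ≫ f, inferInstanceAs (IsOpenImmersion (Scheme.Opens.ι _)), ⟨⟨y, hy⟩, rfl⟩, ?_⟩
    rw [Functor.map_comp, Category.assoc, hf, ← Category.assoc, ← Functor.map_comp, hrj,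
      Functor.map_comp, Category.assoc, hγ]
  have hcover : ∀ x : ↥P.L.pt.left, ∃ k, (P.L.π.app k).left x ∈ O k := by
    intro x
    obtain ⟨V₀, j₀, c₀, hj₀, hx, hc₀⟩ := hfL x
    have := hj₀
    obtain ⟨_, ⟨i, V, hV, rfl⟩, hxV, hle⟩ := Opens.isBasis_iff_nbhd.1
      (isBasis_preimage_isAffineOpen E cE P.isLimit) (U := j₀.left.opensRange) (x := x) hx
    let W := (P.L.π.app i).left ⁻¹ᵁ V
    have hr : Set.range W.ι ⊆ Set.range j₀.left := by
      rw [Scheme.Opens.range_ι]; exact fun z hz => hle hz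
    let r : Over.mk (W.ι ≫ P.L.pt.hom) ⟶ V₀ := Over.homMk (IsOpenImmersion.lift j₀.left W.ι hr) (by
      rw [← Over.w j₀, IsOpenImmersion.lift_fac_assoc]; rfl)
    have hrj : r ≫ j₀ = Over.homMk W.ι rfl := Over.OverMorphism.ext (IsOpenImmersion.lift_fac _ _ _)
    obtain ⟨k, φ, g, hgb⟩ := exists_lift_piece hb P.E P.L P.isLimit γ hγ i V hV
      (r ≫ c₀) (by
        rw [Functor.map_comp, Category.assoc, hc₀, ← Category.assoc, ← Functor.map_comp, hrj, hπ])
    refine ⟨k, Over.mk (((P.E.map φ).left ⁻¹ᵁ V).ι ≫ (P.E.obj k).hom),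
      Over.homMk ((P.E.map φ).left ⁻¹ᵁ V).ι rfl, g,
      inferInstanceAs (IsOpenImmersion (Scheme.Opens.ι _)), ?_, hgb⟩
    refine (Scheme.Opens.range_ι ((P.E.map φ).left ⁻¹ᵁ V)).ge ?_
    show (P.E.map φ).left ((P.L.π.app k).left x) ∈ V
    rw [← Scheme.Hom.comp_apply, ← Over.comp_left, P.L.w φ]
    exact hxV
  choose κ hκ using hcover
  let N : ↥P.L.pt.left → P.L.pt.left.Opens := fun x => (P.L.π.app (κ x)).left ⁻¹ᵁ O (κ x)
  obtain ⟨s, hs⟩ := isCompact_univ.elim_finite_subcover (fun x => (N x : Set ↥P.L.pt.left))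
    (fun x => (N x).isOpen) fun x _ => Set.mem_iUnion.2 ⟨x, hκ x⟩
  obtain ⟨k, hk⟩ := IsCofiltered.inf_objs_exists (s.image κ)
  have htop' : cE.π.app k ⁻¹ᵁ O k = ⊤ := top_le_iff.1 fun x _ => by
    obtain ⟨y, hy, hxy⟩ := Set.mem_iUnion₂.1 (hs (Set.mem_univ x))
    obtain ⟨m⟩ := hk (Finset.mem_image_of_mem κ hy)
    refine hmono m ?_
    show (P.E.map m).left ((P.L.π.app k).left x) ∈ O (κ y)
    rw [← Scheme.Hom.comp_apply, ← Over.comp_left, P.L.w m]
    exact hxy
  obtain ⟨l, ψ, hl⟩ := exists_map_eq_top E cE P.isLimit (O k) htop'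
  refine ⟨l.left, P.E.obj l, asIso (P.p l), fun y => ?_⟩
  exact hmono ψ (hl.ge (Set.mem_univ y))

end

end Groth.AlgSp2.Approx
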