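import Groth.Agent.AlgSp2.Approx.IntegralApprox

/-!
# Affine morphisms to qcqs spaces are limits of affine, finitely presented ones
-/

set_option autoImplicit false
set_option linter.unusedSectionVars false
set_option backward.isDefEq.respectTransparency.types false
universe u

open CategoryTheory CategoryTheory.Limits AlgebraicGeometry Opposite AlgSp

namespace Groth.AlgSp2.Approx

open Groth.AlgSpBasic Groth.AlgSp2 Groth.AlgSp2.QcAffine

noncomputable section

variable {S : Scheme.{u}} [QuasiSeparatedSpace ↥S] {X Y : Sp S}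

/-- An affine space over a qcqs space is a limit of affine, finitely presented ones. -/
theorem exists_limit_affine (hY : IsAlgSpace Y) (hYqc : IsQuasiCompactSp Y)
    (hYqs : IsQuasiSeparatedSp Y) {f : X ⟶ Y} (hf : IsAffineMor f) :
    ∃ (I : Type u) (_ : Preorder I) (_ : IsDirected I (fun a b => a ≤ b)) (_ : Nonempty I)
      (D : Iᵒᵖ ⥤ Sp S) (t : D ⟶ (Functor.const Iᵒᵖ).obj Y) (c : Cone D) (_ : IsLimit c)
      (e : c.pt ≅ X),
      (∀ i, IsAlgSpace (D.obj i)) ∧ (∀ (i j : Iᵒᵖ) (φ : i ⟶ j), IsAffineMor (D.map φ)) ∧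
      (∀ i, IsAffineMor (t.app i) ∧ IsFinitePresentationMor (t.app i)) ∧
      (∀ i, e.inv ≫ c.π.app i ≫ t.app i = f) := by
  obtain ⟨A⟩ := exists_atlas hY hYqc hYqs
  obtain ⟨M⟩ := exists_models_affine hY hYqc hYqs hf A
  obtain ⟨E⟩ := M.exists_equations (n := 0) Fin.elim0 (fun r => r.elim0)
  refine ⟨E.Idx, inferInstance, ⟨fun i i' => ?_⟩, inferInstance, E.diag, E.diagBase, E.cone,
    E.isLimitCone, Iso.refl _, fun i => i.unop.isAlgSpace, fun i i' φ => E.isAffineMor_map φ.unop.le,
    fun i => ⟨affWith_isAffineHom_iff.1 (affWith_of_repWith le_rfl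
      (repWith_mono EnvKind.le_isAffineHom (E.kind_stage i.unop).1)), (E.kind_stage i.unop).2⟩,
    fun i => ?_⟩
  · obtain ⟨i'', h, h', -⟩ := Models.Equations.exists_ub i i' 0 0 (by rw [map_zero, map_zero])
    exact ⟨i'', h, h'⟩
  · show 𝟙 X ≫ E.toStage i.unop ≫ i.unop.ι ≫ M.base i.unop.F = f
    rw [Category.id_comp, reassoc_of% (E.toStage_ι i.unop), M.toP_base]

end

end Groth.AlgSp2.Approx
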