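import Groth.Agent.AlgSp2.SigmaUniversal
import Groth.Agent.AlgSp2.SpExtensive
import Groth.Agent.HenselPoint.SigmaRep

/-!
# Pullbacks to disjoint unions are computed on the summands
-/

set_option autoImplicit false
set_option linter.unusedSectionVars false
set_option backward.isDefEq.respectTransparency.types false
universe u

open CategoryTheory CategoryTheory.Limits AlgebraicGeometry Opposite AlgSp

namespace Groth.AlgSp2.Approx

open Groth.AlgSpBasic Groth.AlgSp2 Groth.AlgSp2.SpExtensive

noncomputable section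

variable {S : Scheme.{u}} {ι : Type u} {U W : ι → Over S}

/-- The map of disjoint unions. -/
def sigmaMap (w : ∀ i, W i ⟶ U i) : sigmaObj W ⟶ sigmaObj U :=
  sigmaOut fun i => w i ≫ sigmaIncl U i

@[reassoc]
theorem sigmaIncl_map (w : ∀ i, W i ⟶ U i) (i : ι) :
    sigmaIncl W i ≫ sigmaMap w = w i ≫ sigmaIncl U i :=
  sigmaIncl_out _ i

/-- The pullback to a disjoint union is the disjoint union of the pullbacks. -/
theorem exists_isPullback_sigma {X Y : Sp S} (g : X ⟶ Y) (A : (yon S).obj (sigmaObj U) ⟶ Y)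
    (q : ∀ i, (yon S).obj (W i) ⟶ X) (w : ∀ i, W i ⟶ U i)
    (sq : ∀ i, IsPullback (q i) ((yon S).map (w i)) g ((yon S).map (sigmaIncl U i) ≫ A)) :
    ∃ Q : (yon S).obj (sigmaObj W) ⟶ X, (∀ i, (yon S).map (sigmaIncl W i) ≫ Q = q i) ∧
      IsPullback Q ((yon S).map (sigmaMap w)) g A := by
  have sP := IsPullback.of_hasPullback g A
  let l : ∀ i, (yon S).obj (W i) ⟶ pullback g A := fun i =>
    sP.lift (q i) ((yon S).map (w i) ≫ (yon S).map (sigmaIncl U i)) (by
      rw [Category.assoc]; exact (sq i).w)
  have hl₁ : ∀ i, l i ≫ pullback.fst g A = q i := fun i => sP.lift_fst _ _ _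
  have hl₂ : ∀ i, l i ≫ pullback.snd g A =
      (yon S).map (w i) ≫ (yon S).map (sigmaIncl U i) := fun i => sP.lift_snd _ _ _
  have sl : ∀ i, IsPullback (l i) ((yon S).map (w i)) (pullback.snd g A)
      ((yon S).map (sigmaIncl U i)) := fun i =>
    IsPullback.of_right (by rw [hl₁]; exact sq i) (hl₂ i) sP
  let e : (yon S).obj (sigmaObj W) ≅ pullback g A :=
    (isColimitSigma W).coconePointUniqueUpToIso (isColimitSigmaBaseChange U sl)
  have he : ∀ i, (yon S).map (sigmaIncl W i) ≫ e.hom = l i := fun i =>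
    IsColimit.comp_coconePointUniqueUpToIso_hom (isColimitSigma W) (isColimitSigmaBaseChange U sl) ⟨i⟩
  refine ⟨e.hom ≫ pullback.fst g A, fun i => by rw [reassoc_of% (he i), hl₁],
    IsPullback.of_iso sP e.symm (Iso.refl _) (Iso.refl _) (Iso.refl _) (by simp) ?_ (by simp)
      (by simp)⟩
  simp only [Iso.symm_hom, Iso.refl_hom, Category.comp_id]
  rw [Iso.eq_inv_comp]
  refine (sigma_hom_ext W fun i => ?_).symm
  rw [← Category.assoc, he, hl₂, ← Functor.map_comp, ← Functor.map_comp, sigmaIncl_map]

/-- A summand is the inverse image of the corresponding summand. -/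
theorem isPullback_component (w : ∀ i, W i ⟶ U i) (i : ι) :
    IsPullback (sigmaIncl W i) (w i) (sigmaMap w) (sigmaIncl U i) :=
  IsPullback.of_map (yon S) (sigmaIncl_map w i)
    ((((isVanKampenColimit_sp _ (isColimitSigma U)) (Cofan.mk _ fun i => (yon S).map (sigmaIncl W i))
      (Discrete.natTrans fun j => (yon S).map (w j.as)) ((yon S).map (sigmaMap w))
      (NatTrans.ext (funext fun ⟨j⟩ => by
        show (yon S).map (w j) ≫ (yon S).map (sigmaIncl U j) =
          (yon S).map (sigmaIncl W j) ≫ (yon S).map (sigmaMap w)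
        rw [← Functor.map_comp, ← Functor.map_comp, sigmaIncl_map]))
      (NatTrans.Equifibered.of_discrete _)).1 ⟨isColimitSigma W⟩) ⟨i⟩)

/-- A property local on the target holds for a map of disjoint unions if it holds on the summands. -/
theorem sigmaMap_prop {P : MorphismProperty Scheme.{u}} [IsZariskiLocalAtTarget P]
    (w : ∀ i, W i ⟶ U i) (h : ∀ i, P (w i).left) : P (sigmaMap w).left := by
  refine (IsZariskiLocalAtTarget.iff_of_openCover (P := P)
    (sigmaOpenCover fun i => (U i).left)).2 fun i => ?_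
  have sq := isPullback_left (isPullback_component w i)
  refine (P.arrow_mk_iso_iff (Arrow.isoMk sq.isoPullback (Iso.refl _) ?_)).1 (h i)
  simp only [Arrow.mk_hom, Iso.refl_hom, Category.comp_id]
  exact sq.isoPullback_hom_snd

end

end Groth.AlgSp2.Approx
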