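import Groth.Agent.AlgSp2.Approx.Envelope
import Groth.Agent.AlgSp2.FiniteMor

/-!
# Finite, finitely presented morphisms of spaces
-/

set_option autoImplicit false
set_option backward.isDefEq.respectTransparency.types false
universe u

open CategoryTheory CategoryTheory.Limits AlgebraicGeometry Opposite AlgSp

namespace Groth.AlgSp2.Approx

open Groth.AlgSpBasic Groth.AlgSp2

variable {S : Scheme.{u}} {T Y : Sp S}

variable {Q : MorphismProperty Scheme.{u}} [EnvKind Q]

theorem isFinitePresentationMor_of_kind (hT : IsAlgSpace T) (hY : IsAlgSpace Y) {ν : T ⟶ Y}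
    (hν : RepWith Q ν) (hfp : LocP @LocallyOfFinitePresentation ν) :
    IsFinitePresentationMor ν := by
  have hsr : RepWith @IsSeparated ν :=
    repWith_mono (fun _ _ k h => by have := EnvKind.isAffineHom (Q := Q) (f := k) h; infer_instance) hν
  exact ⟨hfp, isQuasiCompactMor_of_repWith hT hY
    (repWith_mono (fun _ _ k h => by have := EnvKind.isAffineHom (Q := Q) (f := k) h; infer_instance) hν),
    repWith_mono (fun _ _ k (_ : IsClosedImmersion k) => (inferInstance : QuasiCompact k))
      ((repWith_isSeparated_iff hsr.rep).2 hsr)⟩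

/-- A finitely presented closed subspace of a finitely presented space with `Q` is one. -/
theorem closed_comp_kind {Z : Sp S} (hZ : IsAlgSpace Z) (hT : IsAlgSpace T) (hY : IsAlgSpace Y)
    {ν : T ⟶ Y} (hν : AffWith Q ν) (hfp : LocP @LocallyOfFinitePresentation ν)
    {i : Z ⟶ T} (hi : RepWith @IsClosedImmersion i) (hifp : LocP @LocallyOfFinitePresentation i) :
    RepWith Q (i ≫ ν) ∧ IsFinitePresentationMor (i ≫ ν) := by
  have h : RepWith Q (i ≫ ν) := repWith_comp (repWith_mono EnvKind.closed hi) (repWith_of_affWith hν)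
  exact ⟨h, isFinitePresentationMor_of_kind hZ hY h (locP_comp hZ hT hY hifp hfp)⟩

/-- A finitely presented closed subspace of a finite, finitely presented space is one. -/
theorem closed_comp_finite {Z : Sp S} (hZ : IsAlgSpace Z) (hT : IsAlgSpace T) (hY : IsAlgSpace Y)
    {ν : T ⟶ Y} (hν : AffWith @IsFinite ν) (hfp : LocP @LocallyOfFinitePresentation ν)
    {i : Z ⟶ T} (hi : RepWith @IsClosedImmersion i) (hifp : LocP @LocallyOfFinitePresentation i) :
    IsFiniteMor (i ≫ ν) ∧ IsFinitePresentationMor (i ≫ ν) :=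
  ⟨(isFiniteMor_iff hZ hY).2 (closed_comp_kind hZ hT hY hν hfp hi hifp).1,
    (closed_comp_kind hZ hT hY hν hfp hi hifp).2⟩

theorem isFinitePresentationMor_of_finite (hT : IsAlgSpace T) (hY : IsAlgSpace Y) {ν : T ⟶ Y}
    (hν : RepWith @IsFinite ν) (hfp : LocP @LocallyOfFinitePresentation ν) :
    IsFinitePresentationMor ν :=
  isFinitePresentationMor_of_kind hT hY hν hfp

end Groth.AlgSp2.Approx
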