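import Groth.Agent.AlgSp2.QcAffine.Stable
import Groth.Agent.AlgSpBasic.FiltrationQS
import Groth.Agent.AlgSpBasic.Compact

/-!
# Affine atlases of quasi-compact quasi-separated spaces
-/

set_option autoImplicit false
set_option backward.isDefEq.respectTransparency.types false
universe u

open CategoryTheory CategoryTheory.Limits AlgebraicGeometry Opposite AlgSp

namespace Groth.AlgSp2.Approx

open Groth.AlgSpBasic Groth.AlgSp2.QcAffine

variable {S : Scheme.{u}}

/-- An affine etale atlas with the finiteness properties of those of qcqs spaces. -/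
structure Atlas (Y : Sp S) : Type (u + 1) where
  C : Chart Y
  etale : RepWith @Etale C.b
  surj : RepWith @Surjective C.b
  qc : RepWith @QuasiCompact C.b
  deg : ℕ
  bdd : W4dec.DegFibresLE deg C.b

theorem exists_atlas [QuasiSeparatedSpace ↥S] {Y : Sp S} (hY : IsAlgSpace Y)
    (hqc : IsQuasiCompactSp Y) (hqs : IsQuasiSeparatedSp Y) : Nonempty (Atlas Y) := by
  obtain ⟨U, a, hU, hae, has⟩ := exists_affine_chart hY hqc
  obtain ⟨d, hd⟩ := exists_degFibresLE_of_qs hY hqs hae
  exact ⟨⟨⟨U, hU, a⟩, hae, has, repWith_quasiCompact_of_qs hY hqs a, d, hd⟩⟩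

theorem Atlas.exists_stable {Y N : Sp S} {ν : N ⟶ Y} (hν : IsAffineMor ν) (hY : IsAlgSpace Y)
    (A : Atlas Y) (M : QSub hν) (G : Submodule (fns A.C) (sections hν A.C)) (hG : G.FG)
    (hle : G ≤ M.M A.C) :
    ∃ G', G'.FG ∧ G ≤ G' ∧ G' ≤ M.M A.C ∧ StableOn hν A.C Set.univ G' :=
  exists_stable_sub hν A.C M hY A.etale (surjective_ofPt_of_repWith A.surj) A.qc A.bdd G hG hle

/-- Every point of a chart has an etale neighbourhood mapping to the atlas. -/
theorem Atlas.exists_lift {Y : Sp S} (hY : IsAlgSpace Y) (A : Atlas Y) (E : Chart Y)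
    (z : ↥E.Z.left) : ∃ (F : Chart Y) (e : CHom F E) (_ : CHom F A.C),
      Etale e.f.left ∧ z ∈ Set.range e.f.left := by
  obtain ⟨P, p₁, p₂, sq⟩ := exists_pullback_of_diag hY.diag E.b A.C.b
  have : Etale p₁.left := repWith_fst_of_isPullback sq.flip A.etale
  have : Surjective p₁.left := repWith_fst_of_isPullback sq.flip A.surj
  obtain ⟨m, hm⟩ := p₁.left.surjective z
  obtain ⟨W, hW, hmW, -⟩ := exists_isAffineOpen_mem_and_subset (U := ⊤) (x := m) trivial
  exact ⟨sub ((yon S).map p₁ ≫ E.b) W hW, subTo W hW p₁ rfl, subTo W hW p₂ sq.w.symm,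
    inferInstanceAs (Etale ((subι W).left ≫ p₁.left)), ⟨⟨m, hmW⟩, hm⟩⟩

/-- Finitely many etale neighbourhoods mapping to the atlas cover a chart. -/
theorem Atlas.exists_cover {Y : Sp S} (hY : IsAlgSpace Y) (A : Atlas Y) (E : Chart Y) :
    ∃ (n : ℕ) (F : Fin n → Chart Y) (e : ∀ k, CHom (F k) E) (_ : ∀ k, CHom (F k) A.C),
      (∀ k, Etale (e k).f.left) ∧ ∀ z : ↥E.Z.left, ∃ k, z ∈ Set.range (e k).f.left := by
  choose F e c he hz using A.exists_lift hY E
  obtain ⟨t, ht⟩ := isCompact_univ.elim_finite_subcover (fun z => Set.range (e z).f.left)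
    (fun z => (etale_isOpenMap (e z).f.left (he z)).isOpen_range)
    (fun z _ => Set.mem_iUnion.2 ⟨z, hz z⟩)
  refine ⟨t.card, fun k => F (t.equivFin.symm k).1, fun k => e _, fun k => c _, fun k => he _,
    fun x => ?_⟩
  obtain ⟨k, hk, hx⟩ := Set.mem_iUnion₂.1 (ht (Set.mem_univ x))
  have key : ∀ y : t, y = ⟨k, hk⟩ → x ∈ Set.range (e y.1).f.left := by
    rintro _ rfl
    exact hx
  exact ⟨t.equivFin ⟨k, hk⟩, key _ (Equiv.symm_apply_apply _ _)⟩

end Groth.AlgSp2.Approx
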