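import Groth.Agent.AlgSp2.Approx.KerSub
import Groth.Agent.AlgSp2.QcAffine.Model

/-!
# Morphisms of affine spaces over a base on charts, and their kernels
-/

set_option autoImplicit false
set_option linter.unusedSectionVars false
set_option backward.isDefEq.respectTransparency.types false
universe u

open CategoryTheory CategoryTheory.Limits AlgebraicGeometry Opposite AlgSp

namespace Groth.AlgSp2.Approx

open Groth.AlgSpBasic Groth.AlgSp2.QcAffine Groth.AlgSp3

noncomputable section

variable {S : Scheme.{u}} {Y X P R : Sp S} {f : X ⟶ Y} {π : P ⟶ Y} {ρ : R ⟶ Y}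
  (hf : IsAffineMor f) (hπ : IsAffineMor π) (hρ : IsAffineMor ρ)

/-- A morphism over the base on the inverse image of a chart. -/
def chartMap (m : X ⟶ P) (hm : m ≫ π = f) (C : Chart Y) : tot hf C ⟶ tot hπ C :=
  (yon S).preimage ((isPullback_tot hπ C).lift (toN hf C ≫ m) ((yon S).map (proj hf C))
    (by rw [Category.assoc, hm, (isPullback_tot hf C).w]))

theorem chartMap_toN (m : X ⟶ P) (hm : m ≫ π = f) (C : Chart Y) :
    (yon S).map (chartMap hf hπ m hm C) ≫ toN hπ C = toN hf C ≫ m := by
  rw [chartMap, Functor.map_preimage, IsPullback.lift_fst]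

theorem chartMap_proj (m : X ⟶ P) (hm : m ≫ π = f) (C : Chart Y) :
    chartMap hf hπ m hm C ≫ proj hπ C = proj hf C := (yon S).map_injective (by
  rw [Functor.map_comp, chartMap, Functor.map_preimage, IsPullback.lift_snd])

theorem chartMap_comp (m : X ⟶ P) (hm : m ≫ π = f) (n : P ⟶ R) (hn : n ≫ ρ = π) (l : X ⟶ R)
    (hl : l ≫ ρ = f) (e : m ≫ n = l) (C : Chart Y) :
    chartMap hf hπ m hm C ≫ chartMap hπ hρ n hn C = chartMap hf hρ l hl C := (yon S).map_injective (by
  apply (isPullback_tot hρ C).hom_ext
  · rw [Functor.map_comp, Category.assoc, chartMap_toN, ← Category.assoc, chartMap_toN,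
      Category.assoc, e, chartMap_toN]
  · rw [← Functor.map_comp, ← Functor.map_comp, Category.assoc, chartMap_proj, chartMap_proj,
      chartMap_proj])

theorem totMap_chartMap (m : X ⟶ P) (hm : m ≫ π = f) {C' C : Chart Y} (d : CHom C' C) :
    chartMap hf hπ m hm C' ≫ totMap hπ d = totMap hf d ≫ chartMap hf hπ m hm C :=
  (yon S).map_injective (by
    apply (isPullback_tot hπ C).hom_ext
    · rw [Functor.map_comp, Category.assoc, totMap_toN, chartMap_toN, Functor.map_comp,
        Category.assoc, chartMap_toN, ← Category.assoc, totMap_toN]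
    · rw [← Functor.map_comp, ← Functor.map_comp, Category.assoc, totMap_proj, Category.assoc,
        chartMap_proj, totMap_proj, ← Category.assoc, chartMap_proj])

/-- The functions killed by a morphism. -/
def kerIdeal (m : X ⟶ P) (hm : m ≫ π = f) (C : Chart Y) : Ideal (sections hπ C) :=
  RingHom.ker (chartMap hf hπ m hm C).left.appTop.hom

theorem kerIdeal_eq_map (m : X ⟶ P) (hm : m ≫ π = f) {C' C : Chart Y} (d : CHom C' C)
    (hd : Flat d.f.left) :
    kerIdeal hf hπ m hm C' = (kerIdeal hf hπ m hm C).map (mapM hπ d) := by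
  let φ := chartMap hf hπ m hm C
  let φ' := chartMap hf hπ m hm C'
  refine le_antisymm ?_ (Ideal.map_le_iff_le_comap.2 fun z hz => ?_)
  · let K : (tot hπ C).left.IdealSheafData :=
      Scheme.IdealSheafData.ofIdealTop (kerIdeal hf hπ m hm C)
    have : IsAffine K.subscheme := isAffine_of_isAffineHom K.subschemeι
    obtain ⟨l, hl⟩ : ∃ l, l ≫ K.subschemeι = φ.left := by
      refine ⟨IsClosedImmersion.lift K.subschemeι φ.left ?_, IsClosedImmersion.lift_fac _ _ _⟩
      rw [K.ker_subschemeι]
      refine Scheme.IdealSheafData.le_of_isAffine ?_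
      rw [Scheme.Hom.ker_apply]
      simp [K, kerIdeal, φ]; exact le_rfl
    have hinj : Function.Injective l.appTop := by
      rw [injective_iff_map_eq_zero]
      intro a ha
      obtain ⟨b, rfl⟩ := ((HasAffineProperty.iff_of_isAffine (P := @IsClosedImmersion)
        (f := K.subschemeι)).1 inferInstance).2 a
      have hb : b ∈ kerIdeal hf hπ m hm C := by
        show φ.left.appTop b = 0
        rw [← hl, Scheme.Hom.comp_appTop]
        exact ha
      have : b ∈ K.subschemeι.ker.ideal ⟨⊤, isAffineOpen_top _⟩ := by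
        rw [K.ker_subschemeι]; simpa [K] using hb
      rw [Scheme.Hom.ker_apply, RingHom.mem_ker] at this
      exact this
    -- base change
    obtain ⟨KC', k₁, k₂, sqK⟩ : ∃ (Q : Scheme.{u}) (k₁ : Q ⟶ K.subscheme) (k₂ : Q ⟶ (tot hπ C').left),
        IsPullback k₁ k₂ K.subschemeι (totMap hπ d).left := ⟨_, _, _, IsPullback.of_hasPullback _ _⟩
    have : IsClosedImmersion k₂ :=
      MorphismProperty.of_isPullback (P := @IsClosedImmersion) sqK inferInstance
    let l' := sqK.lift ((totMap hf d).left ≫ l) φ'.left (by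
      rw [Category.assoc, hl, ← Over.comp_left, ← Over.comp_left, totMap_chartMap])
    have hl'₁ : l' ≫ k₁ = (totMap hf d).left ≫ l := sqK.lift_fst _ _ _
    have hl'₂ : l' ≫ k₂ = φ'.left := sqK.lift_snd _ _ _
    have sqX : IsPullback (totMap hf d).left (proj hf C').left (proj hf C).left d.f.left :=
      isPullback_totMap hf d
    have sqP : IsPullback (totMap hπ d).left (proj hπ C').left (proj hπ C).left d.f.left :=
      isPullback_totMap hπ d
    have sqφ : IsPullback (totMap hf d).left φ'.left φ.left (totMap hπ d).left := by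
      refine IsPullback.of_bot ?_ ?_ sqP
      · rw [← Over.comp_left, ← Over.comp_left, chartMap_proj, chartMap_proj]
        exact sqX
      · rw [← Over.comp_left, ← Over.comp_left, totMap_chartMap]
    have sql : IsPullback (totMap hf d).left l' l k₁ :=
      IsPullback.of_bot (by rw [hl, hl'₂]; exact sqφ) hl'₁.symm sqK
    have : Flat (totMap hπ d).left :=
      MorphismProperty.of_isPullback (P := @Flat) sqP.flip hd
    have : Flat k₁ := MorphismProperty.of_isPullback (P := @Flat) sqK.flip inferInstance
    have : IsAffine KC' := isAffine_of_isAffineHom k₂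
    have hinj' := QcAffine.injective_appTop_of_isPullback sql hinj
    intro z hz
    have h0 : k₂.appTop z = 0 := by
      apply hinj'
      rw [map_zero]
      have e := congrArg (fun t : (tot hf C').left ⟶ (tot hπ C').left => t.appTop z) hl'₂
      simp only [Scheme.Hom.comp_appTop] at e
      exact e.trans hz
    have hk : k₂.ker = K.comap (totMap hπ d).left := by
      rw [← sqK.flip.isoPullback_hom_fst, Scheme.Hom.ker_comp_of_isIso,
        Scheme.IdealSheafData.ker_fst_of_isClosedImmersion, K.ker_subschemeι]
    have h1 : z ∈ k₂.ker.ideal ⟨⊤, isAffineOpen_top _⟩ := by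
      rw [Scheme.Hom.ker_apply, RingHom.mem_ker]
      exact h0
    rw [hk, Groth.BlowUpBasics.ideal_comap_top] at h1
    simpa [K, mapM] using h1
  · show φ'.left.appTop ((totMap hπ d).left.appTop z) = 0
    have e := congrArg (fun k => k.left.appTop z) (totMap_chartMap hf hπ m hm d)
    simp only [Over.comp_left, Scheme.Hom.comp_appTop] at e
    refine e.trans ?_
    show (totMap hf d).left.appTop (φ.left.appTop z) = 0
    rw [show φ.left.appTop z = 0 from hz, map_zero]

/-- The functions killed by a morphism, as a family. -/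
def kerHom (m : X ⟶ P) (hm : m ≫ π = f) : QSub hπ where
  M C := (kerIdeal hf hπ m hm C).restrictScalars (fns C)
  le d := by
    rw [push_restrictScalars]
    intro w hw
    rw [Submodule.restrictScalars_mem] at hw ⊢
    refine Ideal.map_le_iff_le_comap.2 (fun z hz => ?_) hw
    show (chartMap hf hπ m hm _).left.appTop ((totMap hπ d).left.appTop z) = 0
    have e := congrArg (fun k => k.left.appTop z) (totMap_chartMap hf hπ m hm d)
    simp only [Over.comp_left, Scheme.Hom.comp_appTop] at e
    refine e.trans ?_
    show (totMap hf d).left.appTop ((chartMap hf hπ m hm _).left.appTop z) = 0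
    rw [show (chartMap hf hπ m hm _).left.appTop z = 0 from hz, map_zero]
  eq d hd := by rw [push_restrictScalars, ← kerIdeal_eq_map hf hπ m hm d hd]

theorem mem_kerHom_iff (m : X ⟶ P) (hm : m ≫ π = f) (C : Chart Y) (z : sections hπ C) :
    z ∈ (kerHom hf hπ m hm).M C ↔ (chartMap hf hπ m hm C).left.appTop z = 0 := Iff.rfl

/-- A map into the space lifts to a closed subspace if the equations die on a chart. -/
theorem exists_lift_of_kills {Q Z : Sp S} {i : Z ⟶ P} (hi : RepWith @IsClosedImmersion i)
    (A : Atlas Y) {G : Submodule (fns A.C) (sections hπ A.C)}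
    (hI : secIdeal hπ hi A.C = Ideal.span (G : Set (sections hπ A.C))) (m : Q ⟶ P) {QU : Over S}
    {qQ : (yon S).obj QU ⟶ Q} {pQ : QU ⟶ A.C.Z}
    (sqQ : IsPullback qQ ((yon S).map pQ) (m ≫ π) A.C.b) (mU : QU ⟶ tot hπ A.C)
    (hmU : (yon S).map mU ≫ toN hπ A.C = qQ ≫ m)
    [IsAffine QU.left] (hkill : ∀ z ∈ G, mU.left.appTop z = 0) : ∃ k, k ≫ i = m := by
  rw [exists_lift_iff_comap_eq_bot_of_chart hi (isPullback_closedIncl hπ hi A.C) m
    (repWith_of_isPullback sqQ.flip A.etale) (repWith_of_isPullback sqQ.flip A.surj) hmU.symm,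
    ← le_ker_iff_comap_eq_bot]
  refine Scheme.IdealSheafData.le_of_isAffine ?_
  show secIdeal hπ hi A.C ≤ _
  rw [hI, Ideal.span_le, Scheme.Hom.ker_apply]
  intro z hz
  exact hkill z hz

end

end Groth.AlgSp2.Approx
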