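import Mathlib
import Groth.Agent.AlgSp3.NormAffine
import Groth.Agent.S0082

/-!
# Properties of morphisms to which the approximation machinery applies
-/

set_option autoImplicit false
set_option backward.isDefEq.respectTransparency.types false
universe u

open CategoryTheory CategoryTheory.Limits AlgebraicGeometry Opposite

namespace Groth.AlgSp2.Approx

/-- Affine morphisms locally of finite type. -/
abbrev AffFT : MorphismProperty Scheme.{u} := @IsAffineHom ⊓ @LocallyOfFiniteType

/-- A property stronger than being affine of finite type, stable under closed subschemes, local on the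
target and descending along flat covers: finite morphisms or affine morphisms of finite type. -/
class EnvKind (Q : MorphismProperty Scheme.{u}) : Prop where
  baseChange : Q.IsStableUnderBaseChange := by infer_instance
  zariski : IsZariskiLocalAtTarget Q := by infer_instance
  descends : Q.DescendsAlong (@Surjective ⊓ @Flat ⊓ @QuasiCompact) := by infer_instance
  comp : Q.IsStableUnderComposition := by infer_instance
  le : Q ≤ AffFT
  closed : (@IsClosedImmersion : MorphismProperty Scheme.{u}) ≤ Q
  /-- Over an affine base there are finitely presented envelopes. -/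
  envelope : ∀ {A B : Type u} [CommRing A] [CommRing B] [Algebra A B],
    Q (Spec.map (CommRingCat.ofHom (algebraMap A B))) →
    ∃ (C : Type u) (_ : CommRing C) (_ : Algebra A C) (ψ : C →ₐ[A] B), Function.Surjective ψ ∧
      Algebra.FinitePresentation A C ∧ Q (Spec.map (CommRingCat.ofHom (algebraMap A C)))

attribute [instance] EnvKind.baseChange EnvKind.zariski EnvKind.descends EnvKind.comp

variable {Q : MorphismProperty Scheme.{u}} [EnvKind Q]

theorem EnvKind.le_isAffineHom : Q ≤ @IsAffineHom := fun _ _ f h => (EnvKind.le f h).1

theorem EnvKind.isAffineHom {A B : Scheme.{u}} {f : A ⟶ B} (h : Q f) : IsAffineHom f :=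
  (EnvKind.le f h).1

theorem EnvKind.locallyOfFiniteType {A B : Scheme.{u}} {f : A ⟶ B} (h : Q f) :
    LocallyOfFiniteType f :=
  (EnvKind.le f h).2

theorem EnvKind.of_isIso {A B : Scheme.{u}} (f : A ⟶ B) [IsIso f] : Q f :=
  EnvKind.closed _ _ f inferInstance

theorem EnvKind.of_closed {A B : Scheme.{u}} (f : A ⟶ B) [IsClosedImmersion f] : Q f :=
  EnvKind.closed _ _ f inferInstance

instance : EnvKind.{u} @IsFinite where
  le _ _ _ (_ : IsFinite _) := ⟨inferInstance, inferInstance⟩
  closed _ _ _ (_ : IsClosedImmersion _) := inferInstance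
  envelope {A B} _ _ _ h := by
    have : Module.Finite A B := RingHom.finite_algebraMap.1 ((IsFinite.SpecMap_iff _).1 h)
    obtain ⟨n, g, hg⟩ := Algebra.FiniteType.iff_quotient_mvPolynomial''.1
      (inferInstance : Algebra.FiniteType A B)
    choose p hp hp0 using fun j : Fin n =>
      (Algebra.IsIntegral.isIntegral (R := A) (g (MvPolynomial.X j)))
    let I : Ideal (MvPolynomial (Fin n) A) :=
      Ideal.span (Set.range fun j => Polynomial.aeval (MvPolynomial.X j) (p j))
    have hI : I ≤ RingHom.ker g.toRingHom := Ideal.span_le.2 (by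
      rintro _ ⟨j, rfl⟩
      show g (Polynomial.aeval (MvPolynomial.X j) (p j)) = 0
      rw [← Polynomial.aeval_algHom_apply]
      exact hp0 j)
    have hfp : Algebra.FinitePresentation A (MvPolynomial (Fin n) A ⧸ I) :=
      Algebra.FinitePresentation.quotient (Submodule.fg_span (Set.finite_range _))
    refine ⟨MvPolynomial (Fin n) A ⧸ I, inferInstance, inferInstance, Ideal.Quotient.liftₐ I g hI,
      Ideal.Quotient.lift_surjective_of_surjective _ _ hg, hfp, ?_⟩
    let s : Set (MvPolynomial (Fin n) A ⧸ I) :=
      Set.range fun j => Ideal.Quotient.mkₐ A I (MvPolynomial.X j)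
    have hs : Algebra.adjoin A s = ⊤ := by
      have : s = Ideal.Quotient.mkₐ A I '' Set.range MvPolynomial.X := (Set.range_comp _ _)
      rw [this, Algebra.adjoin_image, MvPolynomial.adjoin_range_X, Algebra.map_top,
        AlgHom.range_eq_top]
      exact Ideal.Quotient.mkₐ_surjective A I
    have : (Algebra.adjoin A s).toSubmodule.FG := fg_adjoin_of_finite (Set.finite_range _) (by
      rintro _ ⟨j, rfl⟩
      refine ⟨p j, hp j, ?_⟩
      show Polynomial.aeval (Ideal.Quotient.mkₐ A I (MvPolynomial.X j)) (p j) = 0
      rw [Polynomial.aeval_algHom_apply]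
      exact Ideal.Quotient.eq_zero_iff_mem.2 (Ideal.subset_span ⟨j, rfl⟩))
    rw [hs, Algebra.top_toSubmodule] at this
    exact (IsFinite.SpecMap_iff _).2 (RingHom.finite_algebraMap.2 (Module.finite_def.2 this))

instance : EnvKind.{u} AffFT where
  le := le_rfl
  closed _ _ _ (_ : IsClosedImmersion _) := ⟨inferInstance, inferInstance⟩
  envelope {A B} _ _ _ h := by
    have : Algebra.FiniteType A B := RingHom.finiteType_algebraMap.1
      ((HasRingHomProperty.Spec_iff (P := @LocallyOfFiniteType)).1 h.2)
    obtain ⟨n, g, hg⟩ := Algebra.FiniteType.iff_quotient_mvPolynomial''.1 this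
    exact ⟨MvPolynomial (Fin n) A, inferInstance, inferInstance, g, hg, inferInstance,
      ⟨inferInstance, (HasRingHomProperty.Spec_iff (P := @LocallyOfFiniteType)).2
        (RingHom.finiteType_algebraMap.2 inferInstance)⟩⟩

end Groth.AlgSp2.Approx
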