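import Mathlib
import Groth.Agent.LocImm.FiniteFactorFP
import Groth.Agent.PropsBasic2.Misc
import Groth.Agent.Flatmor4.ThickFT
import Groth.Agent.AlgSpBasic.RepWith
import Groth.Agent.AlgSp2.Approx.EnvProp

/-!
# Extending a finitely presented closed subscheme from a quasi-compact open
-/

set_option autoImplicit false
set_option linter.unusedSectionVars false
set_option backward.isDefEq.respectTransparency.types false
universe u

open CategoryTheory CategoryTheory.Limits AlgebraicGeometry Opposite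

namespace Groth.AlgSp2.Approx

noncomputable section

variable {S : Scheme.{u}} {Q : MorphismProperty Scheme.{u}} [EnvKind Q]

/-- Finitely many affine opens inside an open cover a compact open. -/
theorem exists_affine_cover_open {T : Scheme.{u}} (W : T.Opens) (hW : IsCompact (W : Set T)) :
    ∃ s : Finset T.affineOpens, (∀ U ∈ s, U.1 ≤ W) ∧ ∀ x ∈ W, ∃ U ∈ s, x ∈ U.1 := by
  classical
  choose U hU hxU hUW using fun x : W =>
    exists_isAffineOpen_mem_and_subset (U := W) (x := x.1) x.2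
  obtain ⟨t, ht⟩ := hW.elim_finite_subcover (fun x => (U x : Set T)) (fun x => (U x).isOpen)
    fun x hx => Set.mem_iUnion.2 ⟨⟨x, hx⟩, hxU _⟩
  refine ⟨t.image fun x => ⟨U x, hU x⟩, fun V hV => ?_, fun x hx => ?_⟩
  · obtain ⟨y, -, rfl⟩ := Finset.mem_image.1 hV
    exact hUW y
  · obtain ⟨y, hy, hxy⟩ := Set.mem_iUnion₂.1 (ht hx)
    exact ⟨_, Finset.mem_image.2 ⟨y, hy, rfl⟩, hxy⟩

/-- A closed subscheme of a finitely presented scheme with `Q` over an affine base that is finitely
presented over a quasi-compact open extends to a finitely presented one. -/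
theorem exists_piece {V VO XV XVO TV ZVO : Over S} [IsAffine V.left] (πT : TV ⟶ V)
    (hQπ : Q πT.left) [LocallyOfFinitePresentation πT.left] (κ : XV ⟶ TV)
    [IsClosedImmersion κ.left] (ιV : VO ⟶ V) [IsOpenImmersion ιV.left]
    [CompactSpace ↥VO.left] {xX : XVO ⟶ XV} {xVO : XVO ⟶ VO}
    (sqV : IsPullback xX xVO (κ ≫ πT) ιV) (zV : ZVO ⟶ VO)
    [LocallyOfFinitePresentation zV.left] (φ : ZVO ⟶ TV) (m : XVO ⟶ ZVO)
    (hφπ : φ ≫ πT = zV ≫ ιV) (hm : m ≫ φ = xX ≫ κ)
    (hφc : ∀ (P : Over S) (p₁ : P ⟶ TV) (p₂ : P ⟶ VO), IsPullback p₁ p₂ πT ιV →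
      ∀ φ' : ZVO ⟶ P, φ' ≫ p₁ = φ → φ' ≫ p₂ = zV → IsClosedImmersion φ'.left) :
    ∃ (T' : Over S) (π' : T' ⟶ V) (k : XV ⟶ T') (q : ZVO ⟶ T'),
      IsAffine T'.left ∧ Q π'.left ∧ LocallyOfFinitePresentation π'.left ∧
      IsClosedImmersion k.left ∧ k ≫ π' = κ ≫ πT ∧ IsPullback q zV π' ιV ∧ xX ≫ k = m ≫ q := by
  classical
  have : IsAffineHom πT.left := EnvKind.isAffineHom hQπ
  have : IsAffine TV.left := isAffine_of_isAffineHom πT.left
  obtain ⟨P, p₁, p₂, sqP⟩ : ∃ (P : Over S) (p₁ : P ⟶ TV) (p₂ : P ⟶ VO),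
      IsPullback p₁ p₂ πT ιV := ⟨_, _, _, IsPullback.of_hasPullback _ _⟩
  have sqP' : IsPullback p₁.left p₂.left πT.left ιV.left := Groth.AlgSpBasic.isPullback_left sqP
  have : IsOpenImmersion p₁.left :=
    MorphismProperty.of_isPullback (P := @IsOpenImmersion) sqP'.flip ‹_›
  have : IsAffineHom p₂.left := MorphismProperty.of_isPullback (P := @IsAffineHom) sqP' ‹_›
  have : LocallyOfFinitePresentation p₂.left :=
    MorphismProperty.of_isPullback (P := @LocallyOfFinitePresentation) sqP' ‹_›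
  have : CompactSpace ↥P.left := QuasiCompact.compactSpace_of_compactSpace p₂.left
  have : QuasiCompact p₁.left := (HasAffineProperty.iff_of_isAffine (P := @QuasiCompact)).2 ‹_›
  let φ' : ZVO ⟶ P := sqP.lift φ zV hφπ
  have hφ₁ : φ' ≫ p₁ = φ := sqP.lift_fst _ _ _
  have hφ₂ : φ' ≫ p₂ = zV := sqP.lift_snd _ _ _
  have : IsClosedImmersion φ'.left := hφc P p₁ p₂ sqP φ' hφ₁ hφ₂
  have hφl : φ'.left ≫ p₁.left = φ.left := congrArg CommaMorphism.left hφ₁
  have : LocallyOfFinitePresentation φ'.left := by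
    have : LocallyOfFinitePresentation (φ'.left ≫ p₂.left) := by
      rw [← Over.comp_left, hφ₂]; infer_instance
    exact Groth.PropsBasic2.lfp_of_comp φ'.left p₂.left
  have : QuasiCompact φ.left := by rw [← hφl]; infer_instance
  let W : TV.left.Opens := p₁.left.opensRange
  obtain ⟨s, hsW, hscov⟩ := exists_affine_cover_open W (by
    rw [Scheme.Hom.coe_opensRange]; exact isCompact_range p₁.left.continuous)
  let L := φ.left.ker ⊓ κ.left.ker
  have hle : ∀ U : TV.left.affineOpens, U.1 ≤ W → φ.left.ker.ideal U ≤ κ.left.ker.ideal U := by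
    intro U hU z hz
    rw [Scheme.Hom.ker_apply, RingHom.mem_ker] at hz ⊢
    have : IsOpenImmersion xX.left :=
      MorphismProperty.of_isPullback (P := @IsOpenImmersion)
        (Groth.AlgSpBasic.isPullback_left sqV).flip ‹_›
    have hr : κ.left ⁻¹ᵁ U.1 ≤ xX.left.opensRange := by
      intro x hx
      obtain ⟨p, hp⟩ := hU hx
      obtain ⟨y, hy⟩ := Scheme.IsJointlySurjectivePreserving.exists_preimage_fst_triplet_of_prop
        (P := @IsOpenImmersion) ‹IsOpenImmersion ιV.left› (f := (κ ≫ πT).left) x (p₂.left p) (by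
          rw [Over.comp_left, Scheme.Hom.comp_apply, ← hp, ← Scheme.Hom.comp_apply,
            ← Scheme.Hom.comp_apply, sqP'.w])
      refine ⟨(Groth.AlgSpBasic.isPullback_left sqV).isoPullback.inv y, ?_⟩
      rw [← Scheme.Hom.comp_apply, IsPullback.isoPullback_inv_fst, hy]
    have hi := Scheme.Hom.isIso_app xX.left (κ.left ⁻¹ᵁ U.1) hr
    refine (ConcreteCategory.bijective_of_isIso (xX.left.app (κ.left ⁻¹ᵁ U.1))).1 ?_
    rw [map_zero]
    have key : ∀ (f₁ f₂ : XVO.left ⟶ TV.left), f₁ = f₂ → f₁.app U.1 z = 0 → f₂.app U.1 z = 0 := by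
      rintro f₁ f₂ rfl h; exact h
    exact key (m.left ≫ φ.left) (xX.left ≫ κ.left) (congrArg CommaMorphism.left hm) (by
      rw [Scheme.Hom.comp_app]
      exact (congrArg (m.left.app _) hz).trans (map_zero _))
  have hL : ∀ U : TV.left.affineOpens, U.1 ≤ W → L.ideal U = φ.left.ker.ideal U := fun U hU =>
    inf_eq_left.2 (hle U hU)
  have hfg : ∀ U ∈ s, (L.ideal U).FG := by
    intro U hU
    rw [hL U (hsW U hU), Scheme.Hom.ker_apply]
    have hU₁ : IsAffineOpen (p₁.left ⁻¹ᵁ U.1) := U.2.preimage_of_isOpenImmersion p₁.left (hsW U hU)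
    have hU₂ : IsAffineOpen (φ'.left ⁻¹ᵁ (p₁.left ⁻¹ᵁ U.1)) := hU₁.preimage φ'.left
    have := Scheme.Hom.isIso_app p₁.left U.1 (hsW U hU)
    have hb := ConcreteCategory.bijective_of_isIso (p₁.left.app U.1)
    have key : ∀ (f : ZVO.left ⟶ TV.left), φ'.left ≫ p₁.left = f →
        (RingHom.ker (f.app U.1).hom).FG := by
      rintro f rfl
      refine Groth.LocImmersion.FiniteFactorFP.ker_fg_of_surjective _ ?_ ?_
      · rw [Scheme.Hom.comp_app]
        exact (φ'.left.app_surjective _ hU₁).comp hb.2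
      · rw [Scheme.Hom.comp_app]
        show ((φ'.left.app (p₁.left ⁻¹ᵁ U.1)).hom.comp (p₁.left.app U.1).hom).FinitePresentation
        refine RingHom.FinitePresentation.comp ?_ (RingHom.FinitePresentation.of_bijective hb)
        rw [Scheme.Hom.app_eq_appLE]
        exact φ'.left.finitePresentation_appLE hU₁ hU₂ le_rfl
    exact key _ hφl
  obtain ⟨K, hKL, hKs, hKt⟩ :=
    Groth.LocImmersion.FiniteFactorFP.exists_fg_eq_on L s hfg {⟨⊤, isAffineOpen_top _⟩}
  have hKtop := hKt ⟨⊤, isAffineOpen_top _⟩ (Finset.mem_singleton_self _)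
  have hK : K = Scheme.IdealSheafData.ofIdealTop (K.ideal ⟨⊤, isAffineOpen_top _⟩) :=
    Scheme.IdealSheafData.ext_of_isAffine (by simp)
  have : LocallyOfFinitePresentation K.subschemeι := Groth.Flatmor4.lfp_of_ker_fg _ fun U => by
    rw [K.ker_subschemeι, hK, Scheme.IdealSheafData.ofIdealTop_ideal]
    exact Ideal.FG.map hKtop _
  let T' : Over S := Over.mk (K.subschemeι ≫ TV.hom)
  let ιT : T' ⟶ TV := Over.homMk K.subschemeι rfl
  have hKκ : K.subschemeι.ker ≤ κ.left.ker := by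
    rw [K.ker_subschemeι]; exact hKL.trans inf_le_right
  have hKφ : K.subschemeι.ker ≤ φ.left.ker := by
    rw [K.ker_subschemeι]; exact hKL.trans inf_le_left
  let k : XV ⟶ T' := Over.homMk (IsClosedImmersion.lift K.subschemeι κ.left hKκ) (by
    show _ ≫ K.subschemeι ≫ TV.hom = _
    rw [IsClosedImmersion.lift_fac_assoc, Over.w κ])
  let q : ZVO ⟶ T' := Over.homMk (IsClosedImmersion.lift K.subschemeι φ.left hKφ) (by
    show _ ≫ K.subschemeι ≫ TV.hom = _
    rw [IsClosedImmersion.lift_fac_assoc, Over.w φ])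
  have hk : k ≫ ιT = κ := Over.OverMorphism.ext (IsClosedImmersion.lift_fac _ _ _)
  have hq : q ≫ ιT = φ := Over.OverMorphism.ext (IsClosedImmersion.lift_fac _ _ _)
  have hιTl : IsClosedImmersion ιT.left := inferInstanceAs (IsClosedImmersion K.subschemeι)
  have hιTm : Mono ιT := Over.mono_of_mono_left ιT
  have hπ' : Q (ιT ≫ πT).left := by
    rw [Over.comp_left]; exact MorphismProperty.comp_mem _ _ _ (EnvKind.of_closed _) hQπ
  refine ⟨T', ιT ≫ πT, k, q, isAffine_of_isAffineHom K.subschemeι, hπ',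
    inferInstanceAs (LocallyOfFinitePresentation (K.subschemeι ≫ πT.left)), ?_,
    by rw [← Category.assoc, hk], ?_, ?_⟩
  · have : IsClosedImmersion (k.left ≫ ιT.left) := by rw [← Over.comp_left, hk]; infer_instance
    exact IsClosedImmersion.of_comp k.left ιT.left
  · refine IsPullback.paste_vert (h₁₁ := q) (v₁₁ := φ') ?_ sqP |> fun h => by rwa [hφ₂] at h
    obtain ⟨Q, r₁, r₂, sqQ⟩ : ∃ (Q : Over S) (r₁ : Q ⟶ T') (r₂ : Q ⟶ P),
        IsPullback r₁ r₂ ιT p₁ := ⟨_, _, _, IsPullback.of_hasPullback _ _⟩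
    have sqQ' := Groth.AlgSpBasic.isPullback_left sqQ
    have : IsClosedImmersion r₂.left :=
      MorphismProperty.of_isPullback (P := @IsClosedImmersion) sqQ' hιTl
    let l : ZVO ⟶ Q := sqQ.lift q φ' (by rw [hq, hφ₁])
    have hl₁ : l ≫ r₁ = q := sqQ.lift_fst _ _ _
    have hl₂ : l ≫ r₂ = φ' := sqQ.lift_snd _ _ _
    have : IsIso l.left := by
      refine IsClosedImmersion.isIso_of_ker_eq φ'.left r₂.left l.left
        (congrArg CommaMorphism.left hl₂) ?_
      have e₀ : IsPullback φ'.left (𝟙 _) p₁.left φ.left := by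
        have : IsPullback (φ'.left) (𝟙 _) p₁.left (φ'.left ≫ p₁.left) :=
          IsPullback.of_vert_isIso_mono ⟨by simp⟩
        rwa [hφl] at this
      refine Scheme.IdealSheafData.ext_of_iSup_eq_top
        (fun U : s => ⟨p₁.left ⁻¹ᵁ U.1.1, U.1.2.preimage_of_isOpenImmersion p₁.left (hsW _ U.2)⟩)
        (top_le_iff.1 fun x _ => ?_) fun U => ?_
      · obtain ⟨U, hU, hxU⟩ := hscov (p₁.left x) ⟨x, rfl⟩
        exact TopologicalSpace.Opens.mem_iSup.2 ⟨⟨U, hU⟩, hxU⟩
      · rw [Scheme.ker_ideal_of_isPullback_of_isOpenImmersion φ.left φ'.left (𝟙 _) p₁.left e₀,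
          Scheme.ker_ideal_of_isPullback_of_isOpenImmersion ιT.left r₂.left r₁.left p₁.left
            sqQ'.flip]
        refine congrArg (Ideal.comap _) ?_
        have himg : p₁.left ''ᵁ (p₁.left ⁻¹ᵁ U.1.1) = U.1.1 := by
          rw [Scheme.Hom.image_preimage_eq_opensRange_inf]
          exact inf_eq_right.mpr (hsW _ U.2)
        have aux : ∀ U' : TV.left.affineOpens, U'.1 = U.1.1 →
            φ.left.ker.ideal U' = ιT.left.ker.ideal U' := by
          intro U' e
          obtain rfl : U' = U.1 := Subtype.ext e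
          show _ = K.subschemeι.ker.ideal _
          rw [K.ker_subschemeι, hKs _ U.2, hL _ (hsW _ U.2)]
        exact aux _ himg
    have : IsIso l := by
      have : IsIso ((Over.forget S).map l) := ‹IsIso l.left›
      exact isIso_of_reflects_iso l (Over.forget S)
    refine IsPullback.of_iso sqQ (asIso l).symm (Iso.refl _) (Iso.refl _) (Iso.refl _) ?_ ?_
      (by simp) (by simp)
    · rw [Iso.symm_hom, asIso_inv, Iso.refl_hom, Category.comp_id, IsIso.eq_inv_comp, hl₁]
    · rw [Iso.symm_hom, asIso_inv, Iso.refl_hom, Category.comp_id, IsIso.eq_inv_comp, hl₂]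
  · rw [← cancel_mono ιT, Category.assoc, Category.assoc, hk, hq, hm]

end

end Groth.AlgSp2.Approx
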