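import Mathlib
import Groth.Agent.AlgSp3.NormAffine
import Groth.Agent.AlgSp2.Approx.EnvProp

/-!
# Affine schemes over `S`: morphisms from ring maps, finite presented envelopes of finite morphisms
-/

set_option autoImplicit false
set_option linter.unusedSectionVars false
set_option backward.isDefEq.respectTransparency.types false
universe u

open CategoryTheory CategoryTheory.Limits AlgebraicGeometry Opposite

namespace Groth.AlgSp2.Approx

noncomputable section

variable {S : Scheme.{u}}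

theorem appTop_comp_apply {A B C : Over S} (f : A ⟶ B) (g : B ⟶ C) (x : Γ(C.left, ⊤)) :
    (f ≫ g).left.appTop x = f.left.appTop (g.left.appTop x) := by
  rw [Over.comp_left, Scheme.Hom.comp_appTop]
  rfl

theorem hom_ext_appTop {A B : Over S} [IsAffine B.left] {f g : A ⟶ B}
    (h : ∀ x, f.left.appTop x = g.left.appTop x) : f = g :=
  Over.OverMorphism.ext (ext_of_isAffine (ConcreteCategory.hom_ext _ _ h))

/-- A map of function rings over an affine scheme gives a morphism. -/
theorem exists_hom_over {Z T V : Over S} [IsAffine Z.left] [IsAffine T.left] [IsAffine V.left]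
    (p : T ⟶ V) (q : Z ⟶ V) (φ : Γ(T.left, ⊤) →+* Γ(Z.left, ⊤))
    (hφ : ∀ a, φ (p.left.appTop a) = q.left.appTop a) :
    ∃ f : Z ⟶ T, f ≫ p = q ∧ ∀ x, f.left.appTop x = φ x := by
  obtain ⟨l, hl⟩ := Groth.AlgSp3.exists_hom_of_appTop (X := Z.left) (Y := T.left) (CommRingCat.ofHom φ)
  have e : l ≫ p.left = q.left := ext_of_isAffine (by
    rw [Scheme.Hom.comp_appTop, hl]
    exact ConcreteCategory.hom_ext _ _ hφ)
  exact ⟨Over.homMk l (by rw [← Over.w p, ← Category.assoc, e, Over.w q]),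
    Over.OverMorphism.ext e, fun x => ConcreteCategory.congr_hom hl x⟩

/-- A morphism with `Q` to an affine scheme factors through a finitely presented one with `Q`. -/
theorem exists_fp_envelope {Q : MorphismProperty Scheme.{u}} [EnvKind Q] {X V : Over S}
    [IsAffine V.left] (g : X ⟶ V) (hg : Q g.left) :
    ∃ (T : Over S) (π : T ⟶ V) (κ : X ⟶ T), IsAffine T.left ∧ Q π.left ∧
      LocallyOfFinitePresentation π.left ∧ IsClosedImmersion κ.left ∧ κ ≫ π = g := by
  have : IsAffineHom g.left := EnvKind.isAffineHom hg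
  have : IsAffine X.left := isAffine_of_isAffineHom g.left
  let _ : Algebra Γ(V.left, ⊤) Γ(X.left, ⊤) := g.left.appTop.hom.toAlgebra
  have hgQ : Q (Spec.map (CommRingCat.ofHom (algebraMap Γ(V.left, ⊤) Γ(X.left, ⊤)))) :=
    (Q.arrow_mk_iso_iff (arrowIsoSpecΓOfIsAffine g.left)).1 hg
  obtain ⟨C, _, _, ψ, hψ, hfp, hCQ⟩ := EnvKind.envelope (Q := Q) hgQ
  let φ : CommRingCat.of Γ(V.left, ⊤) ⟶ CommRingCat.of C :=
    CommRingCat.ofHom (algebraMap Γ(V.left, ⊤) C)
  let T : Over S := Over.mk ((Spec.map φ ≫ V.left.isoSpec.inv) ≫ V.hom)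
  let π : T ⟶ V := Over.homMk (Spec.map φ ≫ V.left.isoSpec.inv) rfl
  have : IsAffine T.left := inferInstanceAs (IsAffine (Spec _))
  have hφQ : Q (Spec.map φ) := hCQ
  have : LocallyOfFinitePresentation (Spec.map φ) :=
    (HasRingHomProperty.Spec_iff (P := @LocallyOfFinitePresentation)).2
      (RingHom.finitePresentation_algebraMap.2 hfp)
  have hπ : ∀ a, (Scheme.ΓSpecIso (CommRingCat.of C)).hom (π.left.appTop a) = φ a := by
    intro a
    have h := Scheme.isoSpec_hom_naturality (Spec.map φ ≫ V.left.isoSpec.inv)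
    have h' : π.left.appTop ≫ (Scheme.ΓSpecIso (CommRingCat.of C)).hom = φ := Spec.map_injective (by
      rw [Scheme.isoSpec_Spec_hom] at h
      refine (Spec.map_comp _ _).trans (h.trans ?_)
      simp)
    exact ConcreteCategory.congr_hom h' a
  obtain ⟨κ, hκ, hκe⟩ := exists_hom_over π g
    (ψ.toRingHom.comp (Scheme.ΓSpecIso (CommRingCat.of C)).hom.hom) fun a => by
      show ψ ((Scheme.ΓSpecIso (CommRingCat.of C)).hom (π.left.appTop a)) = _
      rw [hπ]
      exact ψ.commutes a
  refine ⟨T, π, κ, ‹_›, MorphismProperty.comp_mem _ _ _ hφQ (EnvKind.of_isIso _),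
    inferInstanceAs (LocallyOfFinitePresentation (_ ≫ _)), ?_, hκ⟩
  refine (HasAffineProperty.iff_of_isAffine (P := @IsClosedImmersion)).2 ⟨‹_›, fun b => ?_⟩
  obtain ⟨c, rfl⟩ := hψ b
  refine ⟨(Scheme.ΓSpecIso (CommRingCat.of C)).inv c, (hκe _).trans ?_⟩
  show ψ ((Scheme.ΓSpecIso (CommRingCat.of C)).hom ((Scheme.ΓSpecIso (CommRingCat.of C)).inv c)) = ψ c
  rw [Iso.inv_hom_id_apply]

end

end Groth.AlgSp2.Approx
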