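import Groth.Agent.AlgSp2.Approx.KerSub
import Groth.Agent.AlgSp2.Approx.SpreadAffine
import Groth.Agent.AlgSp2.Approx.EnvProp
import Groth.Agent.AlgSp2.AffineRows
import Groth.Agent.AlgSpBasic.QComp
import Groth.Agent.S0083

/-!
# Spreading a closed immersion to a finitely presented closed subspace
-/

set_option autoImplicit false
set_option linter.unusedSectionVars false
set_option backward.isDefEq.respectTransparency.types false
universe u

open CategoryTheory CategoryTheory.Limits AlgebraicGeometry Opposite AlgSp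

namespace Groth.AlgSp2.Approx

open Groth.AlgSpBasic Groth.AlgSp2.QcAffine Groth.AlgSp3

noncomputable section

variable {S : Scheme.{u}} {Y N X : Sp S}

/-- The inverse image of a closed subspace on a chart, over the chart. -/
theorem isPullback_closedTot {ν : N ⟶ Y} (hν : IsAffineMor ν) {h : X ⟶ N}
    (hh : RepWith @IsClosedImmersion h) (C : Chart Y) :
    IsPullback (closedToX hν hh C) ((yon S).map (closedIncl hν hh C ≫ proj hν C)) (h ≫ ν) C.b := by
  rw [Functor.map_comp]
  exact (isPullback_closedIncl hν hh C).paste_vert (isPullback_tot hν C)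

/-- The map of inverse images of a closed subspace. -/
theorem exists_closedTotMap {ν : N ⟶ Y} (hν : IsAffineMor ν) {h : X ⟶ N}
    (hh : RepWith @IsClosedImmersion h) {C' C : Chart Y} (c : CHom C' C) :
    ∃ l : closedTot hν hh C' ⟶ closedTot hν hh C,
      l ≫ closedIncl hν hh C = closedIncl hν hh C' ≫ totMap hν c ∧
        (yon S).map l ≫ closedToX hν hh C = closedToX hν hh C' := by
  obtain ⟨l, hl⟩ := (yon S).map_surjective ((isPullback_closedIncl hν hh C).lift
    (closedToX hν hh C') ((yon S).map (closedIncl hν hh C' ≫ totMap hν c))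
    (by rw [(isPullback_closedIncl hν hh C').w, Functor.map_comp, Category.assoc, totMap_toN]))
  exact ⟨l, (yon S).map_injective (by rw [Functor.map_comp, hl, IsPullback.lift_snd]),
    by rw [hl, IsPullback.lift_fst]⟩

theorem surjective_appTop_of_closedImmersion {A B : Over S} [IsAffine B.left] (f : A ⟶ B)
    [IsClosedImmersion f.left] : Function.Surjective f.left.appTop :=
  ((HasAffineProperty.iff_of_isAffine (P := @IsClosedImmersion)).1 ‹IsClosedImmersion f.left›).2

/-- A closed subspace of a space affine of finite type over a base, given with a closed immersion of its restriction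
to a quasi-compact piece of an etale chart into a finite presented scheme over the chart, extends to
a finitely presented closed subspace with such an immersion. -/
theorem exists_spread {τ : N ⟶ Y} (hτ : AffWith AffFT τ) {h : X ⟶ N}
    (hh : RepWith @IsClosedImmersion h) (hY : IsAlgSpace Y) (hN : IsAlgSpace N) (A : Atlas Y)
    {V VO XV XVO TV : Over S} [IsAffine V.left] [IsAffine TV.left] (πT : TV ⟶ V)
    [IsAffineHom πT.left] [LocallyOfFinitePresentation πT.left]
    (κ : XV ⟶ TV) [IsClosedImmersion κ.left] (ιV : VO ⟶ V) [IsOpenImmersion ιV.left]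
    [CompactSpace ↥VO.left] (bO : (yon S).obj VO ⟶ Y) (xX : XVO ⟶ XV) (xVO : XVO ⟶ VO)
    (sqV : IsPullback xX xVO (κ ≫ πT) ιV) (xN : (yon S).obj XVO ⟶ X)
    (sqX : IsPullback xN ((yon S).map xVO) (h ≫ τ) bO) :
    ∃ (Z : Sp S) (i : Z ⟶ N) (g : X ⟶ Z) (ZVO : Over S) (zZ : (yon S).obj ZVO ⟶ Z)
      (zV : ZVO ⟶ VO) (φ : ZVO ⟶ TV) (m : XVO ⟶ ZVO),
      IsAlgSpace Z ∧ RepWith @IsClosedImmersion i ∧ LocP @LocallyOfFinitePresentation i ∧
      g ≫ i = h ∧ RepWith @IsClosedImmersion g ∧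
      IsPullback zZ ((yon S).map zV) (i ≫ τ) bO ∧ φ ≫ πT = zV ≫ ιV ∧
      m ≫ φ = xX ≫ κ ∧ m ≫ zV = xVO ∧ (yon S).map m ≫ zZ = xN ≫ g ∧
      ∀ (P : Over S) (p₁ : P ⟶ TV) (p₂ : P ⟶ VO), IsPullback p₁ p₂ πT ιV →
        ∀ φ' : ZVO ⟶ P, φ' ≫ p₁ = φ → φ' ≫ p₂ = zV → IsClosedImmersion φ'.left := by
  classical
  have : Mono ιV := Over.mono_of_mono_left ιV
  have hν : IsAffineMor τ := affWith_isAffineHom_iff.1
    (affWith_mono inf_le_left hτ)
  have hτr : RepWith AffFT τ := repWith_of_affWith hτ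
  -- an affine cover of the piece
  obtain ⟨CE, e, hbE, hee, hes⟩ : ∃ (C : Chart Y) (e : C.Z ⟶ VO),
      C.b = (yon S).map e ≫ bO ∧ Etale e.left ∧ Surjective e.left := by
    obtain ⟨E₀, e₀, hE₀, he₀, hs₀⟩ := exists_affine_chart (IsAlgSpace.yon_obj VO)
      ((isQuasiCompactSp_yon_iff VO).2 ‹CompactSpace ↥VO.left›)
    obtain ⟨e, rfl⟩ := (yon S).map_surjective e₀
    exact ⟨⟨E₀, hE₀, (yon S).map e ≫ bO⟩, e, rfl, (repWith_yon_map_iff _ e).1 he₀,
      (repWith_yon_map_iff _ e).1 hs₀⟩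
  obtain ⟨CE₂, p₁, p₂, sqE, hbE₂⟩ : ∃ (C : Chart Y) (p₁ p₂ : C.Z ⟶ CE.Z),
      IsPullback p₁ p₂ (e ≫ ιV) (e ≫ ιV) ∧ C.b = (yon S).map (p₁ ≫ e) ≫ bO := by
    obtain ⟨E₂, p₁, p₂, sqE⟩ : ∃ (E₂ : Over S) (p₁ p₂ : E₂ ⟶ CE.Z),
        IsPullback p₁ p₂ (e ≫ ιV) (e ≫ ιV) := ⟨_, _, _, IsPullback.of_hasPullback _ _⟩
    have : IsAffineHom p₁.left :=
      MorphismProperty.of_isPullback (P := @IsAffineHom) (isPullback_left sqE).flip inferInstance
    exact ⟨⟨E₂, isAffine_of_isAffineHom p₁.left, (yon S).map (p₁ ≫ e) ≫ bO⟩, p₁, p₂, sqE, rfl⟩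
  have hp : p₁ ≫ e = p₂ ≫ e := (cancel_mono ιV).1 (by simpa only [Category.assoc] using sqE.w)
  let c₁ : CHom CE₂ CE := ⟨p₁, by rw [hbE, hbE₂, Functor.map_comp, Category.assoc]⟩
  let c₂ : CHom CE₂ CE := ⟨p₂, by rw [hbE, hbE₂, hp, Functor.map_comp, Category.assoc]⟩
  let incl := closedIncl hν hh CE
  let XE := closedTot hν hh CE
  let pX : XE ⟶ CE.Z := incl ≫ proj hν CE
  obtain ⟨lX, hlX⟩ := (yon S).map_surjective (sqX.lift (closedToX hν hh CE)
    ((yon S).map (pX ≫ e)) (by
      rw [(isPullback_closedTot hν hh CE).w, Functor.map_comp _ pX e, Category.assoc, hbE]))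
  have hlX₁ : (yon S).map lX ≫ xN = closedToX hν hh CE := by rw [hlX, sqX.lift_fst]
  have hlX₂ : lX ≫ xVO = pX ≫ e := (yon S).map_injective (by
    rw [Functor.map_comp _ lX xVO, hlX, sqX.lift_snd])
  have sqXE : IsPullback lX pX xVO e := by
    refine IsPullback.of_map (yon S) hlX₂ (IsPullback.of_right ?_ (by
      rw [← Functor.map_comp, ← Functor.map_comp, hlX₂]) sqX)
    rw [hlX₁, ← hbE]
    exact isPullback_closedTot hν hh CE
  have sqXV : IsPullback (lX ≫ xX) pX (κ ≫ πT) (e ≫ ιV) := sqXE.paste_horiz sqV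
  -- the scheme over the cover
  obtain ⟨PT, qT, pT, sqPT⟩ : ∃ (PT : Over S) (qT : PT ⟶ TV) (pT : PT ⟶ CE.Z),
      IsPullback qT pT πT (e ≫ ιV) := ⟨_, _, _, IsPullback.of_hasPullback _ _⟩
  have : IsAffineHom pT.left :=
    MorphismProperty.of_isPullback (P := @IsAffineHom) (isPullback_left sqPT) ‹_›
  have : LocallyOfFinitePresentation pT.left :=
    MorphismProperty.of_isPullback (P := @LocallyOfFinitePresentation) (isPullback_left sqPT) ‹_›
  have : IsAffine PT.left := isAffine_of_isAffineHom pT.left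
  let kE : XE ⟶ PT := sqPT.lift ((lX ≫ xX) ≫ κ) pX (by rw [Category.assoc, sqXV.w])
  have hkE₁ : kE ≫ qT = (lX ≫ xX) ≫ κ := sqPT.lift_fst _ _ _
  have hkE₂ : kE ≫ pT = pX := sqPT.lift_snd _ _ _
  have : IsClosedImmersion kE.left := MorphismProperty.of_isPullback (P := @IsClosedImmersion)
    (isPullback_left (IsPullback.of_bot (by rw [hkE₂]; exact sqXV) hkE₁.symm sqPT)) ‹_›
  have hσs : Function.Surjective kE.left.appTop := surjective_appTop_of_closedImmersion kE
  have hρs : Function.Surjective incl.left.appTop := surjective_appTop_of_closedImmersion incl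
  let _ : Algebra (fns CE) Γ(PT.left, ⊤) := pT.left.appTop.hom.toAlgebra
  have : Algebra.FinitePresentation (fns CE) Γ(PT.left, ⊤) :=
    RingHom.finitePresentation_algebraMap.1
      (HasRingHomProperty.appTop (P := @LocallyOfFinitePresentation) pT.left inferInstance)
  obtain ⟨n, ψ, hψ, hψker⟩ := Algebra.FinitePresentation.out (R := fns CE) (A := Γ(PT.left, ⊤))
  choose r hr using fun i : Fin n => hρs (kE.left.appTop (ψ (MvPolynomial.X i)))
  let Ψ : MvPolynomial (Fin n) (fns CE) →ₐ[fns CE] sections hν CE := MvPolynomial.aeval r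
  have hρF : ∀ a : fns CE, incl.left.appTop (algebraMap (fns CE) (sections hν CE) a) =
      kE.left.appTop (algebraMap (fns CE) Γ(PT.left, ⊤) a) := fun a => by
    show incl.left.appTop ((proj hν CE).left.appTop a) = kE.left.appTop (pT.left.appTop a)
    rw [← appTop_comp_apply, ← appTop_comp_apply, hkE₂]
  have hΨ : ∀ P, incl.left.appTop (Ψ P) = kE.left.appTop (ψ P) := by
    have : incl.left.appTop.hom.comp Ψ.toRingHom = kE.left.appTop.hom.comp ψ.toRingHom := by
      refine MvPolynomial.ringHom_ext (fun a => ?_) fun i => ?_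
      · show incl.left.appTop (Ψ (MvPolynomial.C a)) = kE.left.appTop (ψ (MvPolynomial.C a))
        rw [← MvPolynomial.algebraMap_eq, Ψ.commutes, ψ.commutes]
        exact hρF a
      · show incl.left.appTop (Ψ (MvPolynomial.X i)) = kE.left.appTop (ψ (MvPolynomial.X i))
        rw [MvPolynomial.aeval_X]
        exact hr i
    exact fun P => congrArg (fun k : _ →+* _ => k P) this
  -- the finitely many equations
  obtain ⟨sk, hsk⟩ := hψker
  have hpl : AffFT (proj hν CE).left :=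
    (repWith_yon_map_iff _ _).1 (repWith_of_isPullback (isPullback_tot hν CE) hτr)
  have hfinR : Algebra.FiniteType (fns CE) (sections hν CE) := RingHom.finiteType_algebraMap.1
    (HasRingHomProperty.appTop (P := @LocallyOfFiniteType) (proj hν CE).left hpl.2)
  obtain ⟨sy, hsy⟩ := hfinR.out
  let _ : Algebra Γ(V.left, ⊤) Γ(TV.left, ⊤) := πT.left.appTop.hom.toAlgebra
  have hfinT : Algebra.FiniteType Γ(V.left, ⊤) Γ(TV.left, ⊤) := RingHom.finiteType_algebraMap.1
    (HasRingHomProperty.appTop (P := @LocallyOfFiniteType) πT.left inferInstance)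
  obtain ⟨sc, hsc⟩ := hfinT.out
  choose Py hPy using fun y : sy => hψ ((hσs (incl.left.appTop y.1)).choose)
  choose Pc hPc using fun c : sc => hψ (qT.left.appTop c.1)
  let κi := (sk ⊕ sy) ⊕ sc
  let Ef : κi → Chart Y := Sum.elim (fun _ => CE) (fun _ => CE₂)
  let z : ∀ k : κi, sections hν (Ef k) := fun k => match k with
    | .inl (.inl P) => Ψ P.1
    | .inl (.inr y) => y.1 - Ψ (Py y)
    | .inr c => mapM hν c₁ (Ψ (Pc c)) - mapM hν c₂ (Ψ (Pc c))
  have hz : ∀ k, z k ∈ (kerSub hν hh).M (Ef k) := by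
    rintro ((⟨P, hP⟩ | y) | c) <;> rw [mem_kerSub_iff]
    · show incl.left.appTop (Ψ P) = 0
      rw [hΨ]
      have : ψ P = 0 := by
        have := hsk.le (Ideal.subset_span hP)
        exact this
      rw [this, map_zero]
    · show incl.left.appTop (y.1 - Ψ (Py y)) = 0
      rw [map_sub, hΨ, hPy, (hσs (incl.left.appTop y.1)).choose_spec, sub_self]
    · show (closedIncl hν hh CE₂).left.appTop (mapM hν c₁ _ - mapM hν c₂ _) = 0
      obtain ⟨l₁, hl₁, hl₁'⟩ := exists_closedTotMap hν hh c₁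
      obtain ⟨l₂, hl₂, hl₂'⟩ := exists_closedTotMap hν hh c₂
      have e₁ : ∀ (d : CHom CE₂ CE) (l : closedTot hν hh CE₂ ⟶ closedTot hν hh CE),
          l ≫ closedIncl hν hh CE = closedIncl hν hh CE₂ ≫ totMap hν d →
          (closedIncl hν hh CE₂).left.appTop (mapM hν d (Ψ (Pc c))) =
            (l ≫ lX ≫ xX ≫ κ).left.appTop c.1 := by
        intro d l hl
        show (closedIncl hν hh CE₂).left.appTop ((totMap hν d).left.appTop _) = _
        rw [← appTop_comp_apply, ← hl, appTop_comp_apply, hΨ, hPc, ← appTop_comp_apply kE qT,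
          hkE₁, ← appTop_comp_apply, Category.assoc lX xX κ]
      have e₂ : l₁ ≫ lX = l₂ ≫ lX := (yon S).map_injective (sqX.hom_ext
        (by rw [Functor.map_comp, Functor.map_comp, Category.assoc, Category.assoc, hlX₁, hl₁', hl₂'])
        (by
          rw [← Functor.map_comp, ← Functor.map_comp]
          refine congrArg (yon S).map ?_
          simp only [Category.assoc]
          rw [hlX₂]
          show l₁ ≫ (incl ≫ proj hν CE) ≫ e = l₂ ≫ (incl ≫ proj hν CE) ≫ e
          simp only [Category.assoc]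
          rw [reassoc_of% hl₁, reassoc_of% hl₂, reassoc_of% (totMap_proj hν c₁),
            reassoc_of% (totMap_proj hν c₂)]
          show _ ≫ _ ≫ p₁ ≫ e = _ ≫ _ ≫ p₂ ≫ e
          rw [hp]))
      rw [map_sub, e₁ c₁ l₁ hl₁, e₁ c₂ l₂ hl₂, reassoc_of% e₂, sub_self]
  obtain ⟨Z, i, hi, g, hZ, hifp, hg, hgc, hker⟩ := exists_closedFP hν hh hN hY A Ef z hz
  -- the morphism on the cover
  let jZ := closedIncl hν hi CE
  let ZE := closedTot hν hi CE
  have : IsAffine ZE.left := isAffine_of_isAffineHom jZ.left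
  have hjs : Function.Surjective jZ.left.appTop := surjective_appTop_of_closedImmersion jZ
  have hZk : ∀ k, (closedIncl hν hi (Ef k)).left.appTop (z k) = 0 := fun k =>
    (mem_kerSub_iff hν hi _ _).1 (hker k)
  have hkill : RingHom.ker ψ.toRingHom ≤ RingHom.ker (jZ.left.appTop.hom.comp Ψ.toRingHom) := by
    rw [← hsk, Ideal.span_le]
    intro P hP
    exact hZk (.inl (.inl ⟨P, hP⟩))
  let φG : Γ(PT.left, ⊤) →+* Γ(ZE.left, ⊤) :=
    ψ.toRingHom.liftOfSurjective hψ ⟨jZ.left.appTop.hom.comp Ψ.toRingHom, hkill⟩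
  have hφG : ∀ P, φG (ψ P) = jZ.left.appTop (Ψ P) := fun P =>
    RingHom.liftOfSurjective_comp_apply ψ.toRingHom hψ ⟨_, hkill⟩ P
  obtain ⟨mZ, hmZ, hmZa⟩ := exists_hom_over pT (jZ ≫ proj hν CE) φG fun a => by
    show φG (algebraMap (fns CE) _ a) = _
    rw [← ψ.commutes a, hφG, Ψ.commutes, appTop_comp_apply]
    rfl
  have hmZc : IsClosedImmersion mZ.left := by
    refine (HasAffineProperty.iff_of_isAffine (P := @IsClosedImmersion)).2 ⟨‹_›, fun b => ?_⟩
    obtain ⟨x, rfl⟩ := hjs b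
    have hx : x ∈ Algebra.adjoin (fns CE) (sy : Set (sections hν CE)) := hsy ▸ Algebra.mem_top
    suffices ∃ P, jZ.left.appTop (Ψ P) = jZ.left.appTop x by
      obtain ⟨P, hP⟩ := this
      exact ⟨ψ P, (hmZa _).trans ((hφG P).trans hP)⟩
    induction hx using Algebra.adjoin_induction with
    | mem y hy =>
      refine ⟨Py ⟨y, hy⟩, ?_⟩
      have h0 : jZ.left.appTop (y - Ψ (Py ⟨y, hy⟩)) = 0 := hZk (.inl (.inr ⟨y, hy⟩))
      rw [map_sub, sub_eq_zero] at h0
      exact h0.symm
    | algebraMap a => exact ⟨algebraMap _ _ a, by rw [Ψ.commutes]⟩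
    | add a b _ _ ha hb =>
      obtain ⟨P, hP⟩ := ha
      obtain ⟨Q, hQ⟩ := hb
      exact ⟨P + Q, by rw [map_add, map_add, map_add, hP, hQ]⟩
    | mul a b _ _ ha hb =>
      obtain ⟨P, hP⟩ := ha
      obtain ⟨Q, hQ⟩ := hb
      exact ⟨P * Q, by rw [map_mul, map_mul, map_mul, hP, hQ]⟩
  -- descent to the piece
  have hir : RepWith AffFT (i ≫ τ) :=
    repWith_comp (repWith_mono EnvKind.closed hi) hτr
  obtain ⟨ZVO, zV, zZ, sqZ⟩ := hir.rep bO
  obtain ⟨qE, hqE⟩ := (yon S).map_surjective (sqZ.lift (closedToX hν hi CE)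
    ((yon S).map ((jZ ≫ proj hν CE) ≫ e)) (by
      rw [(isPullback_closedTot hν hi CE).w, Functor.map_comp _ _ e, Category.assoc, hbE]))
  have hqE₁ : (yon S).map qE ≫ zZ = closedToX hν hi CE := by rw [hqE, sqZ.lift_fst]
  have hqE₂ : qE ≫ zV = (jZ ≫ proj hν CE) ≫ e := (yon S).map_injective (by
    rw [Functor.map_comp _ qE zV, hqE, sqZ.lift_snd])
  have sqQ : IsPullback qE (jZ ≫ proj hν CE) zV e := by
    refine IsPullback.of_map (yon S) hqE₂ (IsPullback.of_right ?_ (by
      rw [← Functor.map_comp, ← Functor.map_comp, hqE₂]) sqZ)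
    rw [hqE₁, ← hbE]
    exact isPullback_closedTot hν hi CE
  have hqEe : RepWith @Etale ((yon S).map qE) := (repWith_yon_map_iff _ qE).2
    (MorphismProperty.of_isPullback (P := @Etale) (isPullback_left sqQ).flip ‹_›)
  have hqEs : RepWith @Surjective ((yon S).map qE) := (repWith_yon_map_iff _ qE).2
    (MorphismProperty.of_isPullback (P := @Surjective) (isPullback_left sqQ).flip ‹_›)
  have hlift : ∀ {W : Over S} (w₁ w₂ : W ⟶ ZE),
      (w₁ ≫ jZ ≫ proj hν CE) ≫ e = (w₂ ≫ jZ ≫ proj hν CE) ≫ e →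
      (w₁ ≫ jZ ≫ proj hν CE) ≫ e ≫ ιV = (w₂ ≫ jZ ≫ proj hν CE) ≫ e ≫ ιV := fun w₁ w₂ hw => by
    rw [← Category.assoc, hw, Category.assoc]
  have hagree : ∀ {W : Over S} (w₁ w₂ : W ⟶ ZE), w₁ ≫ qE = w₂ ≫ qE →
      w₁ ≫ mZ ≫ qT = w₂ ≫ mZ ≫ qT := by
    intro W w₁ w₂ hw
    have hw' : (w₁ ≫ jZ ≫ proj hν CE) ≫ e = (w₂ ≫ jZ ≫ proj hν CE) ≫ e := by
      have := congrArg (· ≫ zV) hw
      simpa only [Category.assoc, hqE₂] using this
    obtain ⟨w, hw₂⟩ := (yon S).map_surjective ((isPullback_closedTot hν hi CE₂).lift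
      ((yon S).map w₁ ≫ closedToX hν hi CE)
      ((yon S).map (sqE.lift (w₁ ≫ jZ ≫ proj hν CE) (w₂ ≫ jZ ≫ proj hν CE)
        (hlift w₁ w₂ hw'))) (by
          rw [Category.assoc, (isPullback_closedTot hν hi CE).w]
          rw [hbE₂, hbE]
          simp only [← Category.assoc, ← Functor.map_comp]
          simp only [Category.assoc]
          rw [sqE.lift_fst_assoc]
          simp only [Category.assoc]
          rfl))
    have hwA : (yon S).map w ≫ closedToX hν hi CE₂ = (yon S).map w₁ ≫ closedToX hν hi CE := by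
      rw [hw₂, IsPullback.lift_fst]
    have hwB : w ≫ closedIncl hν hi CE₂ ≫ proj hν CE₂ =
        sqE.lift (w₁ ≫ jZ ≫ proj hν CE) (w₂ ≫ jZ ≫ proj hν CE) (hlift w₁ w₂ hw') :=
      (yon S).map_injective (by rw [Functor.map_comp, hw₂, IsPullback.lift_snd])
    obtain ⟨m₁, hm₁, hm₁'⟩ := exists_closedTotMap hν hi c₁
    obtain ⟨m₂, hm₂, hm₂'⟩ := exists_closedTotMap hν hi c₂
    have hwm : ∀ (d : CHom CE₂ CE) (v : closedTot hν hi CE₂ ⟶ ZE) (x : W ⟶ ZE),
        v ≫ jZ = closedIncl hν hi CE₂ ≫ totMap hν d →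
        (yon S).map v ≫ closedToX hν hi CE = closedToX hν hi CE₂ →
        (yon S).map w₁ ≫ closedToX hν hi CE = (yon S).map x ≫ closedToX hν hi CE →
        sqE.lift (w₁ ≫ jZ ≫ proj hν CE) (w₂ ≫ jZ ≫ proj hν CE) (hlift w₁ w₂ hw') ≫ d.f =
          x ≫ jZ ≫ proj hν CE → w ≫ v = x := by
      intro d v x hv hv' hx₁ hx₂
      refine (yon S).map_injective ((isPullback_closedTot hν hi CE).hom_ext ?_ ?_)
      · rw [Functor.map_comp, Category.assoc, hv', hwA, hx₁]
      · rw [← Functor.map_comp, ← Functor.map_comp]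
        refine congrArg (yon S).map ?_
        show (w ≫ v) ≫ jZ ≫ proj hν CE = x ≫ jZ ≫ proj hν CE
        rw [← hx₂, ← hwB, Category.assoc, reassoc_of% hv, totMap_proj]
        simp only [Category.assoc]
    have hh₁ : w ≫ m₁ = w₁ := hwm c₁ m₁ w₁ hm₁ hm₁' rfl (sqE.lift_fst _ _ _)
    have hh₂ : w ≫ m₂ = w₂ := hwm c₂ m₂ w₂ hm₂ hm₂' (by
      rw [← hqE₁, ← Category.assoc, ← Category.assoc, ← Functor.map_comp, ← Functor.map_comp, hw])
      (sqE.lift_snd _ _ _)
    suffices m₁ ≫ mZ ≫ qT = m₂ ≫ mZ ≫ qT by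
      rw [← hh₁, ← hh₂, Category.assoc, Category.assoc, this]
    refine hom_ext_appTop fun x => ?_
    have hx : x ∈ Algebra.adjoin Γ(V.left, ⊤) (sc : Set Γ(TV.left, ⊤)) := hsc ▸ Algebra.mem_top
    induction hx using Algebra.adjoin_induction with
    | mem c hc =>
      have h0 : (closedIncl hν hi CE₂).left.appTop
          (mapM hν c₁ (Ψ (Pc ⟨c, hc⟩)) - mapM hν c₂ (Ψ (Pc ⟨c, hc⟩))) = 0 := hZk (.inr ⟨c, hc⟩)
      rw [map_sub, sub_eq_zero] at h0
      have em : ∀ (d : CHom CE₂ CE) (v : closedTot hν hi CE₂ ⟶ ZE),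
          v ≫ jZ = closedIncl hν hi CE₂ ≫ totMap hν d →
          (v ≫ mZ ≫ qT).left.appTop c =
            (closedIncl hν hi CE₂).left.appTop (mapM hν d (Ψ (Pc ⟨c, hc⟩))) := by
        intro d v hv
        show _ = (closedIncl hν hi CE₂).left.appTop ((totMap hν d).left.appTop _)
        rw [← appTop_comp_apply, ← hv, appTop_comp_apply, appTop_comp_apply v, appTop_comp_apply mZ,
          hmZa, ← hPc ⟨c, hc⟩, hφG]
      rw [em c₁ m₁ hm₁, em c₂ m₂ hm₂, h0]
    | add a b _ _ ha hb => rw [map_add, map_add, ha, hb]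
    | mul a b _ _ ha hb => rw [map_mul, map_mul, ha, hb]
    | algebraMap a =>
      have eA : ∀ (d : CHom CE₂ CE) (v : closedTot hν hi CE₂ ⟶ ZE),
          v ≫ jZ = closedIncl hν hi CE₂ ≫ totMap hν d →
          v ≫ mZ ≫ qT ≫ πT = closedIncl hν hi CE₂ ≫ proj hν CE₂ ≫ d.f ≫ e ≫ ιV := by
        intro d v hv
        rw [sqPT.w, reassoc_of% hmZ, reassoc_of% hv, reassoc_of% (totMap_proj hν d)]
      have ea : (m₁ ≫ mZ ≫ qT).left.appTop (πT.left.appTop a) =
          (m₂ ≫ mZ ≫ qT).left.appTop (πT.left.appTop a) := by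
        rw [← appTop_comp_apply, ← appTop_comp_apply]
        simp only [Category.assoc]
        rw [eA c₁ m₁ hm₁, eA c₂ m₂ hm₂]
        show (_ ≫ _ ≫ p₁ ≫ e ≫ ιV).left.appTop a = (_ ≫ _ ≫ p₂ ≫ e ≫ ιV).left.appTop a
        rw [reassoc_of% hp]
      exact ea
  obtain ⟨R, x₁, x₂, sqR⟩ : ∃ (R : Sp S) (x₁ x₂ : R ⟶ (yon S).obj ZE),
      IsPullback x₁ x₂ ((yon S).map qE) ((yon S).map qE) :=
    ⟨_, _, _, IsPullback.of_hasPullback _ _⟩
  have := isLocallySurjective_of_etale ((yon S).map qE) hqEe hqEs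
  obtain ⟨hc⟩ := isColimit_of_isLocallySurjective sqR
  obtain ⟨φ₀, hφ₀, -⟩ := Cofork.IsColimit.existsUnique hc ((yon S).map (mZ ≫ qT))
    (Groth.AlgSp2.hom_ext_yon fun W z => by
      obtain ⟨z₁, hz₁⟩ := (yon S).map_surjective (z ≫ x₁)
      obtain ⟨z₂, hz₂⟩ := (yon S).map_surjective (z ≫ x₂)
      rw [← Category.assoc, ← Category.assoc z, ← hz₁, ← hz₂, ← Functor.map_comp,
        ← Functor.map_comp]
      refine congrArg (yon S).map (hagree z₁ z₂ ((yon S).map_injective ?_))
      rw [Functor.map_comp, Functor.map_comp, hz₁, hz₂, Category.assoc, Category.assoc, sqR.w])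
  obtain ⟨φ, rfl⟩ := (yon S).map_surjective φ₀
  have hφ : qE ≫ φ = mZ ≫ qT := (yon S).map_injective (by rw [Functor.map_comp]; exact hφ₀)
  have hφπ : φ ≫ πT = zV ≫ ιV := (yon S).map_injective ((cancel_epi ((yon S).map qE)).1 (by
    rw [← Functor.map_comp, ← Functor.map_comp, reassoc_of% hφ, sqPT.w, reassoc_of% hmZ,
      reassoc_of% hqE₂]))
  obtain ⟨m, hm⟩ := (yon S).map_surjective (sqZ.lift (xN ≫ g) ((yon S).map xVO)
    (by rw [Category.assoc, reassoc_of% hg, sqX.w]))
  have hm₁ : (yon S).map m ≫ zZ = xN ≫ g := by rw [hm, sqZ.lift_fst]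
  have hm₂ : m ≫ zV = xVO := (yon S).map_injective (by rw [Functor.map_comp, hm, sqZ.lift_snd])
  refine ⟨Z, i, g, ZVO, zZ, zV, φ, m, hZ, hi, hifp, hg, hgc, sqZ, hφπ, ?_, hm₂, hm₁,
    fun P q₁ q₂ sqP φ' hφ₁ hφ₂ => ?_⟩
  · -- agreement on the closed subspace, checked on the cover
    apply (yon S).map_injective
    have hlXe : RepWith @Etale ((yon S).map lX) := (repWith_yon_map_iff _ lX).2
      (MorphismProperty.of_isPullback (P := @Etale) (isPullback_left sqXE).flip ‹_›)
    have hlXs : RepWith @Surjective ((yon S).map lX) := (repWith_yon_map_iff _ lX).2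
      (MorphismProperty.of_isPullback (P := @Surjective) (isPullback_left sqXE).flip ‹_›)
    have := isLocallySurjective_of_etale ((yon S).map lX) hlXe hlXs
    refine (cancel_epi ((yon S).map lX)).1 ?_
    rw [← Functor.map_comp, ← Functor.map_comp]
    obtain ⟨l, hl⟩ := (yon S).map_surjective ((isPullback_closedIncl hν hi CE).lift
      (closedToX hν hh CE ≫ g) ((yon S).map incl)
      (by rw [Category.assoc, hg, (isPullback_closedIncl hν hh CE).w]))
    have hl₁ : (yon S).map l ≫ closedToX hν hi CE = closedToX hν hh CE ≫ g := by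
      rw [hl, IsPullback.lift_fst]
    have hl₂ : l ≫ jZ = incl := (yon S).map_injective (by
      rw [Functor.map_comp, hl, IsPullback.lift_snd])
    have hlm : lX ≫ m = l ≫ qE := (yon S).map_injective (sqZ.hom_ext
      (by rw [Functor.map_comp, Functor.map_comp, Category.assoc, Category.assoc, hm₁, hqE₁, hl₁,
        ← Category.assoc, hlX₁])
      (by
        rw [← Functor.map_comp, ← Functor.map_comp, Category.assoc, Category.assoc, hm₂, hqE₂,
          hlX₂]
        refine congrArg (yon S).map ?_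
        show (incl ≫ proj hν CE) ≫ e = l ≫ (jZ ≫ proj hν CE) ≫ e
        simp only [Category.assoc]
        rw [reassoc_of% hl₂]))
    have hlk : l ≫ mZ = kE := hom_ext_appTop fun x => by
      obtain ⟨P, rfl⟩ := hψ x
      rw [appTop_comp_apply, hmZa, hφG, ← appTop_comp_apply, hl₂, hΨ]
    refine congrArg (yon S).map ?_
    rw [reassoc_of% hlm, hφ, reassoc_of% hlk, hkE₁, Category.assoc]
  · -- closed immersion, by descent along the cover
    have : IsAffineHom q₂.left :=
      MorphismProperty.of_isPullback (P := @IsAffineHom) (isPullback_left sqP) ‹_›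
    let eP : PT ⟶ P := sqP.lift qT (pT ≫ e) (by rw [sqPT.w, Category.assoc])
    have heP₂ : eP ≫ q₂ = pT ≫ e := sqP.lift_snd _ _ _
    have sqPE : IsPullback eP pT q₂ e :=
      IsPullback.of_right (by rw [sqP.lift_fst]; exact sqPT) heP₂ sqP
    have : QuasiCompact e.left := by
      have : QuasiCompact (e.left ≫ ιV.left) := inferInstance
      exact QuasiCompact.of_comp e.left ιV.left
    have : QuasiCompact eP.left :=
      MorphismProperty.of_isPullback (P := @QuasiCompact) (isPullback_left sqPE).flip ‹_›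
    have : Etale eP.left :=
      MorphismProperty.of_isPullback (P := @Etale) (isPullback_left sqPE).flip ‹_›
    have sq' : IsPullback mZ qE eP φ' := by
      refine IsPullback.flip (IsPullback.of_bot ?_ (sqP.hom_ext ?_ ?_) sqPE)
      · rw [hmZ, hφ₂]
        exact sqQ
      · simp only [Category.assoc]
        rw [hφ₁, sqP.lift_fst, hφ]
      · simp only [Category.assoc]
        rw [hφ₂, heP₂, reassoc_of% hmZ, hqE₂, Category.assoc]
    exact MorphismProperty.of_isPullback_of_descendsAlong (P := @IsClosedImmersion)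
      (Q := @Surjective ⊓ @Flat ⊓ @QuasiCompact) (isPullback_left sq')
      ⟨⟨MorphismProperty.of_isPullback (P := @Surjective) (isPullback_left sqPE).flip ‹_›,
        (inferInstance : Flat eP.left)⟩, (inferInstance : QuasiCompact eP.left)⟩ hmZc

end

end Groth.AlgSp2.Approx
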