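import Groth.Agent.AlgSp2.Approx.Glue
import Groth.Agent.AlgSp2.Approx.Spread
import Groth.Agent.AlgSp2.Approx.Piece
import Groth.Agent.AlgSp2.Approx.SigmaPieces
import Groth.Agent.AlgSpBasic.ImmersionDescent

/-!
# Finite, finitely presented envelopes: the inductive step
-/

set_option autoImplicit false
set_option linter.unusedSectionVars false
set_option backward.isDefEq.respectTransparency.types false
universe u

open CategoryTheory CategoryTheory.Limits AlgebraicGeometry Opposite AlgSp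

namespace Groth.AlgSp2.Approx

open Groth.AlgSpBasic Groth.AlgSp2 Groth.AlgSp2.QcAffine

noncomputable section

variable {S : Scheme.{u}} {Q : MorphismProperty Scheme.{u}}

/-- A closed immersion into a finitely presented space with `Q` over the target. -/
def HasEnv (Q : MorphismProperty Scheme.{u}) {X Y : Sp S} (f : X ⟶ Y) : Prop :=
  ∃ (T : Sp S) (ν : T ⟶ Y) (h : X ⟶ T), IsAlgSpace T ∧ AffWith Q ν ∧
    LocP @LocallyOfFinitePresentation ν ∧ RepWith @IsClosedImmersion h ∧ h ≫ ν = f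

variable {X Y Os XO Z : Sp S} {f : X ⟶ Y} {j : Os ⟶ Y} {xO : XO ⟶ X} {τ : Z ⟶ Os} {g : XO ⟶ Z}

/-- The data of one piece. -/
structure Comp (Q : MorphismProperty Scheme.{u}) (f : X ⟶ Y) (j : Os ⟶ Y) (xO : XO ⟶ X) (τ : Z ⟶ Os) (g : XO ⟶ Z) : Type (u + 1) where
  {U : Over S} {UO : Over S} {P : Over S} {PO : Over S} {XU : Over S} {XUO : Over S}
  a : (yon S).obj U ⟶ Y
  ι : UO ⟶ U
  aO : (yon S).obj UO ⟶ Os
  sqO : IsPullback aO ((yon S).map ι) j a
  π : P ⟶ U
  qO : PO ⟶ P
  πO : PO ⟶ UO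
  sqP : IsPullback qO πO π ι
  θ : (yon S).obj PO ⟶ Z
  sqT : IsPullback θ ((yon S).map πO) τ aO
  qx : (yon S).obj XU ⟶ X
  πx : XU ⟶ U
  sqX : IsPullback qx ((yon S).map πx) f a
  xX : XUO ⟶ XU
  xUO : XUO ⟶ UO
  sqXO : IsPullback xX xUO πx ι
  iX : XU ⟶ P
  hiX : iX ≫ π = πx
  closed : IsClosedImmersion iX.left
  m : XUO ⟶ PO
  hm : m ≫ qO = xX ≫ iX
  hmπ : m ≫ πO = xUO
  xN : (yon S).obj XUO ⟶ XO
  hxN : xN ≫ xO = (yon S).map xX ≫ qx
  hθ : (yon S).map m ≫ θ = xN ≫ g
  etale : RepWith @Etale a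
  kind : Q π.left
  lfp : LocallyOfFinitePresentation π.left

/-- Pieces glue to an envelope. -/
theorem hasEnv_of_comps [EnvKind Q] (hY : IsAlgSpace Y) (hj : RepWith @IsOpenImmersion j) [Mono xO]
    {ι₀ : Type u} (C : ι₀ → Comp Q f j xO τ g)
    (cover : ∀ y, ∃ i z, AlgSp.Points.ofPt (C i).a z = y)
    (inj : ∀ (A : (yon S).obj (sigmaObj fun i => (C i).U) ⟶ Y),
      (∀ i, (yon S).map (sigmaIncl (fun i => (C i).U) i) ≫ A = (C i).a) →
      ∀ {W : Over S} (x y : W ⟶ sigmaObj fun i => (C i).U),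
        (yon S).map x ≫ A = (yon S).map y ≫ A →
        (∀ t, AlgSp.Points.ofPt ((yon S).map x ≫ A) t ∉ Set.range (AlgSp.Points.map j)) → x = y) :
    HasEnv Q f := by
  have : Mono j := mono_of_repWith (fun _ _ k (_ : IsOpenImmersion k) => inferInstance) hj
  obtain ⟨A, hA, -⟩ := Groth.AlgSp2.exists_glue (fun i => (C i).U) (fun i => (C i).a)
  have ha : RepWith @Etale A := Groth.HenselPoint.repWith_sigma A fun i => by
    rw [hA]; exact (C i).etale
  have has : RepWith @Surjective A := repWith_surjective_of_ofPt ha.rep fun y => by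
    obtain ⟨i, z, rfl⟩ := cover y
    exact ⟨(sigmaIncl (fun i => (C i).U) i).left z, by rw [← hA i, ofPt_comp_yon]⟩
  obtain ⟨aO, haO, sqO⟩ := exists_isPullback_sigma j A (fun i => (C i).aO) (fun i => (C i).ι)
    fun i => by rw [hA]; exact (C i).sqO
  obtain ⟨θ, hθ, sqT⟩ := exists_isPullback_sigma τ aO (fun i => (C i).θ) (fun i => (C i).πO)
    fun i => by rw [haO]; exact (C i).sqT
  obtain ⟨qx, hqx, sqX⟩ := exists_isPullback_sigma f A (fun i => (C i).qx) (fun i => (C i).πx)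
    fun i => by rw [hA]; exact (C i).sqX
  let π₀ := sigmaMap fun i => (C i).π
  let ιU := sigmaMap fun i => (C i).ι
  let qO := sigmaMap fun i => (C i).qO
  let πO := sigmaMap fun i => (C i).πO
  let πx := sigmaMap fun i => (C i).πx
  let xX := sigmaMap fun i => (C i).xX
  let xUO := sigmaMap fun i => (C i).xUO
  let iX := sigmaMap fun i => (C i).iX
  let m := sigmaMap fun i => (C i).m
  have pb : ∀ {U' : ι₀ → Over S} {V' : ι₀ → Over S} {P' : ι₀ → Over S} {Q' : ι₀ → Over S}
      (f' : ∀ i, P' i ⟶ V' i) (g' : ∀ i, U' i ⟶ V' i) (q' : ∀ i, Q' i ⟶ P' i)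
      (w' : ∀ i, Q' i ⟶ U' i), (∀ i, IsPullback (q' i) (w' i) (f' i) (g' i)) →
      IsPullback (sigmaMap q') (sigmaMap w') (sigmaMap f') (sigmaMap g') := by
    intro U' V' P' Q' f' g' q' w' sq
    obtain ⟨Q, hQ, sqQ⟩ := exists_isPullback_sigma ((yon S).map (sigmaMap f'))
      ((yon S).map (sigmaMap g')) (fun i => (yon S).map (q' i ≫ sigmaIncl P' i)) w' fun i => by
        rw [← Functor.map_comp, sigmaIncl_map]
        exact ((sq i).paste_horiz (isPullback_component f' i)).map (yon S)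
    have e : Q = (yon S).map (sigmaMap q') := sigma_hom_ext Q' fun i => by
      rw [hQ, ← Functor.map_comp, sigmaIncl_map]
    subst e
    exact isPullback_of_yon sqQ
  have sqP : IsPullback qO πO π₀ ιU := pb _ _ _ _ fun i => (C i).sqP
  have sqXO : IsPullback xX xUO πx ιU := pb _ _ _ _ fun i => (C i).sqXO
  have hι : IsOpenImmersion ιU.left := hj.property _ _ _ sqO
  have H : Pieces A j ιU aO π₀ qO πO τ θ := ⟨hY, ha, has, inferInstance, hι, sqO, sqP, sqT, inj A hA⟩
  have hiX : iX ≫ π₀ = πx := (yon S).map_injective (sigma_hom_ext _ fun i => by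
    simp only [← Functor.map_comp]
    rw [sigmaIncl_map_assoc, sigmaIncl_map, sigmaIncl_map, ← Category.assoc, (C i).hiX])
  have hm : m ≫ qO = xX ≫ iX := (yon S).map_injective (sigma_hom_ext _ fun i => by
    simp only [← Functor.map_comp]
    rw [sigmaIncl_map_assoc, sigmaIncl_map, ← Category.assoc, (C i).hm, sigmaIncl_map_assoc,
      sigmaIncl_map, Category.assoc])
  have hmπ : m ≫ πO = xUO := (yon S).map_injective (sigma_hom_ext _ fun i => by
    simp only [← Functor.map_comp]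
    rw [sigmaIncl_map_assoc, sigmaIncl_map, sigmaIncl_map, ← Category.assoc, (C i).hmπ])
  have sqm : IsPullback xX m iX qO :=
    IsPullback.of_bot (by rw [hiX, hmπ]; exact sqXO) hm.symm sqP
  obtain ⟨xN, hxN, -⟩ := Groth.AlgSp2.exists_glue (fun i => (C i).XUO) (fun i => (C i).xN)
  have hxN' : xN ≫ xO = (yon S).map xX ≫ qx := sigma_hom_ext _ fun i => by
    rw [reassoc_of% (hxN i), (C i).hxN, ← Category.assoc ((yon S).map (sigmaIncl _ i)),
      ← Functor.map_comp, sigmaIncl_map, Functor.map_comp, Category.assoc, hqx]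
  have hθ' : (yon S).map m ≫ θ = xN ≫ g := sigma_hom_ext _ fun i => by
    rw [reassoc_of% (hxN i), ← Category.assoc, ← Functor.map_comp, sigmaIncl_map, Functor.map_comp,
      Category.assoc, hθ, (C i).hθ]
  have hfin : Q π₀.left := sigmaMap_prop (P := Q) _ fun i => (C i).kind
  have hlfp : LocallyOfFinitePresentation π₀.left :=
    sigmaMap_prop (P := @LocallyOfFinitePresentation) _ fun i => (C i).lfp
  have hcl : IsClosedImmersion iX.left := sigmaMap_prop (P := @IsClosedImmersion) _ fun i => (C i).closed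
  obtain ⟨T, ν, qT, h, hT, hν, sqν, hfac, sqh⟩ := exists_glue H (Q := Q)
    (affWith_of_repWith EnvKind.le_isAffineHom
      ((repWith_yon_map_iff _ π₀).2 hfin)) sqX iX hiX fun W x x' y y' hy hy' hxx => by
      have key : ∀ (x : W ⟶ _) (y : W ⟶ _), y ≫ qO = x ≫ iX → ∃ o : (yon S).obj W ⟶ XO,
          (yon S).map y ≫ θ = o ≫ g ∧ o ≫ xO = (yon S).map x ≫ qx := by
        intro x y hy
        refine ⟨(yon S).map (sqm.lift x y hy.symm) ≫ xN, ?_, ?_⟩
        · rw [Category.assoc, ← hθ', ← Category.assoc, ← Functor.map_comp, sqm.lift_snd]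
        · rw [Category.assoc, hxN', ← Category.assoc, ← Functor.map_comp, sqm.lift_fst]
      obtain ⟨o, ho, hox⟩ := key x y hy
      obtain ⟨o', ho', hox'⟩ := key x' y' hy'
      rw [ho, ho', (cancel_mono xO).1 (hox.trans (hxx.trans hox'.symm))]
  have hqT : RepWith @Etale qT := repWith_of_isPullback sqν.flip ha
  have hqTs : RepWith @Surjective qT := repWith_of_isPullback sqν.flip has
  exact ⟨T, ν, h, hT, hν,
    locP_of_target_cover hT hY ha has sqν (locP_of_repWith ((repWith_yon_map_iff _ π₀).2 hlfp)),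
    repWith_isClosedImmersion_of_cover hT hqT hqTs sqh ((repWith_yon_map_iff _ iX).2 hcl), hfac⟩

/-- Envelopes extend over an etale chart injective off an open. -/
theorem envelope_step [EnvKind Q] [QuasiSeparatedSpace ↥S] (hY : IsAlgSpace Y)
    (hYqs : IsQuasiSeparatedSp Y) (hOs : IsAlgSpace Os) (AO : Atlas Os)
    (hf : AffWith Q f) (hj : RepWith @IsOpenImmersion j)
    {V : Over S} [IsAffine V.left] (b : (yon S).obj V ⟶ Y) (hb : RepWith @Etale b)
    (hinj : ∀ {W : Over S} (x y : W ⟶ V), (yon S).map x ≫ b = (yon S).map y ≫ b →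
      (∀ t, AlgSp.Points.ofPt ((yon S).map x ≫ b) t ∉ Set.range (AlgSp.Points.map j)) → x = y)
    (hcov : ∀ y, y ∈ Set.range (AlgSp.Points.map j) ∨ ∃ z, AlgSp.Points.ofPt b z = y)
    {fO : XO ⟶ Os} (sqOX : IsPullback xO fO f j) (hE : HasEnv Q fO) : HasEnv Q f := by
  have : Mono j := mono_of_repWith (fun _ _ k (_ : IsOpenImmersion k) => inferInstance) hj
  have : Mono xO :=
    MorphismProperty.of_isPullback (P := MorphismProperty.monomorphisms (Sp S)) sqOX.flip
      (MorphismProperty.monomorphisms.infer_property j)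
  obtain ⟨N, τ₀, hO, hN, hτ, hτfp, hhO, hfacO⟩ := hE
  subst hfacO
  obtain ⟨XV, gV, qV, sqV0, -, hgV⟩ := hf ‹IsAffine V.left› b
  obtain ⟨TV, πT, κ, hTV, hπT, hπTfp, hκ, hκπ⟩ := exists_fp_envelope gV hgV
  have : IsAffineHom πT.left := EnvKind.isAffineHom hπT
  subst hκπ
  -- the part of the chart over the open
  obtain ⟨VO, ιV, bO, sqVO⟩ := hj.rep b
  have hιV : IsOpenImmersion ιV.left := hj.property _ _ _ sqVO
  have hVOc : CompactSpace ↥VO.left := by
    obtain ⟨K, k₁, k₂, sqK⟩ := exists_pullback_of_diag hY.diag (AO.C.b ≫ j) b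
    have : QuasiCompact k₂.left :=
      repWith_fst_of_isPullback sqK (repWith_quasiCompact_of_qs hY hYqs (AO.C.b ≫ j))
    have : CompactSpace ↥K.left := QuasiCompact.compactSpace_of_compactSpace k₂.left
    obtain ⟨l, hl⟩ := (yon S).map_surjective (sqVO.lift ((yon S).map k₁ ≫ AO.C.b) ((yon S).map k₂)
      (by rw [Category.assoc]; exact sqK.w))
    have hl₂ : l ≫ ιV = k₂ := (yon S).map_injective (by
      rw [Functor.map_comp, hl, sqVO.lift_snd])
    have sql : IsPullback ((yon S).map k₁) ((yon S).map l) AO.C.b bO := by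
      refine IsPullback.of_bot ?_ (by rw [hl, sqVO.lift_fst]) sqVO
      rw [← Functor.map_comp, hl₂]
      exact sqK
    have : Surjective l.left := repWith_fst_of_isPullback sql AO.surj
    exact l.left.surjective.compactSpace l.left.continuous
  obtain ⟨XVO, xX, xVO, sqXV⟩ : ∃ (XVO : Over S) (xX : XVO ⟶ XV) (xVO : XVO ⟶ VO),
      IsPullback xX xVO (κ ≫ πT) ιV := ⟨_, _, _, IsPullback.of_hasPullback _ _⟩
  let xNV : (yon S).obj XVO ⟶ XO := sqOX.lift ((yon S).map xX ≫ qV) ((yon S).map xVO ≫ bO) (by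
    rw [Category.assoc, Category.assoc, sqV0.w, ← Category.assoc, ← Functor.map_comp, sqXV.w,
      sqVO.w, Functor.map_comp, Category.assoc])
  have hxNV₁ : xNV ≫ xO = (yon S).map xX ≫ qV := sqOX.lift_fst _ _ _
  have hxNV₂ : xNV ≫ hO ≫ τ₀ = (yon S).map xVO ≫ bO := sqOX.lift_snd _ _ _
  have sqNV : IsPullback xNV ((yon S).map xVO) (hO ≫ τ₀) bO := by
    refine IsPullback.of_right ?_ hxNV₂ sqOX
    rw [hxNV₁, sqVO.w]
    exact (sqXV.map (yon S)).paste_horiz sqV0
  obtain ⟨Z, i, g, ZVO, zZ, zV, φ, m, hZ, hi, hifp, hg, hgc, sqZ, hφπ, hmφ, hmz, hmzZ, hφc⟩ :=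
    exists_spread (affWith_mono EnvKind.le hτ) hhO hOs hN AO πT κ ιV bO xX xVO sqXV xNV sqNV
  have hir : RepWith Q (i ≫ τ₀) :=
    repWith_comp (repWith_mono EnvKind.closed hi) (repWith_of_affWith hτ)
  have hirfp : RepWith @LocallyOfFinitePresentation (i ≫ τ₀) :=
    repWith_of_locP hOs hir.rep (locP_comp hZ hN hOs hifp hτfp)
  have hzVfp : LocallyOfFinitePresentation zV.left := hirfp.property _ _ _ sqZ
  obtain ⟨T', π', k, q, hT', hπ', hπ'fp, hk, hkπ, sqT', hxk⟩ :=
    exists_piece πT hπT κ ιV sqXV zV φ m hφπ hmφ hφc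
  let CV : Comp Q f j xO (i ≫ τ₀) g :=
    { a := b, ι := ιV, aO := bO, sqO := sqVO, π := π', qO := q, πO := zV, sqP := sqT'
      θ := zZ, sqT := sqZ, qx := qV, πx := κ ≫ πT, sqX := sqV0, xX := xX, xUO := xVO
      sqXO := sqXV, iX := k, hiX := hkπ, closed := hk, m := m, hm := hxk.symm, hmπ := hmz
      xN := xNV, hxN := hxNV₁, hθ := hmzZ, etale := hb, kind := hπ', lfp := hπ'fp }
  -- the atlas of the open
  obtain ⟨ZA, πA, zA, sqA⟩ := hir.rep AO.C.b
  obtain ⟨XA, gA, qA, sqA0, -, hgA⟩ := hf AO.C.aff (AO.C.b ≫ j)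
  let xNA : (yon S).obj XA ⟶ XO := sqOX.lift qA ((yon S).map gA ≫ AO.C.b) (by
    rw [Category.assoc]; exact sqA0.w)
  have hxNA₁ : xNA ≫ xO = qA := sqOX.lift_fst _ _ _
  have hxNA₂ : xNA ≫ hO ≫ τ₀ = (yon S).map gA ≫ AO.C.b := sqOX.lift_snd _ _ _
  obtain ⟨mA, hmA⟩ := (yon S).map_surjective (sqA.lift (xNA ≫ g) ((yon S).map gA)
    (by rw [Category.assoc, reassoc_of% hg]; exact hxNA₂))
  have hmA₁ : (yon S).map mA ≫ zA = xNA ≫ g := by rw [hmA, sqA.lift_fst]
  have hmA₂ : mA ≫ πA = gA := (yon S).map_injective (by rw [Functor.map_comp, hmA, sqA.lift_snd])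
  have sqmA : IsPullback xNA ((yon S).map mA) g zA := by
    refine IsPullback.of_bot ?_ hmA₁.symm sqA
    rw [← Functor.map_comp, hmA₂, reassoc_of% hg]
    refine IsPullback.of_right ?_ hxNA₂ sqOX
    rw [hxNA₁]
    exact sqA0
  have haA : RepWith @Etale (AO.C.b ≫ j) := repWith_comp AO.etale
    (repWith_mono (fun _ _ k (_ : IsOpenImmersion k) => (inferInstance : Etale k)) hj)
  let CA : Comp Q f j xO (i ≫ τ₀) g :=
    { a := AO.C.b ≫ j, ι := 𝟙 _, aO := AO.C.b
      sqO := by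
        rw [CategoryTheory.Functor.map_id]
        exact IsPullback.of_vert_isIso_mono ⟨by simp⟩
      π := πA, qO := 𝟙 _, πO := πA, sqP := IsPullback.of_horiz_isIso ⟨by simp⟩
      θ := zA, sqT := sqA, qx := qA, πx := gA, sqX := sqA0, xX := 𝟙 _, xUO := gA
      sqXO := IsPullback.of_horiz_isIso ⟨by simp⟩
      iX := mA, hiX := hmA₂, closed := hgc.property _ _ _ sqmA, m := mA, hm := by simp, hmπ := hmA₂
      xN := xNA, hxN := by rw [hxNA₁, CategoryTheory.Functor.map_id, Category.id_comp]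
      hθ := hmA₁, etale := haA, kind := hir.property _ _ _ sqA, lfp := hirfp.property _ _ _ sqA }
  let C : ULift.{u} Bool → Comp Q f j xO (i ≫ τ₀) g := fun x => match x.down with
    | true => CV
    | false => CA
  refine hasEnv_of_comps hY hj C (fun y => ?_) fun A hA W x y e hout => ?_
  · rcases hcov y with ⟨o, rfl⟩ | ⟨z, rfl⟩
    · obtain ⟨u, rfl⟩ := surjective_ofPt_of_repWith AO.surj o
      exact ⟨⟨false⟩, u, (AlgSp.Points.map_ofPt AO.C.b j u).symm⟩
    · exact ⟨⟨true⟩, z, rfl⟩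
  · -- points off the open lie in the chart
    let U : ULift.{u} Bool → Over S := fun i => (C i).U
    have hw : ∀ (x : W ⟶ sigmaObj U),
        (∀ t, AlgSp.Points.ofPt ((yon S).map x ≫ A) t ∉ Set.range (AlgSp.Points.map j)) →
        ∃ x' : W ⟶ V, x' ≫ sigmaIncl U ⟨true⟩ = x := by
      intro x hx
      have hr : Set.range x.left ⊆ Set.range (sigmaIncl U ⟨true⟩).left := by
        rintro _ ⟨t, rfl⟩
        obtain ⟨⟨c⟩, w, hw⟩ := (sigmaOpenCover fun i => (U i).left).exists_eq (x.left t)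
        cases c with
        | true => exact ⟨w, hw⟩
        | false =>
          refine absurd ⟨AlgSp.Points.ofPt AO.C.b w, ?_⟩ (hx t)
          rw [ofPt_comp_yon, ← hw]
          show _ = AlgSp.Points.ofPt A ((sigmaIncl U ⟨false⟩).left w)
          rw [← ofPt_comp_yon, hA]
          exact AlgSp.Points.map_ofPt AO.C.b j w
      have : IsOpenImmersion (sigmaIncl U ⟨true⟩).left :=
        inferInstanceAs (IsOpenImmersion (Sigma.ι (fun i => (U i).left) _))
      exact ⟨Over.homMk (IsOpenImmersion.lift _ _ hr) (by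
        rw [← Over.w (sigmaIncl U ⟨true⟩)]
        exact (IsOpenImmersion.lift_fac_assoc _ _ _ _).trans (Over.w x)),
        Over.OverMorphism.ext (IsOpenImmersion.lift_fac _ _ _)⟩
    obtain ⟨x', rfl⟩ := hw x hout
    obtain ⟨y', rfl⟩ := hw y (by rw [← e]; exact hout)
    have hA' : ∀ z : W ⟶ V, (yon S).map (z ≫ sigmaIncl U ⟨true⟩) ≫ A = (yon S).map z ≫ b := fun z => by
      rw [Functor.map_comp, Category.assoc, hA]
    rw [hA', hA'] at e
    rw [hinj x' y' e fun t => by
      have := hout t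
      rwa [hA'] at this]

end

end Groth.AlgSp2.Approx
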