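import Groth.Agent.AlgSp2.QcAffine.Quotient
import Groth.Agent.AlgSpBasic.EqualizerOpen
import Groth.Agent.AlgSpBasic.Filtration

/-!
# Gluing an affine space over an open with a scheme over an etale chart injective off the open
-/

set_option autoImplicit false
set_option linter.unusedSectionVars false
set_option backward.isDefEq.respectTransparency.types false
universe u

open CategoryTheory CategoryTheory.Limits AlgebraicGeometry Opposite AlgSp Topology

namespace Groth.AlgSp2.Approx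

open Groth.AlgSpBasic

noncomputable section

variable {S : Scheme.{u}} {Y Os T₁ : Sp S} {U UO P₀ PO : Over S} {a : (yon S).obj U ⟶ Y}
  {j : Os ⟶ Y} {ι : UO ⟶ U} {aO : (yon S).obj UO ⟶ Os} {π₀ : P₀ ⟶ U} {qO : PO ⟶ P₀}
  {πO : PO ⟶ UO} {τ : T₁ ⟶ Os} {θ : (yon S).obj PO ⟶ T₁}

/-- Two points of the pieces are identified. -/
def Rel (a : (yon S).obj U ⟶ Y) (π₀ : P₀ ⟶ U) (qO : PO ⟶ P₀) (θ : (yon S).obj PO ⟶ T₁)
    {W : Over S} (x z : W ⟶ P₀) : Prop :=
  (yon S).map (x ≫ π₀) ≫ a = (yon S).map (z ≫ π₀) ≫ a ∧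
    (∀ (W' : Over S) (w : W' ⟶ W) (y y' : W' ⟶ PO), y ≫ qO = w ≫ x → y' ≫ qO = w ≫ z →
      (yon S).map y ≫ θ = (yon S).map y' ≫ θ) ∧
    ∀ (W' : Over S) (w : W' ⟶ W), w ≫ x ≫ π₀ = w ≫ z ≫ π₀ → w ≫ x = w ≫ z

theorem Rel.comp {W W' : Over S} {x z : W ⟶ P₀} (h : Rel a π₀ qO θ x z) (w : W' ⟶ W) :
    Rel a π₀ qO θ (w ≫ x) (w ≫ z) := by
  refine ⟨?_, fun W'' v y y' e e' => h.2.1 W'' (v ≫ w) y y' (by rw [e, Category.assoc])
    (by rw [e', Category.assoc]), fun W'' v e => ?_⟩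
  · simp only [Category.assoc]
    rw [Functor.map_comp, Category.assoc, h.1, ← Category.assoc, ← Functor.map_comp]
  · have := h.2.2 W'' (v ≫ w) (by simpa only [Category.assoc] using e)
    simpa only [Category.assoc] using this

theorem Rel.symm {W : Over S} {x z : W ⟶ P₀} (h : Rel a π₀ qO θ x z) : Rel a π₀ qO θ z x :=
  ⟨h.1.symm, fun W' w y y' e e' => (h.2.1 W' w y' y e' e).symm,
    fun W' w e => (h.2.2 W' w e.symm).symm⟩

theorem Rel.refl [Mono qO] {W : Over S} (x : W ⟶ P₀) : Rel a π₀ qO θ x x :=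
  ⟨rfl, fun W' w y y' e e' => by rw [(cancel_mono qO).1 (e.trans e'.symm)], fun _ _ _ => rfl⟩

/-- The pieces to glue. -/
structure Pieces (a : (yon S).obj U ⟶ Y) (j : Os ⟶ Y) (ι : UO ⟶ U) (aO : (yon S).obj UO ⟶ Os)
    (π₀ : P₀ ⟶ U) (qO : PO ⟶ P₀) (πO : PO ⟶ UO) (τ : T₁ ⟶ Os) (θ : (yon S).obj PO ⟶ T₁) : Prop where
  hY : IsAlgSpace Y
  ha : RepWith @Etale a
  has : RepWith @Surjective a
  hj : Mono j
  hι : IsOpenImmersion ι.left
  sqO : IsPullback aO ((yon S).map ι) j a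
  sqP : IsPullback qO πO π₀ ι
  sqT : IsPullback θ ((yon S).map πO) τ aO
  inj : ∀ {W : Over S} (x y : W ⟶ U), (yon S).map x ≫ a = (yon S).map y ≫ a →
    (∀ t, AlgSp.Points.ofPt ((yon S).map x ≫ a) t ∉ Set.range (AlgSp.Points.map j)) → x = y

variable (H : Pieces a j ι aO π₀ qO πO τ θ)

include H in
theorem mono_qO : Mono qO := by
  have := H.hι
  have : Mono ι := Over.mono_of_mono_left ι
  exact MorphismProperty.of_isPullback (P := MorphismProperty.monomorphisms (Over S)) H.sqP.flip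
    (MorphismProperty.monomorphisms.infer_property ι)

include H in
/-- A point of a piece over the open lifts. -/
theorem exists_lift_PO {W : Over S} (x : W ⟶ P₀) (g : (yon S).obj W ⟶ Os)
    (hg : g ≫ j = (yon S).map (x ≫ π₀) ≫ a) : ∃ y : W ⟶ PO, y ≫ qO = x := by
  obtain ⟨r, hr⟩ := (yon S).map_surjective (H.sqO.lift g ((yon S).map (x ≫ π₀)) hg)
  have hr' : r ≫ ι = x ≫ π₀ := (yon S).map_injective (by
    rw [Functor.map_comp, hr, H.sqO.lift_snd])
  exact ⟨H.sqP.lift x r hr'.symm, H.sqP.lift_fst _ _ _⟩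

include H in
/-- The locus where two maps to the chart agree or lie over the open covers. -/
theorem exists_cover {W : Over S} (u₁ u₂ : W ⟶ U) (e : (yon S).map u₁ ≫ a = (yon S).map u₂ ≫ a) :
    ∃ (V₁ V₂ : W.left.Opens), (∀ w, w ∈ V₁ ∨ w ∈ V₂) ∧
      (∀ (W' : Over S) (v : W' ⟶ W), (∀ x, v.left x ∈ V₁) ↔ ∃ r : W' ⟶ UO, r ≫ ι = v ≫ u₁) ∧
      ∀ (W' : Over S) (v : W' ⟶ W), (∀ x, v.left x ∈ V₂) ↔ v ≫ u₁ = v ≫ u₂ := by
  have := H.hι
  obtain ⟨K, k₁, k₂, sqK⟩ := exists_pullback_of_diag H.hY.diag a a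
  have : Etale k₁.left := repWith_fst_of_isPullback sqK.flip H.ha
  obtain ⟨Δ, hΔ⟩ := (yon S).map_surjective (sqK.lift (𝟙 _) (𝟙 _) rfl)
  have hΔ₁ : Δ ≫ k₁ = 𝟙 _ := (yon S).map_injective (by
    rw [Functor.map_comp, hΔ, sqK.lift_fst, CategoryTheory.Functor.map_id])
  have hΔ₂ : Δ ≫ k₂ = 𝟙 _ := (yon S).map_injective (by
    rw [Functor.map_comp, hΔ, sqK.lift_snd, CategoryTheory.Functor.map_id])
  have hΔi : IsIso (Δ.left ≫ k₁.left) := by rw [← Over.comp_left, hΔ₁]; infer_instance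
  have : Mono Δ.left := mono_of_mono Δ.left k₁.left
  have : Etale Δ.left := MorphismProperty.of_postcomp (W' := @Etale) (W := @Etale) Δ.left k₁.left
    inferInstance inferInstance
  have : IsOpenImmersion Δ.left := IsOpenImmersion.of_flat_of_mono Δ.left
  obtain ⟨l, hl⟩ := (yon S).map_surjective (sqK.lift ((yon S).map u₁) ((yon S).map u₂) e)
  have hl₁ : l ≫ k₁ = u₁ := (yon S).map_injective (by rw [Functor.map_comp, hl, sqK.lift_fst])
  have hl₂ : l ≫ k₂ = u₂ := (yon S).map_injective (by rw [Functor.map_comp, hl, sqK.lift_snd])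
  refine ⟨u₁.left ⁻¹ᵁ ι.left.opensRange, l.left ⁻¹ᵁ Δ.left.opensRange, fun w => ?_,
    fun W' v => ⟨fun h => ?_, ?_⟩, fun W' v => ⟨fun h => ?_, fun h => ?_⟩⟩
  · by_cases hw : w ∈ u₁.left ⁻¹ᵁ ι.left.opensRange
    · exact Or.inl hw
    · refine Or.inr ?_
      let x := resPt w
      have hx : x.left (IsLocalRing.closedPoint _) = w := Scheme.fromSpecResidueField_apply _ _
      have hxy : x ≫ u₁ = x ≫ u₂ := H.inj _ _
        (by rw [Functor.map_comp, Functor.map_comp, Category.assoc, Category.assoc, e]) fun t ht => by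
          apply hw
          rw [ofPt_comp_yon, Over.comp_left, Scheme.Hom.comp_apply,
            show x.left t = w from Scheme.fromSpecResidueField_apply _ _] at ht
          obtain ⟨q, hq⟩ := ht
          obtain ⟨v, -, hv⟩ := (map_eq_ofPt_iff H.sqO q (u₁.left w)).1 hq
          exact ⟨v, hv⟩
      have hlz : x ≫ l = (x ≫ u₁) ≫ Δ := (yon S).map_injective (by
        apply sqK.hom_ext
        · rw [← Functor.map_comp, ← Functor.map_comp, Category.assoc, hl₁, Category.assoc _ Δ, hΔ₁,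
            Category.comp_id]
        · rw [← Functor.map_comp, ← Functor.map_comp, Category.assoc, hl₂, Category.assoc _ Δ, hΔ₂,
            Category.comp_id, hxy])
      refine ⟨(x ≫ u₁).left (IsLocalRing.closedPoint _), ?_⟩
      rw [← Scheme.Hom.comp_apply, ← Over.comp_left, ← hlz, Over.comp_left, Scheme.Hom.comp_apply,
        hx]
  · have hr : Set.range (v ≫ u₁).left ⊆ Set.range ι.left := by
      rintro _ ⟨x, rfl⟩
      exact h x
    exact ⟨Over.homMk (IsOpenImmersion.lift ι.left (v ≫ u₁).left hr) (by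
      rw [← Over.w ι, IsOpenImmersion.lift_fac_assoc, Over.w]),
      Over.OverMorphism.ext (IsOpenImmersion.lift_fac _ _ _)⟩
  · rintro ⟨r, hr⟩ x
    show u₁.left (v.left x) ∈ ι.left.opensRange
    rw [← Scheme.Hom.comp_apply, ← Over.comp_left, ← hr]
    exact ⟨r.left x, rfl⟩
  · have hr : Set.range (v ≫ l).left ⊆ Set.range Δ.left := by
      rintro _ ⟨x, rfl⟩
      exact h x
    let k : W' ⟶ U := Over.homMk (IsOpenImmersion.lift Δ.left (v ≫ l).left hr) (by
      rw [← Over.w Δ, IsOpenImmersion.lift_fac_assoc, Over.w])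
    have hk : k ≫ Δ = v ≫ l := Over.OverMorphism.ext (IsOpenImmersion.lift_fac _ _ _)
    rw [← hl₁, ← hl₂, ← reassoc_of% hk, ← reassoc_of% hk, hΔ₁, hΔ₂]
  · intro x
    have : v ≫ l = (v ≫ u₁) ≫ Δ := (yon S).map_injective (by
      apply sqK.hom_ext
      · rw [← Functor.map_comp, ← Functor.map_comp, Category.assoc, hl₁, Category.assoc _ Δ, hΔ₁,
          Category.comp_id]
      · rw [← Functor.map_comp, ← Functor.map_comp, Category.assoc, hl₂, Category.assoc _ Δ, hΔ₂,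
          Category.comp_id, h])
    refine ⟨(v ≫ u₁).left x, ?_⟩
    show Δ.left _ = l.left (v.left x)
    rw [← Scheme.Hom.comp_apply, ← Over.comp_left, ← this]
    rfl

theorem hom_ext_of_two {W P : Over S} {V₁ V₂ : W.left.Opens} (hc : ∀ w, w ∈ V₁ ∨ w ∈ V₂)
    {m₁ m₂ : W ⟶ P}
    (h₁ : (Over.homMk V₁.ι rfl : Over.mk (V₁.ι ≫ W.hom) ⟶ W) ≫ m₁ =
      (Over.homMk V₁.ι rfl : Over.mk (V₁.ι ≫ W.hom) ⟶ W) ≫ m₂)
    (h₂ : (Over.homMk V₂.ι rfl : Over.mk (V₂.ι ≫ W.hom) ⟶ W) ≫ m₁ =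
      (Over.homMk V₂.ι rfl : Over.mk (V₂.ι ≫ W.hom) ⟶ W) ≫ m₂) : m₁ = m₂ := by
  ext : 1
  have hcov : ⨆ b : Bool, (if b then V₁ else V₂) = ⊤ := by
    refine top_le_iff.1 fun w _ => TopologicalSpace.Opens.mem_iSup.2 ?_
    rcases hc w with h | h
    · exact ⟨true, h⟩
    · exact ⟨false, h⟩
  refine (W.left.openCoverOfIsOpenCover _ hcov).hom_ext _ _ fun b => ?_
  cases b
  · exact congrArg CommaMorphism.left h₂
  · exact congrArg CommaMorphism.left h₁

include H in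
theorem eq_of_lifts {W : Over S} {y y' : W ⟶ PO} (e : (yon S).map y ≫ θ = (yon S).map y' ≫ θ)
    (e' : y ≫ qO ≫ π₀ = y' ≫ qO ≫ π₀) : y = y' := by
  apply (yon S).map_injective
  refine H.sqT.hom_ext e ?_
  have := H.hι
  have : Mono ι := Over.mono_of_mono_left ι
  rw [← Functor.map_comp, ← Functor.map_comp, (cancel_mono ι).1
    (show (y ≫ πO) ≫ ι = (y' ≫ πO) ≫ ι by rw [Category.assoc, Category.assoc, ← H.sqP.w, e'])]

include H in
theorem Rel.trans {W : Over S} {x z z' : W ⟶ P₀} (h : Rel a π₀ qO θ x z)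
    (h' : Rel a π₀ qO θ z z') : Rel a π₀ qO θ x z' := by
  have lift : ∀ {W' : Over S} (w : W' ⟶ W) (y : W' ⟶ PO), y ≫ qO = w ≫ x →
      ∃ y' : W' ⟶ PO, y' ≫ qO = w ≫ z := fun {W'} w y hy =>
    exists_lift_PO H (w ≫ z) ((yon S).map (y ≫ πO) ≫ aO) (by
      rw [Category.assoc, H.sqO.w, ← Category.assoc, ← Functor.map_comp, Category.assoc, ← H.sqP.w,
        ← Category.assoc y, hy]
      simp only [Category.assoc]
      rw [Functor.map_comp, Category.assoc, h.1, ← Category.assoc, ← Functor.map_comp])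
  refine ⟨h.1.trans h'.1, fun W' w y y'' e e'' => ?_, fun W' w e => ?_⟩
  · obtain ⟨y', hy'⟩ := lift w y e
    exact (h.2.1 W' w y y' e hy').trans (h'.2.1 W' w y' y'' hy' e'')
  · obtain ⟨V₁, V₂, hc, h₁, h₂⟩ := exists_cover H (w ≫ x ≫ π₀) (w ≫ z ≫ π₀)
      (by rw [Functor.map_comp, Category.assoc, h.1, ← Category.assoc, ← Functor.map_comp])
    refine hom_ext_of_two hc ?_ ?_
    · obtain ⟨r, hr⟩ :=
        (h₁ _ (Over.homMk V₁.ι rfl : Over.mk (V₁.ι ≫ W'.hom) ⟶ W')).1 fun x => x.2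
      let v : Over.mk (V₁.ι ≫ W'.hom) ⟶ W' := Over.homMk V₁.ι rfl
      have hx : (v ≫ w ≫ x) ≫ π₀ = r ≫ ι := by simp only [Category.assoc]; exact hr.symm
      have hz' : (v ≫ w ≫ z') ≫ π₀ = r ≫ ι := by
        simp only [Category.assoc]; rw [← e]; exact hr.symm
      let y := H.sqP.lift (v ≫ w ≫ x) r hx
      let y'' := H.sqP.lift (v ≫ w ≫ z') r hz'
      have e₁ : y ≫ qO = v ≫ w ≫ x := H.sqP.lift_fst _ _ _
      have e₂ : y'' ≫ qO = v ≫ w ≫ z' := H.sqP.lift_fst _ _ _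
      obtain ⟨y', hy'⟩ := lift (v ≫ w) y (by rw [e₁, Category.assoc])
      have hθ := (h.2.1 _ (v ≫ w) y y' (by rw [e₁, Category.assoc]) hy').trans
        (h'.2.1 _ (v ≫ w) y' y'' hy' (by rw [e₂, Category.assoc]))
      have := eq_of_lifts H hθ (by
        rw [reassoc_of% e₁, reassoc_of% e₂, e])
      show v ≫ w ≫ x = v ≫ w ≫ z'
      rw [← e₁, ← e₂, this]
    · let v : Over.mk (V₂.ι ≫ W'.hom) ⟶ W' := Over.homMk V₂.ι rfl
      have hv : v ≫ w ≫ x ≫ π₀ = v ≫ w ≫ z ≫ π₀ := (h₂ _ v).1 fun x => x.2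
      have e₁ := h.2.2 _ (v ≫ w) (by simpa only [Category.assoc] using hv)
      have e₂ := h'.2.2 _ (v ≫ w) (by
        simp only [Category.assoc]
        rw [← hv, e])
      simp only [Category.assoc] at e₁ e₂
      exact e₁.trans e₂

include H in
theorem Rel.eq {W : Over S} {x z z' : W ⟶ P₀} (h : Rel a π₀ qO θ x z) (h' : Rel a π₀ qO θ x z')
    (e : z ≫ π₀ = z' ≫ π₀) : z = z' := by
  simpa using (Rel.trans H h.symm h').2.2 W (𝟙 W) (by rw [e])

include H in
/-- Every point is identified with one over any other point of the chart with the same image. -/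
theorem exists_act {P : Over S} (q : P ⟶ P₀) (π : P ⟶ U)
    (e : (yon S).map (q ≫ π₀) ≫ a = (yon S).map π ≫ a) :
    ∃ φ : P ⟶ P₀, φ ≫ π₀ = π ∧ Rel a π₀ qO θ q φ := by
  have := H.hι
  have := H.hj
  have hq := mono_qO H
  obtain ⟨V₁, V₂, hc, h₁, h₂⟩ := exists_cover H (q ≫ π₀) π e
  let v₁ : Over.mk (V₁.ι ≫ P.hom) ⟶ P := Over.homMk V₁.ι rfl
  let v₂ : Over.mk (V₂.ι ≫ P.hom) ⟶ P := Over.homMk V₂.ι rfl
  obtain ⟨r, hr⟩ := (h₁ _ v₁).1 fun x => x.2
  have hy₀ : (v₁ ≫ q) ≫ π₀ = r ≫ ι := by rw [hr, Category.assoc]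
  let y := H.sqP.lift (v₁ ≫ q) r hy₀
  have hyq : y ≫ qO = v₁ ≫ q := H.sqP.lift_fst _ _ _
  obtain ⟨r', hr'⟩ := (yon S).map_surjective (H.sqO.lift ((yon S).map r ≫ aO)
    ((yon S).map (v₁ ≫ π)) (by
      rw [Category.assoc, H.sqO.w, ← Category.assoc, ← Functor.map_comp, hr, Functor.map_comp,
        Category.assoc, e, ← Category.assoc, ← Functor.map_comp]))
  have hr'₁ : (yon S).map r' ≫ aO = (yon S).map r ≫ aO := by rw [hr', H.sqO.lift_fst]
  have hr'₂ : r' ≫ ι = v₁ ≫ π := (yon S).map_injective (by rw [Functor.map_comp, hr', H.sqO.lift_snd])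
  obtain ⟨y', hy'⟩ := (yon S).map_surjective (H.sqT.lift ((yon S).map y ≫ θ) ((yon S).map r') (by
    rw [Category.assoc, H.sqT.w, ← Category.assoc, ← Functor.map_comp, H.sqP.lift_snd, hr'₁]))
  have hy'θ : (yon S).map y' ≫ θ = (yon S).map y ≫ θ := by rw [hy', H.sqT.lift_fst]
  have hy'π : y' ≫ πO = r' := (yon S).map_injective (by rw [Functor.map_comp, hy', H.sqT.lift_snd])
  have hz₁π : (y' ≫ qO) ≫ π₀ = v₁ ≫ π := by
    rw [Category.assoc, H.sqP.w, reassoc_of% hy'π, hr'₂]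
  have rel₁ : Rel a π₀ qO θ (v₁ ≫ q) (y' ≫ qO) := by
    refine ⟨by rw [hz₁π, Category.assoc, Functor.map_comp, Category.assoc, e, ← Category.assoc,
      ← Functor.map_comp], fun W' w x x' hx hx' => ?_, fun W' w hw => ?_⟩
    · rw [(cancel_mono qO).1 (show x ≫ qO = (w ≫ y) ≫ qO by rw [hx, Category.assoc, hyq]),
        (cancel_mono qO).1 (show x' ≫ qO = (w ≫ y') ≫ qO by rw [hx', Category.assoc]),
        Functor.map_comp, Functor.map_comp, Category.assoc, Category.assoc, hy'θ]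
    · have : w ≫ y = w ≫ y' := eq_of_lifts H
        (by rw [Functor.map_comp, Functor.map_comp, Category.assoc, Category.assoc, hy'θ])
        (by simp only [Category.assoc] at hw ⊢; rw [reassoc_of% hyq]; exact hw)
      rw [← hyq, reassoc_of% this]
  have hv₂ : v₂ ≫ q ≫ π₀ = v₂ ≫ π := (h₂ _ v₂).1 fun x => x.2
  have hcov : ⨆ b : Bool, (if b then V₁ else V₂) = ⊤ := by
    refine top_le_iff.1 fun w _ => TopologicalSpace.Opens.mem_iSup.2 ?_
    rcases hc w with h | h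
    · exact ⟨true, h⟩
    · exact ⟨false, h⟩
  let 𝒰 := P.left.openCoverOfIsOpenCover _ hcov
  let f : ∀ b : Bool, (if b then V₁ else V₂).toScheme ⟶ P₀.left := fun b => match b with
    | true => (y' ≫ qO).left
    | false => (v₂ ≫ q).left
  have cmp : ∀ {W : Over S} (w₁ : W ⟶ Over.mk (V₁.ι ≫ P.hom)) (w₂ : W ⟶ Over.mk (V₂.ι ≫ P.hom)),
      w₁ ≫ v₁ = w₂ ≫ v₂ → w₁ ≫ y' ≫ qO = w₂ ≫ v₂ ≫ q := by
    intro W w₁ w₂ hw
    refine Rel.eq H (x := w₁ ≫ v₁ ≫ q) (rel₁.comp w₁) ?_ ?_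
    · rw [reassoc_of% hw]
      exact Rel.refl _
    · calc (w₁ ≫ y' ≫ qO) ≫ π₀ = w₁ ≫ (y' ≫ qO) ≫ π₀ := by simp only [Category.assoc]
        _ = (w₁ ≫ v₁) ≫ π := by rw [hz₁π, Category.assoc]
        _ = w₂ ≫ v₂ ≫ π := by rw [hw, Category.assoc]
        _ = _ := by rw [← hv₂]; simp only [Category.assoc]
  have hglue : ∀ b b' : Bool,
      pullback.fst (𝒰.f b) (𝒰.f b') ≫ f b = pullback.snd (𝒰.f b) (𝒰.f b') ≫ f b' := by
    intro b b'
    by_cases hbb : b = b'
    · subst hbb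
      rw [(cancel_mono (𝒰.f b)).1 (pullback.condition (f := 𝒰.f b) (g := 𝒰.f b))]
    · match b, b', hbb with
      | true, false, _ =>
        let W : Over S := Over.mk (pullback.fst (𝒰.f true) (𝒰.f false) ≫ V₁.ι ≫ P.hom)
        let w₁ : W ⟶ Over.mk (V₁.ι ≫ P.hom) := Over.homMk (pullback.fst _ _) rfl
        let w₂ : W ⟶ Over.mk (V₂.ι ≫ P.hom) := Over.homMk (pullback.snd (𝒰.f true) (𝒰.f false)) (by
          exact (pullback.condition_assoc P.hom).symm)
        exact congrArg CommaMorphism.left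
          (cmp w₁ w₂ (Over.OverMorphism.ext pullback.condition))
      | false, true, _ =>
        let W : Over S := Over.mk (pullback.fst (𝒰.f false) (𝒰.f true) ≫ V₂.ι ≫ P.hom)
        let w₂ : W ⟶ Over.mk (V₂.ι ≫ P.hom) := Over.homMk (pullback.fst _ _) rfl
        let w₁ : W ⟶ Over.mk (V₁.ι ≫ P.hom) := Over.homMk (pullback.snd (𝒰.f false) (𝒰.f true)) (by
          exact (pullback.condition_assoc P.hom).symm)
        exact (congrArg CommaMorphism.left
          (cmp w₁ w₂ (Over.OverMorphism.ext pullback.condition.symm))).symm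
  let φl := 𝒰.glueMorphisms f hglue
  have hφl : ∀ b, 𝒰.f b ≫ φl = f b := fun b => Scheme.Cover.ι_glueMorphisms _ _ _ b
  have hφπ : φl ≫ π₀.left = π.left := by
    refine 𝒰.hom_ext _ _ fun b => ?_
    rw [← Category.assoc, hφl]
    cases b
    · exact ((Category.assoc _ _ _).trans (congrArg CommaMorphism.left hv₂))
    · exact congrArg CommaMorphism.left hz₁π
  let φ : P ⟶ P₀ := Over.homMk φl (by rw [← Over.w π₀, ← Category.assoc, hφπ, Over.w])
  have hφ₁ : v₁ ≫ φ = y' ≫ qO := Over.OverMorphism.ext (hφl true)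
  have hφ₂ : v₂ ≫ φ = v₂ ≫ q := Over.OverMorphism.ext (hφl false)
  have hφπ' : φ ≫ π₀ = π := Over.OverMorphism.ext hφπ
  refine ⟨φ, hφπ', by rw [e, hφπ'], fun W' w x x' hx hx' => ?_, fun W' w hw => ?_⟩
  · have hmem : ∀ t, w.left t ∈ V₁ := (h₁ _ w).2 ⟨x ≫ πO, by
      rw [Category.assoc, ← H.sqP.w, reassoc_of% hx]⟩
    have hr₁ : Set.range w.left ⊆ Set.range V₁.ι := by
      rw [Scheme.Opens.range_ι]; rintro _ ⟨t, rfl⟩; exact hmem t
    let w₁ : W' ⟶ Over.mk (V₁.ι ≫ P.hom) := Over.homMk (IsOpenImmersion.lift V₁.ι w.left hr₁) (by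
      show _ ≫ V₁.ι ≫ P.hom = _
      rw [IsOpenImmersion.lift_fac_assoc, Over.w w])
    have hw₁ : w₁ ≫ v₁ = w := Over.OverMorphism.ext (IsOpenImmersion.lift_fac _ _ _)
    exact rel₁.2.1 W' w₁ x x' (by rw [hx, ← hw₁, Category.assoc])
      (by rw [hx', ← hw₁, Category.assoc, hφ₁])
  · have hmem : ∀ t, w.left t ∈ V₂ := (h₂ _ w).2 (by rw [hw, hφπ'])
    have hr₂ : Set.range w.left ⊆ Set.range V₂.ι := by
      rw [Scheme.Opens.range_ι]; rintro _ ⟨t, rfl⟩; exact hmem t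
    let w₂ : W' ⟶ Over.mk (V₂.ι ≫ P.hom) := Over.homMk (IsOpenImmersion.lift V₂.ι w.left hr₂) (by
      show _ ≫ V₂.ι ≫ P.hom = _
      rw [IsOpenImmersion.lift_fac_assoc, Over.w w])
    have hw₂ : w₂ ≫ v₂ = w := Over.OverMorphism.ext (IsOpenImmersion.lift_fac _ _ _)
    rw [← hw₂, Category.assoc, Category.assoc, hφ₂]

include H in
/-- The glued space. -/
theorem exists_glue {Q : MorphismProperty Scheme.{u}} [Q.IsStableUnderBaseChange]
    [Q.DescendsAlong (@Surjective ⊓ @Flat ⊓ @QuasiCompact)] (hQ : AffWith Q ((yon S).map π₀))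
    {X : Sp S} {f : X ⟶ Y} {XU : Over S} {qx : (yon S).obj XU ⟶ X} {πx : XU ⟶ U}
    (sqX : IsPullback qx ((yon S).map πx) f a) (iX : XU ⟶ P₀) (hiX : iX ≫ π₀ = πx)
    (hX : ∀ (W : Over S) (x x' : W ⟶ XU) (y y' : W ⟶ PO), y ≫ qO = x ≫ iX → y' ≫ qO = x' ≫ iX →
      (yon S).map x ≫ qx = (yon S).map x' ≫ qx → (yon S).map y ≫ θ = (yon S).map y' ≫ θ) :
    ∃ (T : Sp S) (νT : T ⟶ Y) (qT : (yon S).obj P₀ ⟶ T) (g : X ⟶ T), IsAlgSpace T ∧ AffWith Q νT ∧
      IsPullback qT ((yon S).map π₀) νT a ∧ g ≫ νT = f ∧ IsPullback qx ((yon S).map iX) g qT := by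
  have hq := mono_qO H
  obtain ⟨P, q, π, sqP₀⟩ := exists_pullback_of_diag H.hY.diag ((yon S).map π₀ ≫ a) a
  have e₀ : (yon S).map (q ≫ π₀) ≫ a = (yon S).map π ≫ a := by
    rw [Functor.map_comp, Category.assoc]; exact sqP₀.w
  obtain ⟨φ, hφπ, hφ⟩ := exists_act H q π e₀
  obtain ⟨R, t, s, sqR⟩ := exists_pullback_of_diag H.hY.diag a a
  obtain ⟨Nt, qt, νt, sqt⟩ : ∃ (Nt : Over S) (qt : Nt ⟶ P₀) (νt : Nt ⟶ R),
      IsPullback qt νt π₀ t := ⟨_, _, _, IsPullback.of_hasPullback _ _⟩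
  obtain ⟨Pt, qPt, πt, sqPt⟩ : ∃ (Pt : Over S) (qPt : Pt ⟶ P) (πt : Pt ⟶ R),
      IsPullback qPt πt π t := ⟨_, _, _, IsPullback.of_hasPullback _ _⟩
  obtain ⟨δ, hδ⟩ := (yon S).map_surjective (sqP₀.lift (𝟙 _) ((yon S).map π₀) (by rw [Category.id_comp]))
  have hδq : δ ≫ q = 𝟙 _ := (yon S).map_injective (by
    rw [Functor.map_comp, hδ, sqP₀.lift_fst, CategoryTheory.Functor.map_id])
  have hδπ : δ ≫ π = π₀ := (yon S).map_injective (by rw [Functor.map_comp, hδ, sqP₀.lift_snd])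
  have hδφ : δ ≫ φ = 𝟙 _ := by
    refine Rel.eq H (x := δ ≫ q) (hφ.comp δ) ?_ ?_
    · rw [hδq]; exact Rel.refl _
    · rw [Category.assoc, hφπ, hδπ, Category.id_comp]
  obtain ⟨T, νT, fX, qT, hT, hfac, hνT, sqT, hqT⟩ :=
    QcAffine.exists_quotient_of_model (Q := Q) (f := (yon S).map π₀ ≫ a) (qP := (yon S).map q)
      (π := (yon S).map π) (ν₀ := π₀) (f₀ := (yon S).map φ) H.hY H.ha H.has sqP₀
      (by rw [← Functor.map_comp, hφπ]) hQ sqR sqt (sqPt.map (yon S))
      (fun {V} c d _ {Q'} qQ πQ sqQ {M} qM νM sqM fM e₁ e₂ m₁ m₂ _ _ e => by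
        let sec := sqQ.lift ((yon S).map (qM ≫ δ)) ((yon S).map νM) (by
          rw [← Functor.map_comp, ← Functor.map_comp, Category.assoc, hδπ, sqM.w])
        have hsec : sec ≫ fM = 𝟙 _ := (sqM.map (yon S)).hom_ext
          (by rw [Category.assoc, e₂, ← Category.assoc, sqQ.lift_fst, ← Functor.map_comp,
            Category.assoc, hδφ, Category.comp_id, Category.id_comp])
          (by rw [Category.assoc, e₁, sqQ.lift_snd, Category.id_comp])
        have e' := sec ≫= e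
        rw [reassoc_of% hsec, reassoc_of% hsec] at e'
        exact (yon S).map_injective e')
      (fun ft v hft₁ hft₂ hv₁ hv₂ => by
        obtain ⟨ft, rfl⟩ := (yon S).map_surjective ft
        obtain ⟨v, rfl⟩ := (yon S).map_surjective v
        replace hft₁ : ft ≫ qt = qPt ≫ φ :=
          (yon S).map_injective (by simpa only [Functor.map_comp] using hft₁)
        replace hft₂ : ft ≫ νt = πt :=
          (yon S).map_injective (by simpa only [Functor.map_comp] using hft₂)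
        replace hv₁ : v ≫ q = qPt ≫ q :=
          (yon S).map_injective (by simpa only [Functor.map_comp] using hv₁)
        replace hv₂ : v ≫ π = πt ≫ s :=
          (yon S).map_injective (by simpa only [Functor.map_comp] using hv₂)
        let l : Nt ⟶ Pt := sqPt.lift (qt ≫ δ) νt (by rw [Category.assoc, hδπ, sqt.w])
        refine ⟨l ≫ v ≫ φ, by rw [Category.assoc, Category.assoc, hφπ, hv₂, sqPt.lift_snd_assoc],
          ?_⟩
        rw [← Functor.map_comp, ← Functor.map_comp]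
        congr 1
        refine Rel.eq H (x := qPt ≫ q) ?_ ?_ ?_
        · refine Rel.trans H (hφ.comp qPt) ?_
          have := (hφ.comp (ft ≫ l ≫ v))
          simp only [Category.assoc] at this ⊢
          rw [hv₁, ← Category.assoc l, sqPt.lift_fst, Category.assoc, hδq, Category.comp_id,
            hft₁] at this
          exact this
        · have := hφ.comp v
          rwa [hv₁] at this
        · simp only [Category.assoc]
          rw [hφπ, hv₂, sqPt.lift_snd_assoc, reassoc_of% hft₂])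
  have key : ∀ {W : Over S} (z z' : W ⟶ P₀), Rel a π₀ qO θ z z' →
      (yon S).map z ≫ qT = (yon S).map z' ≫ qT := by
    intro W z z' h
    obtain ⟨p, hp⟩ := (yon S).map_surjective (sqP₀.lift ((yon S).map z) ((yon S).map (z' ≫ π₀))
      (by rw [← Category.assoc, ← Functor.map_comp]; exact h.1))
    have hp₁ : p ≫ q = z := (yon S).map_injective (by rw [Functor.map_comp, hp, sqP₀.lift_fst])
    have hp₂ : p ≫ π = z' ≫ π₀ := (yon S).map_injective (by rw [Functor.map_comp, hp, sqP₀.lift_snd])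
    have hpφ : p ≫ φ = z' := Rel.eq H (by have := hφ.comp p; rwa [hp₁] at this) h
      (by rw [Category.assoc, hφπ, hp₂])
    have hfX : qT = fX := by
      have := (yon S).map δ ≫= hqT
      rw [← Category.assoc, ← Category.assoc, ← Functor.map_comp, ← Functor.map_comp, hδφ, hδq,
        CategoryTheory.Functor.map_id, Category.id_comp, Category.id_comp] at this
      exact this
    have := (yon S).map p ≫= hqT
    rw [← Category.assoc, ← Category.assoc, ← Functor.map_comp, ← Functor.map_comp, hp₁, hpφ,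
      ← hfX] at this
    exact this.symm
  have hqxe : RepWith @Etale qx := repWith_of_isPullback sqX.flip H.ha
  have hqxs : RepWith @Surjective qx := repWith_of_isPullback sqX.flip H.has
  have := isLocallySurjective_of_etale qx hqxe hqxs
  obtain ⟨RX, x₁, x₂, sqRX⟩ : ∃ (RX : Sp S) (x₁ x₂ : RX ⟶ (yon S).obj XU),
      IsPullback x₁ x₂ qx qx := ⟨_, _, _, IsPullback.of_hasPullback qx qx⟩
  obtain ⟨hc⟩ := isColimit_of_isLocallySurjective sqRX
  have hdesc : x₁ ≫ (yon S).map iX ≫ qT = x₂ ≫ (yon S).map iX ≫ qT :=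
    Groth.AlgSp2.hom_ext_yon fun W z => by
      obtain ⟨z₁, hz₁⟩ := (yon S).map_surjective (z ≫ x₁)
      obtain ⟨z₂, hz₂⟩ := (yon S).map_surjective (z ≫ x₂)
      rw [← Category.assoc, ← Category.assoc z, ← hz₁, ← hz₂, ← Category.assoc, ← Category.assoc,
        ← Functor.map_comp, ← Functor.map_comp]
      have ex : (yon S).map z₁ ≫ qx = (yon S).map z₂ ≫ qx := by
        rw [hz₁, hz₂, Category.assoc, Category.assoc, sqRX.w]
      refine key _ _ ⟨?_, fun W' w y y' hy hy' => hX W' (w ≫ z₁) (w ≫ z₂) y y'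
        (by rw [hy, Category.assoc]) (by rw [hy', Category.assoc])
        (by rw [Functor.map_comp, Functor.map_comp, Category.assoc, Category.assoc, ex]),
        fun W' w e => ?_⟩
      · simp only [Category.assoc, hiX]
        rw [Functor.map_comp, Functor.map_comp, Category.assoc, Category.assoc, ← sqX.w,
          reassoc_of% ex]
      · simp only [Category.assoc, hiX] at e
        have : w ≫ z₁ = w ≫ z₂ := (yon S).map_injective (sqX.hom_ext
          (by simp only [Functor.map_comp, Category.assoc, ex])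
          (by rw [← Functor.map_comp, ← Functor.map_comp, Category.assoc, Category.assoc, e]))
        rw [reassoc_of% this]
  obtain ⟨g, hg, -⟩ := Cofork.IsColimit.existsUnique hc _ hdesc
  have hg' : qx ≫ g = (yon S).map iX ≫ qT := hg
  have : Epi qx := inferInstance
  have hgν : g ≫ νT = f := by
    rw [← cancel_epi qx, reassoc_of% hg', sqT.w, ← Category.assoc, ← Functor.map_comp, hiX, ← sqX.w]
  exact ⟨T, νT, qT, g, hT, hνT, sqT, hgν,
    IsPullback.of_bot (by rw [← Functor.map_comp, hiX, hgν]; exact sqX) hg' sqT⟩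

end

end Groth.AlgSp2.Approx
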