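import Groth.Agent.AlgSp2.Approx.IntegralLimit

/-!
# Integral morphisms to qcqs spaces are limits of finite, finitely presented ones
-/

set_option autoImplicit false
set_option linter.unusedSectionVars false
set_option backward.isDefEq.respectTransparency.types false
universe u

open CategoryTheory CategoryTheory.Limits AlgebraicGeometry Opposite AlgSp

namespace Groth.AlgSp2.Approx

open Groth.AlgSpBasic Groth.AlgSp2 Groth.AlgSp2.QcAffine

noncomputable section

variable {S : Scheme.{u}} [QuasiSeparatedSpace ↥S] {X Y V : Sp S}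

/-- An integral space over a qcqs space is a limit of finite, finitely presented ones, all equal to it
over a quasi-compact open over which it is finite and finitely presented. -/
theorem exists_limit_integral (hX : IsAlgSpace X) (hY : IsAlgSpace Y) (hYqc : IsQuasiCompactSp Y)
    (hYqs : IsQuasiSeparatedSp Y) {f : X ⟶ Y} (hf : IsIntegralMor f) (hV : IsAlgSpace V) {j : V ⟶ Y}
    (hj : RepWith @IsOpenImmersion j) (hVqc : IsQuasiCompactSp V) {PV : Sp S} {pv₁ : PV ⟶ X}
    {pv₂ : PV ⟶ V} (hPV : IsPullback pv₁ pv₂ f j) (hfin : IsFiniteMor pv₂)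
    (hfp : LocP @LocallyOfFinitePresentation pv₂) :
    ∃ (I : Type u) (_ : Preorder I) (_ : IsDirected I (fun a b => a ≤ b)) (_ : Nonempty I)
      (D : Iᵒᵖ ⥤ Sp S) (t : D ⟶ (Functor.const Iᵒᵖ).obj Y) (c : Cone D) (_ : IsLimit c)
      (e : c.pt ≅ X),
      (∀ i, IsAlgSpace (D.obj i)) ∧ (∀ (i j : Iᵒᵖ) (φ : i ⟶ j), IsAffineMor (D.map φ)) ∧
      (∀ i, IsFiniteMor (t.app i) ∧ IsFinitePresentationMor (t.app i)) ∧
      (∀ i, e.inv ≫ c.π.app i ≫ t.app i = f) ∧
      (∀ (i : Iᵒᵖ) (Pi : Sp S) (q₁ : Pi ⟶ D.obj i) (q₂ : Pi ⟶ V), IsPullback q₁ q₂ (t.app i) j →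
        ∀ k : PV ⟶ Pi, k ≫ q₁ = pv₁ ≫ e.inv ≫ c.π.app i → k ≫ q₂ = pv₂ → IsIso k) := by
  obtain ⟨A⟩ := exists_atlas hY hYqc hYqs
  have hfI := (isIntegralMor_iff hX hY).1 hf
  have hfa : IsAffineMor f := affWith_isAffineHom_iff.1
    (affWith_mono (Q := @IsIntegralHom) (Q' := @IsAffineHom) isIntegralHom_le_isAffineHom
      (affWith_isIntegralHom_iff.2 hf))
  obtain ⟨M⟩ := exists_models hY hYqc hYqs hfa hfI A
  -- the part of the atlas over the open
  obtain ⟨VU, ιU, aV, sqV⟩ := hj.rep A.C.b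
  have hιU : IsOpenImmersion ιU.left := hj.property _ _ _ sqV
  obtain ⟨UV, c, hUV, hce, hcs⟩ := exists_affine_chart hV hVqc
  have hVUc : CompactSpace ↥VU.left := by
    obtain ⟨K, k₁, k₂, sqK⟩ := exists_pullback_of_diag hY.diag (c ≫ j) A.C.b
    have : QuasiCompact k₂.left :=
      repWith_fst_of_isPullback sqK (repWith_quasiCompact_of_qs hY hYqs (c ≫ j))
    have : CompactSpace ↥K.left := QuasiCompact.compactSpace_of_compactSpace k₂.left
    obtain ⟨l, hl⟩ := (yon S).map_surjective (sqV.lift ((yon S).map k₁ ≫ c) ((yon S).map k₂)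
      (by rw [Category.assoc]; exact sqK.w))
    have hl₂ : l ≫ ιU = k₂ := (yon S).map_injective (by
      rw [Functor.map_comp, hl, sqV.lift_snd])
    have sql : IsPullback ((yon S).map k₁) ((yon S).map l) c aV := by
      refine IsPullback.of_bot ?_ (by rw [hl, sqV.lift_fst]) sqV
      rw [← Functor.map_comp, hl₂]
      exact sqK
    have : Surjective l.left := repWith_fst_of_isPullback sql hcs
    exact l.left.surjective.compactSpace l.left.continuous
  obtain ⟨n, b, hb⟩ := exists_basicOpens ιU.left.opensRange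
    (by rw [Scheme.Hom.coe_opensRange]; exact isCompact_range ιU.left.continuous)
  obtain ⟨PU, xP, pU, sqPU⟩ : ∃ (PU : Over S) (xP : PU ⟶ tot hfa A.C) (pU : PU ⟶ VU),
      IsPullback xP pU (proj hfa A.C) ιU := ⟨_, _, _, IsPullback.of_hasPullback _ _⟩
  have bigX : IsPullback ((yon S).map xP ≫ toN hfa A.C) ((yon S).map pU) f (aV ≫ j) := by
    rw [sqV.w]
    exact (sqPU.map (yon S)).paste_horiz (isPullback_tot hfa A.C)
  let qP : (yon S).obj PU ⟶ PV := hPV.lift _ ((yon S).map pU ≫ aV)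
    (bigX.w.trans (Category.assoc _ _ _).symm)
  have sqX : IsPullback qP ((yon S).map pU) pv₂ aV :=
    IsPullback.of_right (by rw [hPV.lift_fst]; exact bigX) (hPV.lift_snd _ _ _) hPV
  have hPVa : IsAlgSpace PV := isAlgSpace_of_isPullback hPV hY.diag hX hV
  have hpvr : RepWith @IsFinite pv₂ := (isFiniteMor_iff hPVa hV).1 hfin
  have : LocallyOfFinitePresentation pU.left :=
    (repWith_of_locP hV hpvr.rep hfp).property _ _ _ sqX
  have hbfp : ∀ r, (((proj hfa A.C).left ⁻¹ᵁ A.C.Z.left.basicOpen (b r)).ι ≫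
      (proj hfa A.C).left).appTop.hom.FinitePresentation := by
    intro r
    let D := (proj hfa A.C).left ⁻¹ᵁ A.C.Z.left.basicOpen (b r)
    have : IsAffine D.toScheme :=
      ((isAffineOpen_top A.C.Z.left).basicOpen (b r)).preimage (proj hfa A.C).left
    have sqPU' := isPullback_left sqPU
    have : IsOpenImmersion xP.left :=
      MorphismProperty.of_isPullback (P := @IsOpenImmersion) sqPU'.flip ‹_›
    have hr : Set.range D.ι ⊆ Set.range xP.left := by
      rw [Scheme.Opens.range_ι]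
      intro x hx
      have hx' : (proj hfa A.C).left x ∈ ιU.left.opensRange := by
        rw [hb]
        exact TopologicalSpace.Opens.mem_iSup.2 ⟨r, hx⟩
      obtain ⟨v, hv⟩ := hx'
      obtain ⟨w, hw, -⟩ := Scheme.exists_preimage_of_isPullback sqPU' x v hv.symm
      exact ⟨w, hw⟩
    have : IsOpenImmersion (IsOpenImmersion.lift xP.left D.ι hr ≫ xP.left) := by
      rw [IsOpenImmersion.lift_fac]; infer_instance
    have : IsOpenImmersion (IsOpenImmersion.lift xP.left D.ι hr) :=
      IsOpenImmersion.of_comp _ xP.left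
    have : LocallyOfFinitePresentation (D.ι ≫ (proj hfa A.C).left) := by
      rw [← IsOpenImmersion.lift_fac xP.left D.ι hr, Category.assoc, sqPU'.w]
      infer_instance
    exact HasRingHomProperty.appTop (P := @LocallyOfFinitePresentation) _ this
  obtain ⟨E⟩ := M.exists_equations b hbfp
  refine ⟨E.Idx, inferInstance, ⟨fun i i' => ?_⟩, inferInstance, E.diag, E.diagBase, E.cone,
    E.isLimitCone, Iso.refl _, fun i => i.unop.isAlgSpace, fun i i' φ => E.isAffineMor_map φ.unop.le,
    fun i => ⟨(isFiniteMor_iff i.unop.isAlgSpace hY).2 (E.kind_stage i.unop).1,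
      (E.kind_stage i.unop).2⟩, fun i => ?_, fun i Pi q₁ q₂ hPi k hk₁ hk₂ => ?_⟩
  · obtain ⟨i'', h, h', -⟩ := Models.Equations.exists_ub i i' 0 0 (by rw [map_zero, map_zero])
    exact ⟨i'', h, h'⟩
  · show 𝟙 X ≫ E.toStage i.unop ≫ i.unop.ι ≫ M.base i.unop.F = f
    rw [Category.id_comp, reassoc_of% (E.toStage_ι i.unop), M.toP_base]
  · replace hk₁ : k ≫ q₁ = pv₁ ≫ E.toStage i.unop := by
      refine hk₁.trans ?_
      show pv₁ ≫ 𝟙 X ≫ E.toStage i.unop = _
      rw [Category.id_comp]
    exact E.isIso_over_open i.unop sqV hb hPV hpvr.rep hPi k hk₁ hk₂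

end

end Groth.AlgSp2.Approx
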