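import Groth.Agent.AlgSp2.Approx.ChartMap
import Groth.Agent.AlgSp2.Approx.SpreadAffine
import Groth.Agent.AlgSp2.Approx.EnvProp
import Groth.Agent.AlgSp2.AffineRows
import Groth.Agent.S0083

/-!
# Auxiliary facts for limits of finite, finitely presented spaces
-/

set_option autoImplicit false
set_option linter.unusedSectionVars false
set_option backward.isDefEq.respectTransparency.types false
universe u

open CategoryTheory CategoryTheory.Limits AlgebraicGeometry Opposite AlgSp TopologicalSpace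

namespace Groth.AlgSp2.Approx

open Groth.AlgSpBasic Groth.AlgSp2 Groth.AlgSp2.QcAffine

noncomputable section

/-- An affine morphism bijective after inverting a function is an isomorphism where it is invertible. -/
theorem isIso_morphismRestrict_basicOpen {M' M : Scheme.{u}} [IsAffine M'] [IsAffine M] (l : M' ⟶ M)
    (c : Γ(M, ⊤)) (hs : ∀ x, ∃ (n : ℕ) (y : Γ(M, ⊤)), l.appTop y = l.appTop c ^ n * x)
    (hi : ∀ y, l.appTop y = 0 → ∃ n : ℕ, c ^ n * y = 0) :
    IsIso (l ∣_ M.basicOpen c) := by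
  let D := M.basicOpen c
  have hD : IsAffineOpen D := (isAffineOpen_top M).basicOpen c
  have : IsAffine D.toScheme := hD
  have hpre : l ⁻¹ᵁ D = M'.basicOpen (l.appTop c) := Scheme.preimage_basicOpen_top l c
  refine (HasAffineProperty.iff_of_isAffine (P := MorphismProperty.isomorphisms Scheme)).mpr
    ⟨hD.preimage l, ?_⟩
  have hbij : Function.Bijective (l.app D) := by
    let _ : Algebra Γ(M, ⊤) Γ(M, D) := (M.presheaf.map (homOfLE (le_top : D ≤ ⊤)).op).hom.toAlgebra
    let _ : Algebra Γ(M', ⊤) Γ(M', l ⁻¹ᵁ D) :=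
      (M'.presheaf.map (homOfLE (le_top : l ⁻¹ᵁ D ≤ ⊤)).op).hom.toAlgebra
    have : IsLocalization.Away c Γ(M, D) := (isAffineOpen_top M).isLocalization_basicOpen c
    have : IsLocalization.Away (l.appTop c) Γ(M', l ⁻¹ᵁ D) :=
      (isAffineOpen_top M').isLocalization_of_eq_basicOpen (l.appTop c) (homOfLE le_top) hpre
    have nat : ∀ y, l.app D (algebraMap Γ(M, ⊤) Γ(M, D) y) =
        algebraMap Γ(M', ⊤) Γ(M', l ⁻¹ᵁ D) (l.appTop y) := fun y =>
      ConcreteCategory.congr_hom (l.naturality (homOfLE (le_top : D ≤ ⊤)).op) y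
    constructor
    · rw [injective_iff_map_eq_zero]
      intro z hz
      obtain ⟨n, y, hy⟩ := IsLocalization.Away.surj c z
      have h0 : algebraMap Γ(M', ⊤) Γ(M', l ⁻¹ᵁ D) (l.appTop y) = 0 := by
        rw [← nat, ← hy, map_mul, hz, zero_mul]
      obtain ⟨⟨_, m, rfl⟩, hm⟩ :=
        (IsLocalization.map_eq_zero_iff (Submonoid.powers (l.appTop c)) _ _).1 h0
      obtain ⟨k, hk⟩ := hi (c ^ m * y) (by rw [map_mul, map_pow]; exact hm)
      have h1 : algebraMap Γ(M, ⊤) Γ(M, D) y = 0 :=
        (IsLocalization.map_eq_zero_iff (Submonoid.powers c) _ _).2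
          ⟨⟨_, k + m, rfl⟩, by show c ^ (k + m) * y = 0; rw [pow_add, mul_assoc, hk]⟩
      rw [h1] at hy
      exact ((IsLocalization.Away.algebraMap_isUnit c).pow n).mul_left_eq_zero.1 hy
    · intro z
      obtain ⟨n, x, hx⟩ := IsLocalization.Away.surj (l.appTop c) z
      obtain ⟨m, y, hy⟩ := hs x
      refine ⟨algebraMap Γ(M, ⊤) Γ(M, D) y * IsLocalization.Away.invSelf c ^ (m + n), ?_⟩
      have h1 : algebraMap Γ(M', ⊤) Γ(M', l ⁻¹ᵁ D) (l.appTop c) *
          l.app D (IsLocalization.Away.invSelf c) = 1 := by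
        rw [← nat, ← map_mul, IsLocalization.Away.mul_invSelf, map_one]
      rw [map_mul, map_pow, nat, hy, map_mul, map_pow, ← hx]
      calc algebraMap Γ(M', ⊤) Γ(M', l ⁻¹ᵁ D) (l.appTop c) ^ m *
            (z * algebraMap Γ(M', ⊤) Γ(M', l ⁻¹ᵁ D) (l.appTop c) ^ n) *
            l.app D (IsLocalization.Away.invSelf c) ^ (m + n) =
          z * (algebraMap Γ(M', ⊤) Γ(M', l ⁻¹ᵁ D) (l.appTop c) *
            l.app D (IsLocalization.Away.invSelf c)) ^ (m + n) := by ring
        _ = z := by rw [h1, one_pow, mul_one]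
  have h2 : IsIso (l.app D) := (ConcreteCategory.isIso_iff_bijective _).mpr hbij
  exact ((MorphismProperty.isomorphisms CommRingCat).arrow_mk_iso_iff
    (arrowResLEAppIso l _ _ le_rfl)).mpr (by rwa [← Scheme.Hom.app_eq_appLE]) |> fun h => by
      rw [← Scheme.Hom.resLE_eq_morphismRestrict]; exact h

variable {S : Scheme.{u}}

/-- A map of function rings gives a morphism to an affine scheme. -/
theorem exists_hom_over' {Z T V : Over S} [IsAffine T.left] [IsAffine V.left]
    (p : T ⟶ V) (q : Z ⟶ V) (φ : Γ(T.left, ⊤) →+* Γ(Z.left, ⊤))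
    (hφ : ∀ a, φ (p.left.appTop a) = q.left.appTop a) :
    ∃ f : Z ⟶ T, f ≫ p = q ∧ ∀ x, f.left.appTop x = φ x := by
  let l : Z.left ⟶ T.left := Z.left.toSpecΓ ≫ Spec.map (CommRingCat.ofHom φ) ≫ T.left.isoSpec.inv
  have hl : l.appTop = CommRingCat.ofHom φ := by
    have h₁ : (Scheme.ΓSpecIso Γ(T.left, ⊤)).hom = T.left.isoSpec.hom.appTop := by
      rw [Scheme.isoSpec_hom, Scheme.toSpecΓ_appTop]
    have h₂ : T.left.isoSpec.inv.appTop ≫ (Scheme.ΓSpecIso Γ(T.left, ⊤)).hom = 𝟙 _ := by
      rw [h₁, ← Scheme.Hom.comp_appTop, Iso.hom_inv_id, Scheme.Hom.id_appTop]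
    show (Z.left.toSpecΓ ≫ Spec.map (CommRingCat.ofHom φ) ≫ T.left.isoSpec.inv).appTop = _
    rw [Scheme.Hom.comp_appTop, Scheme.Hom.comp_appTop, Scheme.toSpecΓ_appTop, Category.assoc,
      Scheme.ΓSpecIso_naturality]
    exact (reassoc_of% h₂) (CommRingCat.ofHom φ)
  have e : l ≫ p.left = q.left := ext_of_isAffine (by
    rw [Scheme.Hom.comp_appTop, hl]
    exact ConcreteCategory.hom_ext _ _ hφ)
  exact ⟨Over.homMk l (by rw [← Over.w p, ← Category.assoc, e, Over.w q]),
    Over.OverMorphism.ext e, fun x => ConcreteCategory.congr_hom hl x⟩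

variable {Y X P : Sp S} {f : X ⟶ Y} {π : P ⟶ Y} (hf : IsAffineMor f) (hπ : IsAffineMor π)

/-- A morphism over the base, on functions over a chart. -/
def chartAlg (m : X ⟶ P) (hm : m ≫ π = f) (C : Chart Y) :
    sections hπ C →ₐ[fns C] sections hf C where
  toRingHom := (chartMap hf hπ m hm C).left.appTop.hom
  commutes' a := by
    show (chartMap hf hπ m hm C).left.appTop ((proj hπ C).left.appTop a) = (proj hf C).left.appTop a
    rw [← appTop_comp_apply, chartMap_proj]

theorem chartAlg_apply (m : X ⟶ P) (hm : m ≫ π = f) (C : Chart Y) (z : sections hπ C) :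
    chartAlg hf hπ m hm C z = (chartMap hf hπ m hm C).left.appTop z := rfl

/-- The inverse image of a chart under a closed morphism over the base. -/
theorem isClosedImmersion_chartMap (m : X ⟶ P) (hm : m ≫ π = f)
    (h : RepWith @IsClosedImmersion m) (C : Chart Y) :
    IsClosedImmersion (chartMap hf hπ m hm C).left := by
  refine h.property _ _ _ (show IsPullback (toN hf C) ((yon S).map (chartMap hf hπ m hm C)) m
    (toN hπ C) from IsPullback.of_bot ?_ (chartMap_toN hf hπ m hm C).symm (isPullback_tot hπ C))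
  rw [← Functor.map_comp, chartMap_proj, hm]
  exact isPullback_tot hf C

theorem finiteType_sections {π : P ⟶ Y} (hπ : IsAffineMor π) (h : RepWith AffFT π)
    (C : Chart Y) : Algebra.FiniteType (fns C) (sections hπ C) := by
  exact RingHom.finiteType_algebraMap.1
    (HasRingHomProperty.appTop (P := @LocallyOfFiniteType) (proj hπ C).left
      (h.property _ _ _ (isPullback_tot hπ C)).2)

/-- A morphism between spaces representable over a base is representable. -/
theorem representable_cancel {A B V : Sp S} {k : A ⟶ B} {p : A ⟶ V} {q : B ⟶ V}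
    (hk : k ≫ q = p) (hp : Representable p) (hq : Representable q) : Representable k := by
  intro Q g
  obtain ⟨AQ, a, a', sqA⟩ := hp (g ≫ q)
  obtain ⟨BQ, b, b', sqB⟩ := hq (g ≫ q)
  obtain ⟨σ, hσ⟩ := (yon S).map_surjective (sqB.lift g (𝟙 _) (by rw [Category.id_comp]))
  obtain ⟨kQ, hkQ⟩ := (yon S).map_surjective (sqB.lift (a' ≫ k) ((yon S).map a) (by
    rw [Category.assoc, hk, sqA.w]))
  have hkQ₁ : (yon S).map kQ ≫ b' = a' ≫ k := by rw [hkQ, sqB.lift_fst]
  have hkQ₂ : (yon S).map kQ ≫ (yon S).map b = (yon S).map a := by rw [hkQ, sqB.lift_snd]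
  have sqk : IsPullback a' ((yon S).map kQ) k b' :=
    IsPullback.of_bot (by rw [hkQ₂, hk]; exact sqA) hkQ₁.symm sqB
  obtain ⟨W, w₁, w₂, sqW⟩ : ∃ (W : Over S) (w₁ : W ⟶ AQ) (w₂ : W ⟶ Q),
      IsPullback w₁ w₂ kQ σ := ⟨_, _, _, IsPullback.of_hasPullback _ _⟩
  refine ⟨W, w₂, (yon S).map w₁ ≫ a', ?_⟩
  have := (sqW.map (yon S)).paste_horiz sqk
  rwa [hσ, sqB.lift_fst] at this

/-- Being an isomorphism is checked after an etale cover. -/
theorem isIso_of_cover {A B : Sp S} {k : A ⟶ B} (hk : Representable k) {W : Sp S} {q : W ⟶ B}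
    [Sheaf.IsLocallySurjective q] {W' : Sp S} {q' : W' ⟶ A} {k' : W' ⟶ W}
    (sq : IsPullback q' k' k q) (h : RepWith (MorphismProperty.isomorphisms Scheme.{u}) k') :
    IsIso k :=
  isIso_of_repWith (repWith_of_isLocallySurjective k hk q q' k' sq h)

/-- A morphism to a space with affine inverse image of an affine etale cover is affine. -/
theorem isAffineMor_of_cover {A B : Sp S} (hB : IsAlgSpace B) {k : A ⟶ B} {U U' : Over S}
    [IsAffine U.left] [IsAffine U'.left] {q : (yon S).obj U ⟶ B} (hq : RepWith @Etale q)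
    (hqs : RepWith @Surjective q) {q' : (yon S).obj U' ⟶ A} {k' : U' ⟶ U}
    (sq : IsPullback q' ((yon S).map k') k q) : IsAffineMor k :=
  affWith_isAffineHom_iff.1 (affWith_of_cover (Q := @IsAffineHom) hB hq hqs sq
    (affWith_of_repWith le_rfl ((repWith_yon_map_iff _ k').2 inferInstance)))

end

end Groth.AlgSp2.Approx
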