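import Groth.Agent.AlgSp2.Approx.IntegralStages
import Groth.Agent.AlgSp2.InfGlue

/-!
# An integral space is the limit of its stages
-/

set_option autoImplicit false
set_option linter.unusedSectionVars false
set_option backward.isDefEq.respectTransparency.types false
universe u

open CategoryTheory CategoryTheory.Limits AlgebraicGeometry Opposite AlgSp

namespace Groth.AlgSp2.Approx

open Groth.AlgSpBasic Groth.AlgSp2 Groth.AlgSp2.QcAffine

noncomputable section

variable {S : Scheme.{u}} {X Y : Sp S} {f : X ⟶ Y} {hf : IsAffineMor f} {A : Atlas Y}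
  {Q : MorphismProperty Scheme.{u}} [EnvKind Q] {M : Models Q f hf A} {n : ℕ} {b : Fin n → fns A.C} (E : M.Equations b)

namespace Models.Equations

/-- The composite of a point of a cone with a stage. -/
def comp (s : Cone E.diag) {T : Over S} (z : (yon S).obj T ⟶ s.pt) (i : E.Idx) :
    (yon S).obj T ⟶ M.P i.F :=
  z ≫ s.π.app (op i) ≫ i.ι

theorem comp_res (s : Cone E.diag) {T : Over S} (z : (yon S).obj T ⟶ s.pt) {i i' : E.Idx}
    (h : i ≤ i') : E.comp s z i' ≫ M.res h.1 = E.comp s z i := by
  show (z ≫ s.π.app (op i') ≫ i'.ι) ≫ M.res h.1 = z ≫ s.π.app (op i) ≫ i.ι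
  rw [← s.w (homOfLE h).op]
  simp only [Category.assoc]
  exact congrArg (z ≫ s.π.app (op i') ≫ ·) (E.map_ι h).symm

theorem comp_base (s : Cone E.diag) {T : Over S} (z : (yon S).obj T ⟶ s.pt) (i i' : E.Idx) :
    E.comp s z i ≫ M.base i.F = E.comp s z i' ≫ M.base i'.F := by
  obtain ⟨j, h, h', -⟩ := exists_ub i i' 0 0 (by rw [map_zero, map_zero])
  rw [← E.comp_res s z h, ← E.comp_res s z h', Category.assoc (E.comp s z j),
    Category.assoc (E.comp s z j), prodRes_base, prodRes_base]

/-- Points are determined by their images in the stages. -/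
theorem lift_unique {T : Over S} {l l' : (yon S).obj T ⟶ X}
    (e : ∀ i : E.Idx, l ≫ M.toP i.F = l' ≫ M.toP i.F) : l = l' := by
  classical
  obtain ⟨i₀⟩ := (inferInstance : Nonempty E.Idx)
  have hb : l ≫ f = l' ≫ f := by
    rw [← M.toP_base i₀.F, reassoc_of% (e i₀)]
  obtain ⟨W, w₁, w₂, sqW⟩ := exists_pullback_of_diag M.hY.diag (l ≫ f) A.C.b
  have hwe : RepWith @Etale ((yon S).map w₁) := repWith_of_isPullback sqW.flip A.etale
  have hws : RepWith @Surjective ((yon S).map w₁) := repWith_of_isPullback sqW.flip A.surj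
  obtain ⟨a, ha⟩ := (yon S).map_surjective ((isPullback_tot hf A.C).lift ((yon S).map w₁ ≫ l)
    ((yon S).map w₂) (by rw [Category.assoc, sqW.w]))
  obtain ⟨a', ha'⟩ := (yon S).map_surjective ((isPullback_tot hf A.C).lift ((yon S).map w₁ ≫ l')
    ((yon S).map w₂) (by rw [Category.assoc, ← hb, sqW.w]))
  have ea : a = a' := hom_ext_appTop fun x => by
    obtain ⟨i, hi⟩ := exists_superset (E := E) {x}
    obtain ⟨y, rfl⟩ := M.mem_range_φ i.F (hi (Finset.mem_singleton_self x))
    show a.left.appTop ((chartMap hf (M.affine_base i.F) _ _ A.C).left.appTop y) =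
      a'.left.appTop ((chartMap hf (M.affine_base i.F) _ _ A.C).left.appTop y)
    rw [← appTop_comp_apply, ← appTop_comp_apply]
    refine congrArg (fun k : W ⟶ tot (M.affine_base i.F) A.C => k.left.appTop y)
      ((yon S).map_injective ((isPullback_tot (M.affine_base i.F) A.C).hom_ext ?_ ?_))
    · rw [Functor.map_comp, Functor.map_comp, Category.assoc, Category.assoc, chartMap_toN,
        ← Category.assoc, ← Category.assoc, ha, ha', IsPullback.lift_fst, IsPullback.lift_fst,
        Category.assoc, Category.assoc, e i]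
    · rw [← Functor.map_comp, ← Functor.map_comp, Category.assoc, Category.assoc, chartMap_proj,
        Functor.map_comp, Functor.map_comp, ha, ha', IsPullback.lift_snd, IsPullback.lift_snd]
  have := isLocallySurjective_of_etale ((yon S).map w₁) hwe hws
  refine (cancel_epi ((yon S).map w₁)).1 ?_
  have := congrArg (fun k => (yon S).map k ≫ toN hf A.C) ea
  simpa only [ha, ha', IsPullback.lift_fst] using this

/-- Compatible points of the stages come from a point of the given space. -/
theorem exists_lift (s : Cone E.diag) {T : Over S} (z : (yon S).obj T ⟶ s.pt) :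
    ∃ l : (yon S).obj T ⟶ X, ∀ i, l ≫ M.toP i.F = E.comp s z i := by
  classical
  obtain ⟨i₀⟩ := (inferInstance : Nonempty E.Idx)
  obtain ⟨W, w₁, w₂, sqW⟩ := exists_pullback_of_diag M.hY.diag (E.comp s z i₀ ≫ M.base i₀.F) A.C.b
  have hwe : RepWith @Etale ((yon S).map w₁) := repWith_of_isPullback sqW.flip A.etale
  have hws : RepWith @Surjective ((yon S).map w₁) := repWith_of_isPullback sqW.flip A.surj
  have hw : ∀ i : E.Idx, ∃ w : W ⟶ tot (M.affine_base i.F) A.C,
      (yon S).map w ≫ toN (M.affine_base i.F) A.C = (yon S).map w₁ ≫ E.comp s z i ∧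
        w ≫ proj (M.affine_base i.F) A.C = w₂ := fun i => by
    obtain ⟨w, hw⟩ := (yon S).map_surjective ((isPullback_tot (M.affine_base i.F) A.C).lift
      ((yon S).map w₁ ≫ E.comp s z i) ((yon S).map w₂)
      (by rw [Category.assoc, E.comp_base s z i i₀, sqW.w]))
    exact ⟨w, by rw [hw, IsPullback.lift_fst],
      (yon S).map_injective (by rw [Functor.map_comp, hw, IsPullback.lift_snd])⟩
  choose w hwN hwp using hw
  have compat : ∀ {i i' : E.Idx} (h : i ≤ i'),
      w i' ≫ chartMap (M.affine_base i'.F) (M.affine_base i.F) (M.res h.1)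
        (prodRes_base M.T M.ν h.1) A.C = w i := by
    intro i i' h
    apply (yon S).map_injective
    apply (isPullback_tot (M.affine_base i.F) A.C).hom_ext
    · rw [Functor.map_comp, Category.assoc, chartMap_toN, reassoc_of% (hwN i'), hwN i,
        ← E.comp_res s z h]
    · rw [← Functor.map_comp, ← Functor.map_comp, Category.assoc, chartMap_proj, hwp, hwp]
  have kills : ∀ (i : E.Idx) (y : M.R i.F), y ∈ i.G → (w i).left.appTop y = 0 := by
    intro i y hy
    obtain ⟨l, hl⟩ := (yon S).map_surjective ((isPullback_closedIncl (M.affine_base i.F) i.hι A.C).lift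
      ((yon S).map w₁ ≫ z ≫ s.π.app (op i)) ((yon S).map (w i))
      (by rw [hwN]; simp only [Category.assoc]; rfl))
    have hl₂ : l ≫ closedIncl (M.affine_base i.F) i.hι A.C = w i := (yon S).map_injective (by
      rw [Functor.map_comp, hl, IsPullback.lift_snd])
    rw [← hl₂, appTop_comp_apply, i.incl_appTop hy, map_zero]
  have well : ∀ (i i' : E.Idx) (y : M.R i.F) (y' : M.R i'.F), M.φ i.F y = M.φ i'.F y' →
      (w i).left.appTop y = (w i').left.appTop y' := by
    intro i i' y y' e
    obtain ⟨j, h, h', hG⟩ := exists_ub i i' y y' e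
    rw [← compat h, ← compat h', appTop_comp_apply, appTop_comp_apply, ← sub_eq_zero, ← map_sub]
    exact kills j _ (hG h.1 h'.1)
  choose st hst using fun x : sections hf A.C => exists_superset (E := E) {x}
  choose pre hpre using fun x : sections hf A.C =>
    M.mem_range_φ (st x).F (hst x (Finset.mem_singleton_self x))
  let v : sections hf A.C → Γ(W.left, ⊤) := fun x => (w (st x)).left.appTop (pre x)
  have hv : ∀ (i : E.Idx) (y : M.R i.F), v (M.φ i.F y) = (w i).left.appTop y := fun i y =>
    well _ _ _ _ (hpre _)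
  have two : ∀ x x' : sections hf A.C, ∃ (i : E.Idx) (y y' : M.R i.F),
      M.φ i.F y = x ∧ M.φ i.F y' = x' := fun x x' => by
    obtain ⟨i, hi⟩ := exists_superset (E := E) {x, x'}
    obtain ⟨y, hy⟩ := M.mem_range_φ i.F (hi (Finset.mem_insert_self x {x'}))
    obtain ⟨y', hy'⟩ := M.mem_range_φ i.F (hi (Finset.mem_insert_of_mem (Finset.mem_singleton_self x')))
    exact ⟨i, y, y', hy, hy'⟩
  let vhom : sections hf A.C →+* Γ(W.left, ⊤) :=
    { toFun := v
      map_one' := by rw [← map_one (M.φ i₀.F), hv, map_one]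
      map_zero' := by rw [← map_zero (M.φ i₀.F), hv, map_zero]
      map_mul' := fun x x' => by
        obtain ⟨i, y, y', rfl, rfl⟩ := two x x'
        rw [← map_mul, hv, hv, hv, map_mul]
      map_add' := fun x x' => by
        obtain ⟨i, y, y', rfl, rfl⟩ := two x x'
        rw [← map_add, hv, hv, hv, map_add] }
  obtain ⟨a, ha, hav⟩ := exists_hom_over' (proj hf A.C) w₂ vhom fun c => by
    show v (algebraMap (fns A.C) (sections hf A.C) c) = _
    rw [← (M.φ i₀.F).commutes, hv, algebraMap_sections, ← appTop_comp_apply, hwp]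
  let lX : (yon S).obj W ⟶ X := (yon S).map a ≫ toN hf A.C
  have hlX : ∀ i : E.Idx, lX ≫ M.toP i.F = (yon S).map w₁ ≫ E.comp s z i := by
    intro i
    have e : a ≫ chartMap hf (M.affine_base i.F) (M.toP i.F) (M.toP_base i.F) A.C = w i :=
      hom_ext_appTop fun y => by
        rw [appTop_comp_apply, hav]
        exact hv i y
    rw [← hwN i, ← e, Functor.map_comp]
    simp only [lX, Category.assoc, chartMap_toN]
  have := isLocallySurjective_of_etale ((yon S).map w₁) hwe hws
  obtain ⟨R, r₁, r₂, sqR⟩ : ∃ (R : Sp S) (r₁ r₂ : R ⟶ (yon S).obj W),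
      IsPullback r₁ r₂ ((yon S).map w₁) ((yon S).map w₁) :=
    ⟨_, _, _, IsPullback.of_hasPullback _ _⟩
  obtain ⟨hc⟩ := isColimit_of_isLocallySurjective sqR
  obtain ⟨l, hl, -⟩ := Cofork.IsColimit.existsUnique hc lX (Groth.AlgSp2.hom_ext_yon fun P p => by
    refine E.lift_unique fun i => ?_
    show (p ≫ r₁ ≫ lX) ≫ M.toP i.F = (p ≫ r₂ ≫ lX) ≫ M.toP i.F
    rw [Category.assoc, Category.assoc r₁, hlX, Category.assoc p (r₂ ≫ lX), Category.assoc r₂, hlX,
      reassoc_of% sqR.w])
  have hl' : (yon S).map w₁ ≫ l = lX := hl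
  exact ⟨l, fun i => (cancel_epi ((yon S).map w₁)).1 (by rw [reassoc_of% hl', hlX])⟩

/-- The given space is the limit of its stages. -/
def isLimitCone : IsLimit E.cone :=
  have key : ∀ s : Cone E.diag, ∃ l : s.pt ⟶ X, ∀ i : E.Idx, l ≫ M.toP i.F = s.π.app (op i) ≫ i.ι := by
    intro s
    choose y hy using fun (T : Over S) (z : (yon S).obj T ⟶ s.pt) => E.exists_lift s z
    obtain ⟨l, hl⟩ := exists_hom_of_natural y fun T T' g x => E.lift_unique fun i => by
      rw [hy, Category.assoc, hy]
      simp only [comp, Category.assoc]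
    exact ⟨l, fun i => Groth.AlgSp2.hom_ext_yon fun T z => by
      rw [← Category.assoc, hl, hy]; rfl⟩
  { lift := fun s => (key s).choose
    fac := fun s i => by
      show (key s).choose ≫ E.toStage i.unop = _
      rw [← cancel_mono i.unop.ι, Category.assoc, E.toStage_ι, (key s).choose_spec i.unop]
      rfl
    uniq := fun s m hm => Groth.AlgSp2.hom_ext_yon fun T z => E.lift_unique fun i => by
      have hm' : ∀ m' : s.pt ⟶ X, m' ≫ E.toStage i = s.π.app (op i) →
          (z ≫ m') ≫ M.toP i.F = (z ≫ (key s).choose) ≫ M.toP i.F := fun m' e => by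
        rw [Category.assoc, Category.assoc, (key s).choose_spec i, ← E.toStage_ι i, reassoc_of% e]
        rfl
      exact hm' m (hm (op i)) }

/-- The transition maps are affine. -/
theorem isAffineMor_map {i i' : E.Idx} (h : i ≤ i') : IsAffineMor (E.map h) := by
  let q := closedToX (M.affine_base i.F) i.hι A.C
  let q' := closedToX (M.affine_base i'.F) i'.hι A.C
  let p := closedIncl (M.affine_base i.F) i.hι A.C ≫ proj (M.affine_base i.F) A.C
  let p' := closedIncl (M.affine_base i'.F) i'.hι A.C ≫ proj (M.affine_base i'.F) A.C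
  have sq := isPullback_closedTot (M.affine_base i.F) i.hι A.C
  have sq' := isPullback_closedTot (M.affine_base i'.F) i'.hι A.C
  have eb : E.map h ≫ i.ι ≫ M.base i.F = i'.ι ≫ M.base i'.F := by
    rw [reassoc_of% (E.map_ι h), prodRes_base]
  obtain ⟨k, hk⟩ := (yon S).map_surjective (sq.lift (q' ≫ E.map h) ((yon S).map p')
    (by rw [Category.assoc, eb]; exact sq'.w))
  have : IsAffine (closedTot (M.affine_base i.F) i.hι A.C).left :=
    isAffine_of_isAffineHom (closedIncl (M.affine_base i.F) i.hι A.C).left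
  have : IsAffine (closedTot (M.affine_base i'.F) i'.hι A.C).left :=
    isAffine_of_isAffineHom (closedIncl (M.affine_base i'.F) i'.hι A.C).left
  have hq : RepWith @Etale q := repWith_of_isPullback sq.flip A.etale
  have hqs : RepWith @Surjective q := repWith_of_isPullback sq.flip A.surj
  refine isAffineMor_of_cover i.isAlgSpace hq hqs (q' := q') (k' := k) ?_
  refine IsPullback.of_bot ?_ (by rw [hk, IsPullback.lift_fst]) sq
  rw [hk, IsPullback.lift_snd, eb]
  exact sq'

theorem kind_stage (i : E.Idx) :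
    RepWith Q (i.ι ≫ M.base i.F) ∧ IsFinitePresentationMor (i.ι ≫ M.base i.F) :=
  closed_comp_kind i.isAlgSpace (M.isAlgSpace_P i.F) M.hY (M.affWith_base i.F) (M.fp_base i.F)
    i.hι i.lfp

/-- The stages agree with the given space over an open on which the functions generate. -/
theorem isIso_over_open (i : E.Idx) {V : Sp S} {j : V ⟶ Y} {VU : Over S} {ιU : VU ⟶ A.C.Z}
    {aV : (yon S).obj VU ⟶ V} (sqV : IsPullback aV ((yon S).map ιU) j A.C.b)
    [IsOpenImmersion ιU.left] (hW : ιU.left.opensRange = ⨆ r, A.C.Z.left.basicOpen (b r))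
    {PV Pi : Sp S} {pv₁ : PV ⟶ X} {pv₂ : PV ⟶ V} (hPV : IsPullback pv₁ pv₂ f j)
    (hpv : Representable pv₂) {q₁ : Pi ⟶ i.Z} {q₂ : Pi ⟶ V}
    (hPi : IsPullback q₁ q₂ (i.ι ≫ M.base i.F) j) (k : PV ⟶ Pi)
    (hk₁ : k ≫ q₁ = pv₁ ≫ E.toStage i) (hk₂ : k ≫ q₂ = pv₂) : IsIso k := by
  let N := tot hf A.C
  let ZU := closedTot (M.affine_base i.F) i.hι A.C
  let inc := closedIncl (M.affine_base i.F) i.hι A.C
  let pZ : ZU ⟶ A.C.Z := inc ≫ proj (M.affine_base i.F) A.C
  have : IsAffine ZU.left := isAffine_of_isAffineHom inc.left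
  obtain ⟨l, hl⟩ := (yon S).map_surjective ((isPullback_closedIncl (M.affine_base i.F) i.hι A.C).lift
    (toN hf A.C ≫ E.toStage i)
    ((yon S).map (chartMap hf (M.affine_base i.F) (M.toP i.F) (M.toP_base i.F) A.C))
    (by rw [Category.assoc, E.toStage_ι, chartMap_toN]))
  have hl₁ : (yon S).map l ≫ closedToX (M.affine_base i.F) i.hι A.C = toN hf A.C ≫ E.toStage i := by
    rw [hl, IsPullback.lift_fst]
  have hl₂ : l ≫ inc = chartMap hf (M.affine_base i.F) (M.toP i.F) (M.toP_base i.F) A.C :=
    (yon S).map_injective (by rw [Functor.map_comp, hl, IsPullback.lift_snd])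
  have hlp : l ≫ pZ = proj hf A.C := by rw [reassoc_of% hl₂, chartMap_proj]
  have hincs : Function.Surjective inc.left.appTop :=
    ((HasAffineProperty.iff_of_isAffine (P := @IsClosedImmersion) (f := inc.left)).1
      (inferInstanceAs (IsClosedImmersion (closedIncl (M.affine_base i.F) i.hι A.C).left))).2
  have hloc : ∀ r, IsIso (l.left ∣_ ZU.left.basicOpen (pZ.left.appTop (b r))) := by
    intro r
    refine isIso_morphismRestrict_basicOpen l.left _ (fun x => ?_) fun z hz => ?_
    · obtain ⟨m, y, hy⟩ := E.surj i.F i.subset r x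
      refine ⟨m, inc.left.appTop y, ?_⟩
      rw [← appTop_comp_apply l inc, hl₂, ← appTop_comp_apply l pZ, hlp]
      exact hy
    · obtain ⟨y, rfl⟩ := hincs z
      rw [← appTop_comp_apply l inc, hl₂] at hz
      obtain ⟨m, hm⟩ := E.inj i.F i.subset r y hz
      refine ⟨m, ?_⟩
      rw [show pZ.left.appTop (b r) = inc.left.appTop (algebraMap (fns A.C) (M.R i.F) (b r)) from
        appTop_comp_apply inc _ _, ← map_pow, ← map_mul]
      have : Ideal.span (E.t i.F i.subset : Set (M.R i.F)) ≤ RingHom.ker inc.left.appTop.hom :=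
        Ideal.span_le.2 fun t ht => i.incl_appTop (i.t_subset ht)
      exact this hm
  -- the part over the open
  obtain ⟨PU, xP, pU, sqPU⟩ : ∃ (PU : Over S) (xP : PU ⟶ N) (pU : PU ⟶ VU),
      IsPullback xP pU (proj hf A.C) ιU := ⟨_, _, _, IsPullback.of_hasPullback _ _⟩
  obtain ⟨PZ, zP, pP, sqPZ⟩ : ∃ (PZ : Over S) (zP : PZ ⟶ ZU) (pP : PZ ⟶ VU),
      IsPullback zP pP pZ ιU := ⟨_, _, _, IsPullback.of_hasPullback _ _⟩
  let kU : PU ⟶ PZ := sqPZ.lift (xP ≫ l) pU (by rw [Category.assoc, hlp, sqPU.w])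
  have hkU₁ : kU ≫ zP = xP ≫ l := sqPZ.lift_fst _ _ _
  have hkU₂ : kU ≫ pP = pU := sqPZ.lift_snd _ _ _
  have sqk : IsPullback xP kU l zP :=
    IsPullback.of_bot (by rw [hkU₂, hlp]; exact sqPU) hkU₁.symm sqPZ
  have hkUi : IsIso kU.left := by
    let W := ⨆ r, ZU.left.basicOpen (pZ.left.appTop (b r))
    have hiso : IsIso (l.left ∣_ W) := by
      refine (IsZariskiLocalAtTarget.iff_of_iSup_eq_top (P := MorphismProperty.isomorphisms Scheme)
        (fun r => W.ι ⁻¹ᵁ ZU.left.basicOpen (pZ.left.appTop (b r))) ?_).mpr fun r => ?_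
      · rw [← Scheme.Hom.preimage_iSup]
        exact top_le_iff.1 fun x _ => x.2
      · rw [MorphismProperty.arrow_mk_iso_iff (MorphismProperty.isomorphisms Scheme)
          (morphismRestrictRestrict l.left W _)]
        have h : W.ι ''ᵁ (W.ι ⁻¹ᵁ ZU.left.basicOpen (pZ.left.appTop (b r))) =
            ZU.left.basicOpen (pZ.left.appTop (b r)) := by
          rw [Scheme.Hom.image_preimage_eq_opensRange_inf, Scheme.Opens.opensRange_ι]
          exact inf_eq_right.mpr (le_iSup (fun r => ZU.left.basicOpen (pZ.left.appTop (b r))) r)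
        rw [h]; exact hloc r
    have sqPZ' := isPullback_left sqPZ
    have hr : Set.range zP.left ⊆ Set.range W.ι := by
      rw [Scheme.Opens.range_ι]
      rintro _ ⟨x, rfl⟩
      have hx : pZ.left (zP.left x) ∈ ιU.left.opensRange :=
        ⟨pP.left x, by rw [← Scheme.Hom.comp_apply, ← sqPZ'.w, Scheme.Hom.comp_apply]⟩
      rw [hW, TopologicalSpace.Opens.mem_iSup] at hx
      obtain ⟨r, hr⟩ := hx
      refine TopologicalSpace.Opens.mem_iSup.2 ⟨r, ?_⟩
      rw [← Scheme.preimage_basicOpen_top]
      exact hr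
    have : IsOpenImmersion zP.left :=
      MorphismProperty.of_isPullback (P := @IsOpenImmersion) sqPZ'.flip ‹_›
    let e := IsOpenImmersion.lift W.ι zP.left hr
    have he : e ≫ W.ι = zP.left := IsOpenImmersion.lift_fac _ _ _
    obtain ⟨c, hc⟩ : ∃ c : PU.left ⟶ (l.left ⁻¹ᵁ W).toScheme, c ≫ (l.left ⁻¹ᵁ W).ι = xP.left := by
      have hr' : Set.range xP.left ⊆ Set.range (l.left ⁻¹ᵁ W).ι := by
        rw [Scheme.Opens.range_ι]
        rintro _ ⟨x, rfl⟩
        show l.left (xP.left x) ∈ W
        rw [← Scheme.Hom.comp_apply, ← Over.comp_left, ← hkU₁, Over.comp_left, Scheme.Hom.comp_apply]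
        exact (Scheme.Opens.range_ι W).le (hr ⟨_, rfl⟩)
      exact ⟨IsOpenImmersion.lift _ _ hr', IsOpenImmersion.lift_fac _ _ _⟩
    have sqe : IsPullback c kU.left (l.left ∣_ W) e := by
      refine IsPullback.of_right (by rw [hc, he]; exact isPullback_left sqk) ?_
        (isPullback_morphismRestrict l.left W).flip
      rw [← cancel_mono W.ι, Category.assoc, morphismRestrict_ι, reassoc_of% hc, Category.assoc, he]
      exact (congrArg CommaMorphism.left hkU₁).symm
    exact MorphismProperty.of_isPullback (P := MorphismProperty.isomorphisms Scheme) sqe hiso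
  -- descent
  have bigX : IsPullback ((yon S).map xP ≫ toN hf A.C) ((yon S).map pU) f (aV ≫ j) := by
    rw [sqV.w]
    exact (sqPU.map (yon S)).paste_horiz (isPullback_tot hf A.C)
  have bigZ : IsPullback ((yon S).map zP ≫ closedToX (M.affine_base i.F) i.hι A.C)
      ((yon S).map pP) (i.ι ≫ M.base i.F) (aV ≫ j) := by
    rw [sqV.w]
    exact (sqPZ.map (yon S)).paste_horiz (isPullback_closedTot (M.affine_base i.F) i.hι A.C)
  let qP : (yon S).obj PU ⟶ PV := hPV.lift _ ((yon S).map pU ≫ aV)
    (bigX.w.trans (Category.assoc _ _ _).symm)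
  let qZ : (yon S).obj PZ ⟶ Pi := hPi.lift _ ((yon S).map pP ≫ aV)
    (bigZ.w.trans (Category.assoc _ _ _).symm)
  have sqX : IsPullback qP ((yon S).map pU) pv₂ aV :=
    IsPullback.of_right (by rw [hPV.lift_fst]; exact bigX) (hPV.lift_snd _ _ _) hPV
  have sqZ : IsPullback qZ ((yon S).map pP) q₂ aV :=
    IsPullback.of_right (by rw [hPi.lift_fst]; exact bigZ) (hPi.lift_snd _ _ _) hPi
  have haVe : RepWith @Etale aV := repWith_of_isPullback sqV.flip A.etale
  have haVs : RepWith @Surjective aV := repWith_of_isPullback sqV.flip A.surj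
  have := isLocallySurjective_of_etale qZ (repWith_of_isPullback sqZ.flip haVe)
    (repWith_of_isPullback sqZ.flip haVs)
  have ek : qP ≫ k = (yon S).map kU ≫ qZ := by
    refine hPi.hom_ext ?_ ?_
    · rw [Category.assoc, hk₁, ← Category.assoc, hPV.lift_fst, Category.assoc, Category.assoc,
        hPi.lift_fst, ← Category.assoc ((yon S).map kU), ← Functor.map_comp, hkU₁,
        Functor.map_comp, Category.assoc, hl₁]
    · rw [Category.assoc, hk₂, hPV.lift_snd, Category.assoc, hPi.lift_snd, ← Category.assoc,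
        ← Functor.map_comp, hkU₂]
  have hq₂ : Representable q₂ :=
    (repWith_of_isPullback hPi (E.kind_stage i).1).rep
  exact isIso_of_cover (representable_cancel hk₂ hpv hq₂) (q' := qP) (k' := (yon S).map kU)
    (q := qZ) (IsPullback.of_bot (by rw [← Functor.map_comp, hkU₂, hk₂]; exact sqX) ek sqZ)
    ((repWith_yon_map_iff _ kU).2 hkUi)

end Models.Equations

end

end Groth.AlgSp2.Approx
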