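import Groth.Agent.AlgSp2.Approx.ChartMap
import Groth.Agent.AlgSp2.QcAffine.FiniteModel
import Groth.Agent.AlgSp2.Approx.EnvProp

/-!
# Finite models of integral morphisms containing given sections
-/

set_option autoImplicit false
set_option linter.unusedSectionVars false
set_option backward.isDefEq.respectTransparency.types false
universe u

open CategoryTheory CategoryTheory.Limits AlgebraicGeometry Opposite AlgSp TopologicalSpace

namespace Groth.AlgSp2.Approx

open Groth.AlgSpBasic Groth.AlgSp2.QcAffine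

noncomputable section

variable {S : Scheme.{u}}

/-- An affine morphism, whose finitely generated algebras of sections have `Q`, maps to morphisms
with `Q` hitting any given finitely many sections. -/
theorem exists_model_containing {Q : MorphismProperty Scheme.{u}} [EnvKind Q] {Y N : Sp S} (hY : IsAlgSpace Y) (A : Atlas Y) {ν : N ⟶ Y}
    (hν' : IsAffineMor ν) (hgen : ∀ B : Subalgebra (fns A.C) (sections hν' A.C), B.FG →
      Q (Spec.map (CommRingCat.ofHom (algebraMap (fns A.C) B))))
    (G₀ : Submodule (fns A.C) (sections hν' A.C)) (hG₀ : G₀.FG) :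
    ∃ (T : Sp S) (π : T ⟶ Y) (h : N ⟶ T) (hπ : IsAffineMor π) (hm : h ≫ π = ν),
      IsAlgSpace T ∧ AffWith Q π ∧
        ∀ z ∈ G₀, ∃ y, (chartMap hν' hπ h hm A.C).left.appTop y = z := by
  classical
  let CU := A.C
  have hae := A.etale
  have has := A.surj
  have haq := A.qc
  let NU : Over S := tot hν' CU
  let p : NU ⟶ CU.Z := proj hν' CU
  obtain ⟨G, hGfg, hle, hst⟩ := exists_stable hν' CU hY hae (surjective_ofPt_of_repWith has) haq A.bdd
    G₀ hG₀
  let B₀ : Subalgebra (fns CU) (sections hν' CU) := Algebra.adjoin (fns CU) (G : Set _)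
  have hGB : (G : Set (sections hν' CU)) ⊆ B₀ := Algebra.subset_adjoin
  have hfg : B₀.FG := by
    obtain ⟨g, hg⟩ := hGfg
    refine ⟨g, le_antisymm (Algebra.adjoin_mono (hg ▸ Submodule.subset_span)) (Algebra.adjoin_le ?_)⟩
    rw [← hg]
    exact Algebra.span_le_adjoin _ _
  -- the model on the chart
  let T₀ : Over S := Over.mk (Spec.map (CommRingCat.ofHom (algebraMap (fns CU) B₀)) ≫
    CU.Z.left.isoSpec.inv ≫ CU.Z.hom)
  let ν₀ : T₀ ⟶ CU.Z := Over.homMk (Spec.map (CommRingCat.ofHom (algebraMap (fns CU) B₀)) ≫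
    CU.Z.left.isoSpec.inv) (by simp [T₀])
  have : IsAffine T₀.left := inferInstanceAs (IsAffine (Spec _))
  have hν₀ : Q ν₀.left := MorphismProperty.comp_mem _ _ _ (hgen B₀ hfg) (EnvKind.of_isIso _)
  let incl : CommRingCat.of B₀ ⟶ Γ(NU.left, ⊤) := CommRingCat.ofHom B₀.val.toRingHom
  let f₀ : NU ⟶ T₀ := Over.homMk (NU.left.isoSpec.hom ≫ Spec.map incl) (by
    show _ ≫ Spec.map _ ≫ CU.Z.left.isoSpec.inv ≫ CU.Z.hom = NU.hom
    rw [Category.assoc, ← Spec.map_comp_assoc,
      show CommRingCat.ofHom (algebraMap (fns CU) B₀) ≫ incl = p.left.appTop from rfl,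
      Scheme.isoSpec_inv_naturality_assoc, Iso.hom_inv_id_assoc, Over.w p])
  have hfac : f₀ ≫ ν₀ = p := Over.OverMorphism.ext (by
    show (_ ≫ Spec.map _) ≫ Spec.map _ ≫ CU.Z.left.isoSpec.inv = p.left
    rw [Category.assoc, ← Spec.map_comp_assoc,
      show CommRingCat.ofHom (algebraMap (fns CU) B₀) ≫ incl = p.left.appTop from rfl,
      Scheme.isoSpec_inv_naturality, Iso.hom_inv_id_assoc])
  have hf₀ : ∀ x, f₀.left.appTop x = ((Scheme.ΓSpecIso (CommRingCat.of B₀)).hom x).val := by
    intro x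
    show (NU.left.isoSpec.hom ≫ Spec.map incl).appTop x = _
    rw [Scheme.isoSpec_hom, Scheme.Hom.comp_appTop, Scheme.toSpecΓ_appTop]
    exact ConcreteCategory.congr_hom (Scheme.ΓSpecIso_naturality incl) x
  have hinj : Function.Injective f₀.left.appTop := fun x y h =>
    (ConcreteCategory.bijective_of_isIso (Scheme.ΓSpecIso (CommRingCat.of B₀)).hom).1
      (Subtype.ext ((hf₀ x).symm.trans (h.trans (hf₀ y))))
  have hsurj : ∀ x ∈ B₀, ∃ y, f₀.left.appTop y = x := fun x hx => by
    obtain ⟨y, hy⟩ := (ConcreteCategory.bijective_of_isIso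
      (Scheme.ΓSpecIso (CommRingCat.of B₀)).hom).2 ⟨x, hx⟩
    exact ⟨y, (hf₀ y).trans (congrArg Subtype.val hy)⟩
  -- the relation
  obtain ⟨R, t, s, sqR⟩ := exists_pullback_of_diag hY.diag CU.b CU.b
  have ht : Etale t.left := (repWith_yon_map_iff _ t).1 (repWith_of_isPullback sqR.flip hae)
  obtain ⟨Nt, qt, νt, sqt⟩ : ∃ (Nt : Over S) (qt : Nt ⟶ T₀) (νt : Nt ⟶ R),
      IsPullback qt νt ν₀ t := ⟨_, _, _, IsPullback.of_hasPullback _ _⟩
  obtain ⟨NR, qN, πN, sqN⟩ : ∃ (NR : Over S) (qN : NR ⟶ NU) (πN : NR ⟶ R),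
      IsPullback qN πN p t := ⟨_, _, _, IsPullback.of_hasPullback _ _⟩
  refine Exists.elim (exists_quotient_of_model (Q := Q) hY hae has
    (isPullback_tot hν' CU) (π := (yon S).map p) (ν₀ := ν₀) (f₀ := (yon S).map f₀)
    (by rw [← Functor.map_comp, hfac]) (affWith_of_repWith
      EnvKind.le_isAffineHom ((repWith_yon_map_iff _ ν₀).2 hν₀))
    sqR sqt (sqN.map (yon S)) ?_ ?_)
    fun T ⟨π, h, q, hT, hfacT, hπ, sqT, hq⟩ => ?_
  rotate_left 2
  · -- the sections
    have hπa : IsAffineMor π := affWith_isAffineHom_iff.1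
      (affWith_mono EnvKind.le_isAffineHom hπ)
    refine ⟨T, π, h, hπa, hfacT, hT, hπ, fun z hz => ?_⟩
    obtain ⟨y₀, hy₀⟩ := hsurj z (hGB (hle hz))
    obtain ⟨e, he⟩ := (yon S).map_surjective (sqT.lift (toN hπa CU) ((yon S).map (proj hπa CU))
      (isPullback_tot hπa CU).w)
    have hce : chartMap hν' hπa h hfacT CU ≫ e = f₀ := (yon S).map_injective (sqT.hom_ext
      (by rw [Functor.map_comp, Category.assoc, he, sqT.lift_fst, chartMap_toN, hq])
      (by rw [Functor.map_comp, Category.assoc, he, sqT.lift_snd, ← Functor.map_comp,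
        ← Functor.map_comp, chartMap_proj, hfac]))
    refine ⟨e.left.appTop y₀, ?_⟩
    have e' := congrArg (fun k => k.left.appTop y₀) hce
    simp only [Over.comp_left, Scheme.Hom.comp_appTop] at e'
    exact e'.trans hy₀
  · -- uniqueness
    intro V c d hc Q' qQ πQ sqQ M qM νM sqM fM e₁ e₂ m₁ m₂ _ _ e
    obtain ⟨P', qP', π', sqP'⟩ : ∃ (P' : Over S) (qP' : P' ⟶ NU) (π' : P' ⟶ V),
        IsPullback qP' π' p c := ⟨_, _, _, IsPullback.of_hasPullback _ _⟩
    let l : P' ⟶ M := sqM.lift (qP' ≫ f₀) π' (by rw [Category.assoc, hfac, sqP'.w])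
    have sql : IsPullback qP' l f₀ qM :=
      IsPullback.of_bot (by rw [sqM.lift_snd, hfac]; exact sqP') (sqM.lift_fst _ _ _).symm sqM
    have := hc
    have : Flat qM.left := MorphismProperty.of_isPullback (P := @Flat) (isPullback_left sqM).flip
      inferInstance
    let i := sqQ.lift ((yon S).map qP') ((yon S).map π') (by
      rw [← Functor.map_comp, ← Functor.map_comp, sqP'.w])
    have hi : i ≫ fM = (yon S).map l := (sqM.map (yon S)).hom_ext
      (by rw [Category.assoc, e₂, ← Category.assoc, sqQ.lift_fst, ← Functor.map_comp,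
        ← Functor.map_comp, sqM.lift_fst])
      (by rw [Category.assoc, e₁, sqQ.lift_snd, ← Functor.map_comp, sqM.lift_snd])
    have el : l ≫ m₁ = l ≫ m₂ := (yon S).map_injective (by
      rw [Functor.map_comp, Functor.map_comp, ← hi, Category.assoc, Category.assoc, e])
    exact Over.OverMorphism.ext (hom_ext_of_flat hinj (isPullback_left sql)
      (congrArg CommaMorphism.left el))
  · -- existence
    intro ft v hft₁ hft₂ hv₁ hv₂
    obtain ⟨ft, rfl⟩ := (yon S).map_surjective ft
    obtain ⟨v, rfl⟩ := (yon S).map_surjective v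
    replace hft₁ : ft ≫ qt = qN ≫ f₀ := (yon S).map_injective (by simpa only [Functor.map_comp] using hft₁)
    replace hft₂ : ft ≫ νt = πN := (yon S).map_injective (by simpa only [Functor.map_comp] using hft₂)
    replace hv₂ : v ≫ p = πN ≫ s := (yon S).map_injective (by simpa only [Functor.map_comp] using hv₂)
    let g : (yon S).obj R ⟶ Y := (yon S).map t ≫ CU.b
    have hloc : ∀ E : R.left.affineOpens, ∃ (σ : (νt.left ⁻¹ᵁ E.1).toScheme ⟶ T₀.left),
        σ ≫ ν₀.left = (νt.left ⁻¹ᵁ E.1).ι ≫ νt.left ≫ s.left ∧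
        ∃ (CE : Over S) (jE : CE ⟶ NR) (gE : CE.left ⟶ (νt.left ⁻¹ᵁ E.1).toScheme),
          IsOpenImmersion jE.left ∧ (∀ z, πN.left z ∈ E.1 → z ∈ Set.range jE.left) ∧
          gE ≫ (νt.left ⁻¹ᵁ E.1).ι = jE.left ≫ ft.left ∧ gE ≫ σ = jE.left ≫ v.left ≫ f₀.left := by
      rintro ⟨E, hE⟩
      let CE : Chart Y := sub g E hE
      let c₁ : CHom CE CU := subTo E hE t rfl
      let c₂ : CHom CE CU := subTo E hE s sqR.w.symm
      let M : R.left.Opens := E
      let ME := (νt.left ⁻¹ᵁ E).toScheme
      have : IsAffine E.toScheme := hE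
      have : IsAffineHom νt.left :=
        MorphismProperty.of_isPullback (P := @IsAffineHom) (isPullback_left sqt) (EnvKind.isAffineHom hν₀)
      have : IsAffine ME := (hE.preimage νt.left)
      let jE : tot hν' CE ⟶ NR := sqN.lift (totMap hν' c₁) (proj hν' CE ≫ subι E)
        (by rw [show totMap hν' c₁ ≫ p = _ from totMap_proj hν' c₁, Category.assoc]; rfl)
      have sqj : IsPullback jE (proj hν' CE) πN (subι E) := by
        refine IsPullback.of_right ?_ (sqN.lift_snd _ _ _) sqN
        rw [sqN.lift_fst]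
        exact IsPullback.of_map (Over.forget S) (totMap_proj hν' c₁) (isPullback_totMap hν' c₁)
      have hjo' : IsOpenImmersion jE.left := MorphismProperty.of_isPullback (P := @IsOpenImmersion)
        (isPullback_left sqj).flip (inferInstanceAs (IsOpenImmersion E.ι))
      have hrange : ∀ z, πN.left z ∈ E → z ∈ Set.range jE.left := fun z hz => by
        obtain ⟨w, hw, -⟩ := Scheme.Pullback.exists_preimage_pullback (f := πN.left)
          (g := (subι E).left) z ⟨_, hz⟩ rfl
        refine ⟨(isPullback_left sqj).isoPullback.inv w, ?_⟩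
        rw [← Scheme.Hom.comp_apply, IsPullback.isoPullback_inv_fst]
        exact hw
      have hlift : Set.range (jE.left ≫ ft.left) ⊆ Set.range (νt.left ⁻¹ᵁ E).ι := by
        rw [Scheme.Opens.range_ι]
        rintro _ ⟨z, rfl⟩
        show νt.left ((jE.left ≫ ft.left) z) ∈ E
        rw [← Scheme.Hom.comp_apply, Category.assoc, ← Over.comp_left, hft₂, ← Over.comp_left,
          sqN.lift_snd]
        exact ((proj hν' CE).left z).2
      let gE := IsOpenImmersion.lift (νt.left ⁻¹ᵁ E).ι (jE.left ≫ ft.left) hlift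
      have hgE : gE ≫ (νt.left ⁻¹ᵁ E).ι = jE.left ≫ ft.left := IsOpenImmersion.lift_fac _ _ _
      have hgE' : gE ≫ (νt.left ∣_ E) = (proj hν' CE).left := by
        rw [← cancel_mono E.ι, Category.assoc, morphismRestrict_ι, reassoc_of% hgE,
          ← Over.comp_left, ← Over.comp_left, hft₂, sqN.lift_snd]
        rfl
      let qM : ME ⟶ T₀.left := (νt.left ⁻¹ᵁ E).ι ≫ qt.left
      have : Flat qt.left := MorphismProperty.of_isPullback (P := @Flat) (isPullback_left sqt).flip
        inferInstance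
      have hq₁ : gE ≫ qM = (totMap hν' c₁).left ≫ f₀.left := by
        rw [reassoc_of% hgE, ← Over.comp_left, ← Over.comp_left, hft₁, ← Category.assoc,
          sqN.lift_fst, Over.comp_left]
      have sqM : IsPullback qM (νt.left ∣_ E) ν₀.left c₁.f.left :=
        (isPullback_morphismRestrict νt.left E).flip.paste_horiz (isPullback_left sqt)
      have sqG : IsPullback (totMap hν' c₁).left gE f₀.left qM := by
        refine IsPullback.of_bot ?_ hq₁.symm sqM
        rw [hgE', ← Over.comp_left, hfac]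
        exact isPullback_totMap hν' c₁
      have hgi : Function.Injective gE.appTop := injective_appTop_of_isPullback sqG hinj
      have app : ∀ {A B C : Scheme.{u}} {k : A ⟶ B} {l : B ⟶ C} {m : A ⟶ C}, k ≫ l = m →
          ∀ x, k.appTop (l.appTop x) = m.appTop x := by
        intro A B C k l m e x
        rw [← e, Scheme.Hom.comp_appTop]
        rfl
      let Rg : Subring (sections hν' CE) := gE.appTop.hom.range
      have hA : ∀ x : fns CE, algebraMap (fns CE) (sections hν' CE) x ∈ Rg := fun x =>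
        ⟨(νt.left ∣_ E).appTop x, app hgE' x⟩
      have hB : ∀ x ∈ B₀, mapM hν' c₁ x ∈ Rg := fun x hx => by
        obtain ⟨y, rfl⟩ := hsurj x hx
        exact ⟨qM.appTop y, (app hq₁ y).trans (app rfl y).symm⟩
      have hc₂ : ∀ x ∈ B₀, mapM hν' c₂ x ∈ Rg := by
        intro x hx
        induction hx using Algebra.adjoin_induction with
        | algebraMap r => rw [mapM_algebraMap]; exact hA _
        | add x y _ _ hx hy => rw [map_add]; exact Rg.add_mem hx hy
        | mul x y _ _ hx hy => rw [map_mul]; exact Rg.mul_mem hx hy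
        | mem x hx =>
          have hmem : mapM hν' c₂ x ∈ push hν' c₁ G :=
            (hst CE (fun _ => trivial) c₁ c₂).symm ▸ mem_push hν' c₂ hx
          have key : ∀ z ∈ push hν' c₁ G, z ∈ Rg := by
            intro z hz
            induction hz using Submodule.span_induction with
            | mem y hy =>
              obtain ⟨m, hm, rfl⟩ := hy
              exact hB m (hGB hm)
            | zero => exact Rg.zero_mem
            | add y z _ _ hy hz => exact Rg.add_mem hy hz
            | smul r y _ hy => rw [Algebra.smul_def]; exact Rg.mul_mem (hA r) hy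
          exact key _ hmem
      let e := RingEquiv.ofBijective gE.appTop.hom.rangeRestrict
        ⟨fun x y h => hgi (congrArg Subtype.val h), gE.appTop.hom.rangeRestrict_surjective⟩
      let ψ : CommRingCat.of B₀ ⟶ Γ(ME, ⊤) := CommRingCat.ofHom ((e.symm : Rg →+* Γ(ME, ⊤)).comp
        (((mapM hν' c₂).comp B₀.val.toRingHom).codRestrict Rg fun x => hc₂ x.1 x.2))
      have hψ : ψ ≫ gE.appTop = incl ≫ (totMap hν' c₂).left.appTop := by
        ext x
        exact congrArg Subtype.val (e.apply_symm_apply ⟨mapM hν' c₂ x.1, hc₂ x.1 x.2⟩)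
      let σ : ME ⟶ T₀.left := ME.isoSpec.hom ≫ Spec.map ψ
      have hσ : gE ≫ σ = (totMap hν' c₂).left ≫ f₀.left := by
        show gE ≫ ME.isoSpec.hom ≫ Spec.map ψ = _ ≫ NU.left.isoSpec.hom ≫ Spec.map incl
        rw [← Scheme.isoSpec_hom_naturality_assoc, ← Scheme.isoSpec_hom_naturality_assoc,
          ← Spec.map_comp, ← Spec.map_comp, hψ]
      refine ⟨σ, ?_, (tot hν' CE), jE, gE, hjo', hrange, hgE, ?_⟩
      · refine hom_ext_of_flat hinj sqG ?_
        have e₁ : f₀.left ≫ ν₀.left = p.left := congrArg CommaMorphism.left hfac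
        have e₂ : ft.left ≫ νt.left = πN.left := congrArg CommaMorphism.left hft₂
        have e₃ : (totMap hν' c₂).left ≫ p.left = (proj hν' CE).left ≫ E.ι ≫ s.left :=
          congrArg CommaMorphism.left (totMap_proj hν' c₂)
        have e₄ : jE.left ≫ πN.left = (proj hν' CE).left ≫ E.ι :=
          congrArg CommaMorphism.left (sqN.lift_snd _ _ _)
        rw [reassoc_of% hσ, reassoc_of% hgE, e₁, e₃, reassoc_of% e₂, reassoc_of% e₄]
      · rw [hσ, ← Over.comp_left, ← Over.comp_left, ← Over.comp_left]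
        congr 1
        rw [← Category.assoc]
        congr 1
        apply (yon S).map_injective
        apply (isPullback_tot hν' CU).hom_ext
        · rw [totMap_toN, Functor.map_comp, Category.assoc, hv₁, ← Category.assoc,
            ← Functor.map_comp, sqN.lift_fst, totMap_toN]
        · rw [← Functor.map_comp, ← Functor.map_comp, totMap_proj, Category.assoc, hv₂,
            sqN.lift_snd_assoc]
          rfl
    choose σ hσν CE jE gE hjE hrng hgE hσ using hloc
    -- glue
    have : IsAffineHom νt.left :=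
        MorphismProperty.of_isPullback (P := @IsAffineHom) (isPullback_left sqt) (EnvKind.isAffineHom hν₀)
    have hcov : ⨆ E : R.left.affineOpens, νt.left ⁻¹ᵁ E.1 = ⊤ := by
      rw [← Scheme.Hom.preimage_iSup, iSup_affineOpens_eq_top, Scheme.Hom.preimage_top]
    let 𝒰 := Nt.left.openCoverOfIsOpenCover (fun E : R.left.affineOpens => νt.left ⁻¹ᵁ E.1) hcov
    have : Flat qt.left := MorphismProperty.of_isPullback (P := @Flat) (isPullback_left sqt).flip
      inferInstance
    have sqF : IsPullback qN ft f₀ qt :=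
      IsPullback.of_bot (by rw [hft₂, hfac]; exact sqN) hft₁.symm sqt
    have key : ∀ (E : R.left.affineOpens) {P : Scheme.{u}} (z : P ⟶ NR.left)
        (w : P ⟶ (νt.left ⁻¹ᵁ E.1).toScheme), z ≫ ft.left = w ≫ (νt.left ⁻¹ᵁ E.1).ι →
        w ≫ σ E = z ≫ v.left ≫ f₀.left := by
      intro E P z w e
      have hr : Set.range z ⊆ Set.range (jE E).left := by
        rintro _ ⟨x, rfl⟩
        apply hrng E
        rw [← hft₂, Over.comp_left, Scheme.Hom.comp_apply, ← Scheme.Hom.comp_apply z, e]
        exact (w x).2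
      have := hjE E
      have hw : w = IsOpenImmersion.lift (jE E).left z hr ≫ gE E := by
        rw [← cancel_mono (νt.left ⁻¹ᵁ E.1).ι, Category.assoc, hgE, IsOpenImmersion.lift_fac_assoc, e]
      rw [hw, Category.assoc, hσ, IsOpenImmersion.lift_fac_assoc]
    have hglue : ∀ E E' : R.left.affineOpens,
        pullback.fst (𝒰.f E) (𝒰.f E') ≫ σ E = pullback.snd (𝒰.f E) (𝒰.f E') ≫ σ E' := by
      intro E E'
      let k := pullback.fst (𝒰.f E) (𝒰.f E') ≫ 𝒰.f E
      have : IsOpenImmersion k := inferInstanceAs (IsOpenImmersion (_ ≫ _))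
      refine hom_ext_of_flat hinj
        ((IsPullback.of_hasPullback ft.left k).paste_horiz (isPullback_left sqF)) ?_
      have e₀ := pullback.condition (f := ft.left) (g := k)
      have h₁ := key E (pullback.fst ft.left k) (pullback.snd ft.left k ≫ pullback.fst (𝒰.f E) (𝒰.f E'))
        (e₀.trans (Category.assoc _ _ _).symm)
      have h₂ := key E' (pullback.fst ft.left k) (pullback.snd ft.left k ≫ pullback.snd (𝒰.f E) (𝒰.f E'))
        (e₀.trans ((congrArg (pullback.snd ft.left k ≫ ·) pullback.condition).trans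
          (Category.assoc _ _ _).symm))
      exact (Category.assoc _ _ _).symm.trans (h₁.trans (h₂.symm.trans (Category.assoc _ _ _)))
    have hgl : ∀ E, 𝒰.f E ≫ 𝒰.glueMorphisms σ hglue = σ E := fun E => Scheme.Cover.ι_glueMorphisms _ _ _ E
    have hgν : 𝒰.glueMorphisms σ hglue ≫ ν₀.left = (νt ≫ s).left := by
      refine 𝒰.hom_ext _ _ fun E => ?_
      exact ((Category.assoc _ _ _).symm.trans (congrArg (· ≫ ν₀.left) (hgl E))).trans (hσν E)
    refine ⟨Over.homMk (𝒰.glueMorphisms σ hglue) (by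
      rw [← Over.w ν₀, ← Category.assoc, hgν, Over.w (νt ≫ s)]), Over.OverMorphism.ext hgν, ?_⟩
    rw [← Functor.map_comp, ← Functor.map_comp]
    congr 1
    ext : 1
    have hcov' : ⨆ E : R.left.affineOpens, ft.left ⁻¹ᵁ (νt.left ⁻¹ᵁ E.1) = ⊤ := by
      rw [← Scheme.Hom.preimage_iSup, hcov, Scheme.Hom.preimage_top]
    refine (NR.left.openCoverOfIsOpenCover _ hcov').hom_ext _ _ fun E => ?_
    show (ft.left ⁻¹ᵁ (νt.left ⁻¹ᵁ E.1)).ι ≫ ft.left ≫ 𝒰.glueMorphisms σ hglue =
      (ft.left ⁻¹ᵁ (νt.left ⁻¹ᵁ E.1)).ι ≫ v.left ≫ f₀.left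
    rw [← reassoc_of% (morphismRestrict_ι ft.left (νt.left ⁻¹ᵁ E.1)),
      show (νt.left ⁻¹ᵁ E.1).ι ≫ 𝒰.glueMorphisms σ hglue = σ E from hgl E]
    exact key E _ _ (morphismRestrict_ι ft.left (νt.left ⁻¹ᵁ E.1)).symm

end

end Groth.AlgSp2.Approx
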