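import Groth.Agent.AlgSp2.Approx.IntegralSystem

/-!
# The stages under an integral space
-/

set_option autoImplicit false
set_option linter.unusedSectionVars false
set_option backward.isDefEq.respectTransparency.types false
universe u

open CategoryTheory CategoryTheory.Limits AlgebraicGeometry Opposite AlgSp

namespace Groth.AlgSp2.Approx

open Groth.AlgSpBasic Groth.AlgSp2 Groth.AlgSp2.QcAffine

noncomputable section

variable {S : Scheme.{u}} {X Y : Sp S} {f : X ⟶ Y} {hf : IsAffineMor f} {A : Atlas Y}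
  {Q : MorphismProperty Scheme.{u}} [EnvKind Q] {M : Models Q f hf A} {n : ℕ} {b : Fin n → fns A.C}

namespace Models.Equations

variable (E : M.Equations b)

/-- The stages: a finite set of sections and stable equations. -/
def Idx : Type u :=
  {p : Σ F : Finset (sections hf A.C), Submodule (fns A.C) (M.R F) //
    ∃ hF : E.F₀ ⊆ p.1, p.2.FG ∧ p.2 ≤ (M.ker p.1).M A.C ∧
      StableOn (M.affine_base p.1) A.C Set.univ p.2 ∧ (↑(E.t p.1 hF) : Set (M.R p.1)) ⊆ p.2}

variable {E}

/-- The finite set of sections of a stage. -/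
abbrev Idx.F (i : E.Idx) : Finset (sections hf A.C) := i.1.1

/-- The equations of a stage. -/
abbrev Idx.G (i : E.Idx) : Submodule (fns A.C) (M.R i.F) := i.1.2

theorem Idx.subset (i : E.Idx) : E.F₀ ⊆ i.F := i.2.choose

theorem Idx.fg (i : E.Idx) : i.G.FG := i.2.choose_spec.1

theorem Idx.le_ker (i : E.Idx) : i.G ≤ (M.ker i.F).M A.C := i.2.choose_spec.2.1

theorem Idx.stable (i : E.Idx) : StableOn (M.affine_base i.F) A.C Set.univ i.G :=
  i.2.choose_spec.2.2.1

theorem Idx.t_subset (i : E.Idx) : (↑(E.t i.F i.subset) : Set (M.R i.F)) ⊆ i.G :=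
  i.2.choose_spec.2.2.2

/-- Any finitely many equations lie in a stage over the given set of sections. -/
theorem exists_stage (F : Finset (sections hf A.C)) (hF : E.F₀ ⊆ F)
    (G₀ : Submodule (fns A.C) (M.R F)) (h₀ : G₀.FG) (hle : G₀ ≤ (M.ker F).M A.C) :
    ∃ G : Submodule (fns A.C) (M.R F), G₀ ≤ G ∧ ∃ hF : E.F₀ ⊆ F,
      G.FG ∧ G ≤ (M.ker F).M A.C ∧ StableOn (M.affine_base F) A.C Set.univ G ∧
        (↑(E.t F hF) : Set (M.R F)) ⊆ G := by
  classical
  obtain ⟨G, h₁, h₂, h₃, h₄⟩ := A.exists_stable (M.affine_base F) M.hY (M.ker F)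
    (G₀ ⊔ Submodule.span _ (↑(E.t F hF) : Set (M.R F))) (h₀.sup ⟨_, rfl⟩)
    (sup_le hle (Submodule.span_le.2 fun y hy => (M.mem_ker_iff F y).2 (E.ht F hF y hy)))
  exact ⟨G, le_sup_left.trans h₂, hF, h₁, h₃, h₄,
    fun y hy => h₂ (Submodule.mem_sup_right (Submodule.subset_span hy))⟩

theorem exists_closed (i : E.Idx) :
    ∃ (Z : Sp S) (ι : Z ⟶ M.P i.F) (hι : RepWith @IsClosedImmersion ι), IsAlgSpace Z ∧
      LocP @LocallyOfFinitePresentation ι ∧
      secIdeal (M.affine_base i.F) hι A.C = Ideal.span (i.G : Set (M.R i.F)) :=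
  exists_closedSub_of_stable (M.affine_base i.F) (M.isAlgSpace_P i.F) A i.fg i.stable

/-- The space of a stage. -/
def Idx.Z (i : E.Idx) : Sp S := (exists_closed i).choose

/-- Its inclusion into the product. -/
def Idx.ι (i : E.Idx) : i.Z ⟶ M.P i.F := (exists_closed i).choose_spec.choose

theorem Idx.hι (i : E.Idx) : RepWith @IsClosedImmersion i.ι :=
  (exists_closed i).choose_spec.choose_spec.choose

theorem Idx.isAlgSpace (i : E.Idx) : IsAlgSpace i.Z :=
  (exists_closed i).choose_spec.choose_spec.choose_spec.1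

theorem Idx.lfp (i : E.Idx) : LocP @LocallyOfFinitePresentation i.ι :=
  (exists_closed i).choose_spec.choose_spec.choose_spec.2.1

theorem Idx.secIdeal_eq (i : E.Idx) :
    secIdeal (M.affine_base i.F) i.hι A.C = Ideal.span (i.G : Set (M.R i.F)) :=
  (exists_closed i).choose_spec.choose_spec.choose_spec.2.2

instance (i : E.Idx) : Mono i.ι :=
  mono_of_repWith (fun _ _ g (_ : IsClosedImmersion g) => inferInstance) i.hι

theorem Idx.incl_appTop (i : E.Idx) {y : M.R i.F} (hy : y ∈ i.G) :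
    (closedIncl (M.affine_base i.F) i.hι A.C).left.appTop y = 0 :=
  (mem_secIdeal_iff (M.affine_base i.F) i.hι A.C y).1 (i.secIdeal_eq ▸ Ideal.subset_span hy)

/-- A transition exists. -/
def Idx.Le (i i' : E.Idx) : Prop :=
  ∃ h : i.F ⊆ i'.F, ∃ k : i'.Z ⟶ i.Z, k ≫ i.ι = i'.ι ≫ M.res h

instance : Preorder E.Idx where
  le := Idx.Le
  le_refl i := ⟨Finset.Subset.refl _, 𝟙 _, by rw [Category.id_comp]; exact
    (by rw [Models.res, prodRes_refl, Category.comp_id])⟩
  le_trans i i' i'' := by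
    rintro ⟨h, k, hk⟩ ⟨h', k', hk'⟩
    exact ⟨h.trans h', k' ≫ k, by
      rw [Category.assoc, hk, reassoc_of% hk', Models.res, Models.res, prodRes_comp]⟩

theorem Idx.le_of_map_subset {i i' : E.Idx} (h : i.F ⊆ i'.F)
    (hG : ∀ y ∈ i.G, M.resR h y ∈ i'.G) : i ≤ i' := by
  let QU := closedTot (M.affine_base i'.F) i'.hι A.C
  let mU : QU ⟶ tot (M.affine_base i.F) A.C := closedIncl (M.affine_base i'.F) i'.hι A.C ≫
    chartMap (M.affine_base i'.F) (M.affine_base i.F) (M.res h) (prodRes_base M.T M.ν h) A.C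
  have : IsAffine QU.left :=
    isAffine_of_isAffineHom (closedIncl (M.affine_base i'.F) i'.hι A.C).left
  have e : (i'.ι ≫ M.res h) ≫ M.base i.F = i'.ι ≫ M.base i'.F := by
    rw [Category.assoc, prodRes_base]
  obtain ⟨k, hk⟩ := exists_lift_of_kills (M.affine_base i.F) i.hι A i.secIdeal_eq (i'.ι ≫ M.res h)
    (qQ := closedToX (M.affine_base i'.F) i'.hι A.C)
    (pQ := closedIncl (M.affine_base i'.F) i'.hι A.C ≫ proj (M.affine_base i'.F) A.C)
    (by rw [e]; exact isPullback_closedTot (M.affine_base i'.F) i'.hι A.C) mU (by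
      rw [Functor.map_comp, Category.assoc, chartMap_toN, ← Category.assoc,
        ← (isPullback_closedIncl (M.affine_base i'.F) i'.hι A.C).w, Category.assoc])
    (fun y hy => by
      rw [appTop_comp_apply]
      exact i'.incl_appTop (hG y hy))
  exact ⟨h, k, hk⟩

/-- Two stages are dominated by a third in which given elements with the same image agree. -/
theorem exists_ub (i i' : E.Idx) (y : M.R i.F) (y' : M.R i'.F) (e : M.φ i.F y = M.φ i'.F y') :
    ∃ i'' : E.Idx, i ≤ i'' ∧ i' ≤ i'' ∧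
      ∀ (h : i.F ⊆ i''.F) (h' : i'.F ⊆ i''.F), M.resR h y - M.resR h' y' ∈ i''.G := by
  classical
  have hu : i.F ⊆ i.F ∪ i'.F := Finset.subset_union_left
  have hu' : i'.F ⊆ i.F ∪ i'.F := Finset.subset_union_right
  obtain ⟨G, hle, hF, hp⟩ := exists_stage (E := E) (i.F ∪ i'.F) (i.subset.trans hu)
    (i.G.map (M.resR hu).toLinearMap ⊔ i'.G.map (M.resR hu').toLinearMap ⊔
      Submodule.span _ {M.resR hu y - M.resR hu' y'})
    (((i.fg.map _).sup (i'.fg.map _)).sup (Submodule.fg_span_singleton _)) (by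
      refine sup_le (sup_le ?_ ?_) ?_
      · rintro _ ⟨z, hz, rfl⟩
        exact (M.mem_ker_iff _ _).2 ((M.φ_resR hu z).trans ((M.mem_ker_iff _ _).1 (i.le_ker hz)))
      · rintro _ ⟨z, hz, rfl⟩
        exact (M.mem_ker_iff _ _).2 ((M.φ_resR hu' z).trans ((M.mem_ker_iff _ _).1 (i'.le_ker hz)))
      · rw [Submodule.span_le, Set.singleton_subset_iff]
        refine (M.mem_ker_iff _ _).2 ?_
        rw [map_sub, M.φ_resR, M.φ_resR, e, sub_self])
  refine ⟨⟨⟨_, G⟩, hF, hp⟩, Idx.le_of_map_subset hu fun z hz => hle ?_,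
    Idx.le_of_map_subset hu' fun z hz => hle ?_, fun h h' => hle ?_⟩
  · exact Submodule.mem_sup_left (Submodule.mem_sup_left ⟨z, hz, rfl⟩)
  · exact Submodule.mem_sup_left (Submodule.mem_sup_right ⟨z, hz, rfl⟩)
  · exact Submodule.mem_sup_right (Submodule.subset_span rfl)

instance : IsDirected E.Idx (· ≤ ·) := ⟨fun i i' => by
  obtain ⟨i'', h, h', -⟩ := exists_ub i i' 0 0 (by rw [map_zero, map_zero])
  exact ⟨i'', h, h'⟩⟩

/-- Every finite set of sections lies in a stage. -/
theorem exists_superset (F : Finset (sections hf A.C)) : ∃ i : E.Idx, F ⊆ i.F := by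
  classical
  obtain ⟨G, -, hp⟩ := exists_stage (E := E) (E.F₀ ∪ F) Finset.subset_union_left ⊥
    Submodule.fg_bot bot_le
  exact ⟨⟨⟨_, G⟩, hp⟩, Finset.subset_union_right⟩

instance : Nonempty E.Idx := ⟨(exists_superset (E := E) ∅).choose⟩

variable (E)

/-- The transition maps. -/
def map {i i' : E.Idx} (h : i ≤ i') : i'.Z ⟶ i.Z := h.2.choose

theorem map_ι {i i' : E.Idx} (h : i ≤ i') : E.map h ≫ i.ι = i'.ι ≫ M.res h.1 := h.2.choose_spec

/-- The diagram of stages. -/
def diag : E.Idxᵒᵖ ⥤ Sp S where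
  obj i := i.unop.Z
  map {_ _} φ := E.map φ.unop.le
  map_id i := (cancel_mono i.unop.ι).1 (by
    rw [map_ι, Models.res, prodRes_refl, Category.id_comp, Category.comp_id])
  map_comp {i j k} φ ψ := (cancel_mono k.unop.ι).1 (by
    rw [map_ι, Category.assoc, map_ι, ← Category.assoc, map_ι, Category.assoc, Models.res,
      Models.res, prodRes_comp])

/-- The maps of the stages to the base. -/
def diagBase : E.diag ⟶ (Functor.const E.Idxᵒᵖ).obj Y where
  app i := i.unop.ι ≫ M.base i.unop.F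
  naturality i j φ := by
    show E.map φ.unop.le ≫ j.unop.ι ≫ M.base j.unop.F = (i.unop.ι ≫ M.base i.unop.F) ≫ 𝟙 Y
    rw [reassoc_of% (E.map_ι φ.unop.le), prodRes_base, Category.comp_id]

theorem exists_toStage (i : E.Idx) : ∃ g : X ⟶ i.Z, g ≫ i.ι = M.toP i.F :=
  exists_lift_of_kills (M.affine_base i.F) i.hι A i.secIdeal_eq (M.toP i.F)
    (qQ := toN hf A.C) (pQ := proj hf A.C) (by rw [M.toP_base]; exact isPullback_tot hf A.C)
    (chartMap hf (M.affine_base i.F) (M.toP i.F) (M.toP_base i.F) A.C)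
    (chartMap_toN hf (M.affine_base i.F) _ _ A.C) fun y hy => (M.mem_ker_iff _ _).1 (i.le_ker hy)

/-- The map to a stage. -/
def toStage (i : E.Idx) : X ⟶ i.Z := (E.exists_toStage i).choose

theorem toStage_ι (i : E.Idx) : E.toStage i ≫ i.ι = M.toP i.F := (E.exists_toStage i).choose_spec

/-- The cone of the given space over the stages. -/
def cone : Cone E.diag where
  pt := X
  π :=
    { app := fun i => E.toStage i.unop
      naturality := fun i j φ => by
        show 𝟙 X ≫ E.toStage j.unop = E.toStage i.unop ≫ E.map φ.unop.le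
        rw [Category.id_comp, ← cancel_mono j.unop.ι, Category.assoc, E.map_ι, ← Category.assoc,
          E.toStage_ι, E.toStage_ι, M.toP_res] }

end Models.Equations

end

end Groth.AlgSp2.Approx
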