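import Groth.Agent.AlgSp2.QcAffine.FiniteModel
import Groth.Agent.LocImm.FiniteFactorFP

/-!
# Generators and equations on a basic open of the base
-/

set_option autoImplicit false
universe u

namespace Groth.AlgSp2.Approx

/-- If a localization at an element of the base is finitely presented, finitely many sections and
equations control it. -/
theorem exists_loc_equations {A B L : Type u} [CommRing A] [CommRing B] [CommRing L] [Algebra A B]
    [Algebra B L] [Algebra A L] [IsScalarTower A B L] (b : A)
    [IsLocalization.Away (algebraMap A B b) L] [Algebra.FinitePresentation A L] :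
    ∃ s : Finset B, ∀ (R : Type u) [CommRing R] [Algebra A R] [Algebra.FiniteType A R]
      (h : R →ₐ[A] B), (↑s : Set B) ⊆ Set.range h →
      (∀ x : B, ∃ n : ℕ, algebraMap A B b ^ n * x ∈ Set.range h) ∧
        ∃ t : Finset R, (∀ r ∈ t, h r = 0) ∧
          ∀ r, h r = 0 → ∃ n : ℕ, algebraMap A R b ^ n * r ∈ Ideal.span (t : Set R) := by
  classical
  obtain ⟨F, hF⟩ := QcAffine.exists_finset_pow_mul_mem (A := A) (L := L) (algebraMap A B b)
  refine ⟨F, fun R _ _ _ h hFR => ?_⟩
  have hsurj : ∀ x : B, ∃ n : ℕ, algebraMap A B b ^ n * x ∈ Set.range h := fun x => by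
    obtain ⟨n, hn⟩ := hF h.range (h.range.algebraMap_mem b) (fun y hy => hFR hy) x
    exact ⟨n, hn⟩
  refine ⟨hsurj, ?_⟩
  let Rb := Localization.Away (algebraMap A R b)
  have hu : IsUnit (((algebraMap B L).comp h.toRingHom) (algebraMap A R b)) := by
    show IsUnit (algebraMap B L (h (algebraMap A R b)))
    rw [h.commutes]
    exact IsLocalization.Away.algebraMap_isUnit (S := L) (algebraMap A B b)
  let φ : Rb →+* L := IsLocalization.Away.lift (algebraMap A R b) hu
  have hφ : ∀ r, φ (algebraMap R Rb r) = algebraMap B L (h r) := fun r =>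
    IsLocalization.Away.lift_eq (algebraMap A R b) hu r
  have hφs : Function.Surjective φ := by
    intro z
    obtain ⟨n, x, hx⟩ := IsLocalization.Away.surj (algebraMap A B b) z
    obtain ⟨m, r, hr⟩ := hsurj x
    refine ⟨algebraMap R Rb r * IsLocalization.Away.invSelf (algebraMap A R b) ^ (m + n), ?_⟩
    have hu' : φ (algebraMap R Rb (algebraMap A R b)) = algebraMap B L (algebraMap A B b) := by
      rw [hφ, h.commutes]
    have h1 : φ (algebraMap R Rb (algebraMap A R b)) * φ (IsLocalization.Away.invSelf (algebraMap A R b)) = 1 := by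
      rw [← map_mul, IsLocalization.Away.mul_invSelf, map_one]
    rw [map_mul, map_pow, hφ, hr, map_mul, map_pow, ← hx, ← hu']
    calc φ (algebraMap R Rb (algebraMap A R b)) ^ m *
          (z * φ (algebraMap R Rb (algebraMap A R b)) ^ n) *
          φ (IsLocalization.Away.invSelf (algebraMap A R b)) ^ (m + n) =
        z * (φ (algebraMap R Rb (algebraMap A R b)) *
          φ (IsLocalization.Away.invSelf (algebraMap A R b))) ^ (m + n) := by ring
      _ = z := by rw [h1, one_pow, mul_one]
  have hfp : φ.FinitePresentation := by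
    refine RingHom.FinitePresentation.of_comp_finiteType (algebraMap A Rb) ?_ ?_
    · have : φ.comp (algebraMap A Rb) = algebraMap A L := by
        ext a
        rw [RingHom.comp_apply, IsScalarTower.algebraMap_apply A R Rb, hφ, h.commutes,
          ← IsScalarTower.algebraMap_apply]
      rw [this]
      exact RingHom.finitePresentation_algebraMap.2 inferInstance
    · rw [IsScalarTower.algebraMap_eq A R Rb]
      exact (RingHom.finiteType_algebraMap.2 (IsLocalization.finiteType_of_monoid_fg
        (Submonoid.powers (algebraMap A R b)) Rb)).comp (RingHom.finiteType_algebraMap.2 ‹_›)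
  obtain ⟨G, hG⟩ := Groth.LocImmersion.FiniteFactorFP.ker_fg_of_surjective
    (CommRingCat.ofHom φ) hφs hfp
  have hmem : ∀ g : G, ∃ (r : R) (n : ℕ), h r = 0 ∧
      g.1 * algebraMap R Rb (algebraMap A R b) ^ n = algebraMap R Rb r := by
    intro g
    obtain ⟨n, r, hr⟩ := IsLocalization.Away.surj (algebraMap A R b) g.1
    have h0 : algebraMap B L (h r) = 0 := by
      rw [← hφ, ← hr, map_mul,
        show φ g.1 = 0 from hG.le (Ideal.subset_span g.2), zero_mul]
    obtain ⟨⟨_, k, rfl⟩, hk⟩ := (IsLocalization.map_eq_zero_iff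
      (Submonoid.powers (algebraMap A B b)) L (h r)).1 h0
    refine ⟨algebraMap A R b ^ k * r, n + k, ?_, ?_⟩
    · rw [map_mul, map_pow, h.commutes]; exact hk
    · rw [pow_add, ← mul_assoc, hr, map_mul, map_pow, mul_comm]
  choose r n hr0 hr using hmem
  refine ⟨Finset.univ.image r, fun x hx => ?_, fun x hx => ?_⟩
  · obtain ⟨g, -, rfl⟩ := Finset.mem_image.1 hx
    exact hr0 g
  · have hker : algebraMap R Rb x ∈ Ideal.span (G : Set Rb) := by
      refine hG.ge ?_
      show φ (algebraMap R Rb x) = 0
      rw [hφ, hx, map_zero]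
    have hle : Ideal.span (G : Set Rb) ≤
        (Ideal.span ((Finset.univ.image r : Finset R) : Set R)).map (algebraMap R Rb) := by
      refine Ideal.span_le.2 fun g hg => ?_
      have hu : IsUnit (algebraMap R Rb (algebraMap A R b) ^ n ⟨g, hg⟩) :=
        (IsLocalization.Away.algebraMap_isUnit (algebraMap A R b)).pow _
      refine (Ideal.mul_unit_mem_iff_mem _ hu).1 ?_
      rw [hr ⟨g, hg⟩]
      exact Ideal.mem_map_of_mem _ (Ideal.subset_span (by simp))
    obtain ⟨⟨⟨y, hy⟩, ⟨_, k, rfl⟩⟩, e⟩ :=
      (IsLocalization.mem_map_algebraMap_iff (Submonoid.powers (algebraMap A R b)) Rb).1 (hle hker)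
    rw [← map_mul] at e
    obtain ⟨⟨_, k', rfl⟩, e'⟩ := (IsLocalization.eq_iff_exists (Submonoid.powers (algebraMap A R b)) Rb).1 e
    refine ⟨k' + k, ?_⟩
    rw [pow_add, mul_assoc, mul_comm (algebraMap A R b ^ k) x]
    exact e' ▸ Ideal.mul_mem_left _ _ hy

end Groth.AlgSp2.Approx
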