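import Groth.Agent.AlgSp2.Approx.FiniteFP

/-!
# Finite products of finite, finitely presented spaces over a base
-/

set_option autoImplicit false
set_option linter.unusedSectionVars false
set_option backward.isDefEq.respectTransparency.types false
universe u

open CategoryTheory CategoryTheory.Limits AlgebraicGeometry Opposite AlgSp

namespace Groth.AlgSp2.Approx

open Groth.AlgSpBasic Groth.AlgSp2

noncomputable section

variable {S : Scheme.{u}} {Y : Sp S} {κ : Type u} (T : κ → Sp S) (ν : ∀ z, T z ⟶ Y)

/-- The product over the base of finitely many spaces. -/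
def prodSp (F : Finset κ) : Sp S := widePullback Y (fun z : F => T z.1) (fun z => ν z.1)

/-- Its map to the base. -/
def prodBase (F : Finset κ) : prodSp T ν F ⟶ Y := WidePullback.base _

/-- Its projections. -/
def prodProj (F : Finset κ) (z : κ) (hz : z ∈ F) : prodSp T ν F ⟶ T z :=
  WidePullback.π (fun z : F => ν z.1) ⟨z, hz⟩

@[reassoc]
theorem prodProj_comp (F : Finset κ) (z : κ) (hz : z ∈ F) :
    prodProj T ν F z hz ≫ ν z = prodBase T ν F :=
  WidePullback.π_arrow (fun z : F => ν z.1) ⟨z, hz⟩

/-- Maps into the product. -/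
def prodLift (F : Finset κ) {W : Sp S} (b : W ⟶ Y) (g : ∀ z ∈ F, W ⟶ T z)
    (hg : ∀ z hz, g z hz ≫ ν z = b) : W ⟶ prodSp T ν F :=
  WidePullback.lift b (fun z : F => g z.1 z.2) fun z => hg z.1 z.2

@[reassoc]
theorem prodLift_proj (F : Finset κ) {W : Sp S} (b : W ⟶ Y) (g : ∀ z ∈ F, W ⟶ T z)
    (hg : ∀ z hz, g z hz ≫ ν z = b) (z : κ) (hz : z ∈ F) :
    prodLift T ν F b g hg ≫ prodProj T ν F z hz = g z hz :=
  WidePullback.lift_π _ _ _ _ _

@[reassoc]
theorem prodLift_base (F : Finset κ) {W : Sp S} (b : W ⟶ Y) (g : ∀ z ∈ F, W ⟶ T z)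
    (hg : ∀ z hz, g z hz ≫ ν z = b) : prodLift T ν F b g hg ≫ prodBase T ν F = b :=
  WidePullback.lift_base _ _ _ _

theorem prod_hom_ext (F : Finset κ) {W : Sp S} {a b : W ⟶ prodSp T ν F}
    (h : ∀ z hz, a ≫ prodProj T ν F z hz = b ≫ prodProj T ν F z hz)
    (hb : a ≫ prodBase T ν F = b ≫ prodBase T ν F) : a = b :=
  WidePullback.hom_ext _ _ _ (fun z => h z.1 z.2) hb

/-- Restriction to fewer factors. -/
def prodRes {F F' : Finset κ} (h : F ⊆ F') : prodSp T ν F' ⟶ prodSp T ν F :=
  prodLift T ν F (prodBase T ν F') (fun z hz => prodProj T ν F' z (h hz))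
    fun _ _ => prodProj_comp T ν F' _ _

@[reassoc]
theorem prodRes_proj {F F' : Finset κ} (h : F ⊆ F') (z : κ) (hz : z ∈ F) :
    prodRes T ν h ≫ prodProj T ν F z hz = prodProj T ν F' z (h hz) :=
  prodLift_proj T ν F _ _ _ _ _

@[reassoc]
theorem prodRes_base {F F' : Finset κ} (h : F ⊆ F') :
    prodRes T ν h ≫ prodBase T ν F = prodBase T ν F' :=
  prodLift_base T ν F _ _ _

theorem prodRes_refl (F : Finset κ) : prodRes T ν (Finset.Subset.refl F) = 𝟙 _ :=
  prod_hom_ext T ν F (fun z hz => by rw [prodRes_proj, Category.id_comp])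
    (by rw [prodRes_base, Category.id_comp])

theorem prodRes_comp {F F' F'' : Finset κ} (h : F ⊆ F') (h' : F' ⊆ F'') :
    prodRes T ν h' ≫ prodRes T ν h = prodRes T ν (h.trans h') :=
  prod_hom_ext T ν F (fun z hz => by rw [Category.assoc, prodRes_proj, prodRes_proj, prodRes_proj])
    (by rw [Category.assoc, prodRes_base, prodRes_base, prodRes_base])

/-- Finite products of finitely presented spaces with `Q` are finitely presented with `Q`. -/
theorem prod_props {Q : MorphismProperty Scheme.{u}} [EnvKind Q] (hY : IsAlgSpace Y) (hT : ∀ z, IsAlgSpace (T z))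
    (hν : ∀ z, AffWith Q (ν z)) (hfp : ∀ z, LocP @LocallyOfFinitePresentation (ν z))
    (F : Finset κ) :
    IsAlgSpace (prodSp T ν F) ∧ RepWith Q (prodBase T ν F) ∧
      LocP @LocallyOfFinitePresentation (prodBase T ν F) := by
  classical
  have hiso : ∀ {P : Sp S} (π : P ⟶ Y), IsIso π → IsAlgSpace P ∧ RepWith Q π ∧
      LocP @LocallyOfFinitePresentation π := fun {P} π _ =>
    ⟨isAlgSpace_of_representable hY π (repWith_isIso (P := @IsOpenImmersion) π).rep,
      repWith_mono (P := @IsClosedImmersion) EnvKind.closed (repWith_isIso π), locP_of_repWith (repWith_mono (P := @IsOpenImmersion)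
        (fun _ _ k (_ : IsOpenImmersion k) => (inferInstance : LocallyOfFinitePresentation k))
        (repWith_isIso π))⟩
  induction F using Finset.induction with
  | empty =>
    refine hiso _ ⟨prodLift T ν ∅ (𝟙 Y) (fun z hz => absurd hz (Finset.notMem_empty z))
      (fun z hz => absurd hz (Finset.notMem_empty z)), ?_, prodLift_base T ν ∅ _ _ _⟩
    exact prod_hom_ext T ν ∅ (fun z hz => absurd hz (Finset.notMem_empty z))
      (by rw [Category.assoc, prodLift_base, Category.comp_id, Category.id_comp])
  | insert a F ha ih =>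
    obtain ⟨hP, hPf, hPfp⟩ := ih
    let P := prodSp T ν (insert a F)
    have haF : a ∈ insert a F := Finset.mem_insert_self a F
    have hsub : F ⊆ insert a F := Finset.subset_insert a F
    have sq : IsPullback (prodProj T ν _ a haF) (prodRes T ν hsub) (ν a) (prodBase T ν F) := by
      refine ⟨⟨by rw [prodProj_comp, prodRes_base]⟩, ⟨PullbackCone.IsLimit.mk _
        (fun c => prodLift T ν (insert a F) (c.fst ≫ ν a)
          (fun z hz => if h : z = a then c.fst ≫ eqToHom (by rw [h])
            else c.snd ≫ prodProj T ν F z ((Finset.mem_insert.1 hz).resolve_left h))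
          (fun z hz => by
            by_cases h : z = a
            · subst h; simp
            · rw [dif_neg h, Category.assoc, prodProj_comp, c.condition]))
        (fun c => by rw [prodLift_proj, dif_pos rfl, eqToHom_refl, Category.comp_id])
        (fun c => prod_hom_ext T ν F (fun z hz => by
          rw [Category.assoc, prodRes_proj, prodLift_proj, dif_neg (show ¬ z = a from fun h => ha (h ▸ hz))])
          (by rw [Category.assoc, prodRes_base, prodLift_base, c.condition]))
        (fun c m h₁ h₂ => prod_hom_ext T ν _ (fun z hz => by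
          rw [prodLift_proj]
          by_cases h : z = a
          · subst h
            rw [dif_pos rfl, eqToHom_refl, Category.comp_id, ← h₁]
          · rw [dif_neg h, ← h₂, Category.assoc, prodRes_proj])
          (by rw [prodLift_base, ← h₁, Category.assoc, prodProj_comp]))⟩⟩
    have hb : prodBase T ν (insert a F) = prodProj T ν _ a haF ≫ ν a := (prodProj_comp T ν _ _ _).symm
    have hr : RepWith Q (prodProj T ν (insert a F) a haF) := repWith_of_isPullback sq.flip hPf
    have hPA : IsAlgSpace P := isAlgSpace_of_representable (hT a) _ hr.rep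
    refine ⟨hPA, ?_, ?_⟩
    · rw [hb]
      exact repWith_comp hr (repWith_of_affWith (hν a))
    · rw [hb]
      exact locP_comp hPA (hT a) hY (locP_of_repWith (repWith_of_isPullback sq.flip
        (repWith_of_locP hY hPf.rep hPfp))) (hfp a)

end

end Groth.AlgSp2.Approx
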