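import Groth.Agent.AlgSp2.Approx.IntegralAux
import Groth.Agent.AlgSp2.Approx.IntegralModel
import Groth.Agent.AlgSp2.Approx.Products
import Groth.Agent.AlgSp2.Approx.LocEquations

/-!
# Systems of finite, finitely presented spaces under an integral one
-/

set_option autoImplicit false
set_option linter.unusedSectionVars false
set_option backward.isDefEq.respectTransparency.types false
universe u

open CategoryTheory CategoryTheory.Limits AlgebraicGeometry Opposite AlgSp

namespace Groth.AlgSp2.Approx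

open Groth.AlgSpBasic Groth.AlgSp2 Groth.AlgSp2.QcAffine

noncomputable section

variable {S : Scheme.{u}} {X Y : Sp S} {f : X ⟶ Y} {hf : IsAffineMor f} {A : Atlas Y}
  {Q : MorphismProperty Scheme.{u}} [EnvKind Q]

/-- For every section over the atlas, a finitely presented space with `Q` under the given one
hitting it. -/
structure Models (Q : MorphismProperty Scheme.{u}) (f : X ⟶ Y) (hf : IsAffineMor f) (A : Atlas Y) : Type (u + 2) where
  hY : IsAlgSpace Y
  T : sections hf A.C → Sp S
  ν : ∀ z, T z ⟶ Y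
  h : ∀ z, X ⟶ T z
  hm : ∀ z, h z ≫ ν z = f
  alg : ∀ z, IsAlgSpace (T z)
  kind : ∀ z, AffWith Q (ν z)
  fp : ∀ z, LocP @LocallyOfFinitePresentation (ν z)
  aff : ∀ z, IsAffineMor (ν z)
  hit : ∀ z, ∃ y, (chartMap hf (aff z) (h z) (hm z) A.C).left.appTop y = z

theorem exists_models_of_gen [QuasiSeparatedSpace ↥S] (hY : IsAlgSpace Y) (hYqc : IsQuasiCompactSp Y)
    (hYqs : IsQuasiSeparatedSp Y) (hf : IsAffineMor f) (A : Atlas Y)
    (hgen : ∀ B : Subalgebra (fns A.C) (sections hf A.C), B.FG →
      Q (Spec.map (CommRingCat.ofHom (algebraMap (fns A.C) B)))) :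
    Nonempty (Models Q f hf A) := by
  have H : ∀ z : sections hf A.C, ∃ (T : Sp S) (ν : T ⟶ Y) (h : X ⟶ T) (hm : h ≫ ν = f)
      (hν : IsAffineMor ν), IsAlgSpace T ∧ AffWith Q ν ∧
        LocP @LocallyOfFinitePresentation ν ∧
        ∃ y, (chartMap hf hν h hm A.C).left.appTop y = z := by
    intro z
    obtain ⟨T₀, π, h₀, hπ, hm₀, hT₀, hπf, hy⟩ := exists_model_containing hY A hf hgen
      (Submodule.span _ {z}) (Submodule.fg_span_singleton z)
    obtain ⟨y, hy⟩ := hy z (Submodule.mem_span_singleton_self z)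
    obtain ⟨T, ν, h₁, hT, hν, hfp, hh₁, hfac⟩ := exists_envelope hπf hY hYqc hYqs
    have hνa : IsAffineMor ν := affWith_isAffineHom_iff.1 (affWith_mono EnvKind.le_isAffineHom hν)
    have := isClosedImmersion_chartMap hπ hνa h₁ hfac hh₁ A.C
    obtain ⟨x, hx⟩ := ((HasAffineProperty.iff_of_isAffine (P := @IsClosedImmersion)).1 this).2 y
    have hm : (h₀ ≫ h₁) ≫ ν = f := by rw [Category.assoc, hfac, hm₀]
    refine ⟨T, ν, h₀ ≫ h₁, hm, hνa, hT, hν, hfp, x, ?_⟩
    rw [← chartMap_comp hf hπ hνa h₀ hm₀ h₁ hfac (h₀ ≫ h₁) hm rfl, appTop_comp_apply, hx, hy]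
  choose T ν h hm hν hT hfin hfp hy using H
  exact ⟨⟨hY, T, ν, h, hm, hT, hfin, hfp, hν, hy⟩⟩

theorem exists_models [QuasiSeparatedSpace ↥S] (hY : IsAlgSpace Y) (hYqc : IsQuasiCompactSp Y)
    (hYqs : IsQuasiSeparatedSp Y) (hf : IsAffineMor f) (hfI : RepWith @IsIntegralHom f) (A : Atlas Y) :
    Nonempty (Models @IsFinite f hf A) := by
  refine exists_models_of_gen hY hYqc hYqs hf A fun B hB => ?_
  obtain ⟨t, ht⟩ := hB
  have : IsIntegralHom (proj hf A.C).left := (AlgSp.repWith_yon_map_iff _ _).1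
    (repWith_of_isPullback (isPullback_tot hf A.C) hfI)
  have hint : ∀ x : sections hf A.C, IsIntegral (fns A.C) x := fun x =>
    (HasAffineProperty.iff_of_isAffine (P := @IsIntegralHom)).1
      ‹IsIntegralHom (proj hf A.C).left› |>.2 x
  have : (Subalgebra.toSubmodule B).FG := by
    rw [← ht]
    exact fg_adjoin_of_finite t.finite_toSet fun x _ => hint x
  exact (IsFinite.SpecMap_iff _).2 (RingHom.finite_algebraMap.2 (Module.Finite.iff_fg.2 this))

/-- An affine space over a qcqs space has models of finite type. -/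
theorem exists_models_affine [QuasiSeparatedSpace ↥S] (hY : IsAlgSpace Y)
    (hYqc : IsQuasiCompactSp Y) (hYqs : IsQuasiSeparatedSp Y) (hf : IsAffineMor f) (A : Atlas Y) :
    Nonempty (Models AffFT f hf A) :=
  exists_models_of_gen hY hYqc hYqs hf A fun B hB =>
    ⟨inferInstance, (HasRingHomProperty.Spec_iff (P := @LocallyOfFiniteType)).2
      (RingHom.finiteType_algebraMap.2 ((Subalgebra.fg_iff_finiteType B).1 hB))⟩

namespace Models

variable (M : Models Q f hf A)

/-- The finite products. -/
abbrev P (F : Finset (sections hf A.C)) : Sp S := prodSp M.T M.ν F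

/-- Their maps to the base. -/
abbrev base (F : Finset (sections hf A.C)) : M.P F ⟶ Y := prodBase M.T M.ν F

/-- The restrictions. -/
abbrev res {F F' : Finset (sections hf A.C)} (h : F ⊆ F') : M.P F' ⟶ M.P F := prodRes M.T M.ν h

theorem isAlgSpace_P (F : Finset (sections hf A.C)) : IsAlgSpace (M.P F) :=
  (prod_props M.T M.ν M.hY M.alg M.kind M.fp F).1

theorem kind_base (F : Finset (sections hf A.C)) : RepWith Q (M.base F) :=
  (prod_props M.T M.ν M.hY M.alg M.kind M.fp F).2.1

theorem fp_base (F : Finset (sections hf A.C)) : LocP @LocallyOfFinitePresentation (M.base F) :=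
  (prod_props M.T M.ν M.hY M.alg M.kind M.fp F).2.2

theorem affWith_base (F : Finset (sections hf A.C)) : AffWith Q (M.base F) :=
  affWith_of_repWith EnvKind.le_isAffineHom (M.kind_base F)

theorem affine_base (F : Finset (sections hf A.C)) : IsAffineMor (M.base F) :=
  affWith_isAffineHom_iff.1 (affWith_mono EnvKind.le_isAffineHom (M.affWith_base F))

/-- The map to a product. -/
def toP (F : Finset (sections hf A.C)) : X ⟶ M.P F :=
  prodLift M.T M.ν F f (fun z _ => M.h z) fun z _ => M.hm z

theorem toP_base (F : Finset (sections hf A.C)) : M.toP F ≫ M.base F = f :=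
  prodLift_base M.T M.ν F _ _ _

theorem toP_res {F F' : Finset (sections hf A.C)} (h : F ⊆ F') :
    M.toP F' ≫ M.res h = M.toP F :=
  prod_hom_ext M.T M.ν F
    (fun z hz => by rw [Category.assoc, prodRes_proj, toP, prodLift_proj, toP, prodLift_proj])
    (by rw [Category.assoc, prodRes_base, toP, prodLift_base, toP, prodLift_base])

/-- Functions on the product over the atlas. -/
abbrev R (F : Finset (sections hf A.C)) : Type u := sections (M.affine_base F) A.C

/-- The map of functions over the atlas. -/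
def φ (F : Finset (sections hf A.C)) : M.R F →ₐ[fns A.C] sections hf A.C :=
  chartAlg hf (M.affine_base F) (M.toP F) (M.toP_base F) A.C

/-- Restriction on functions over the atlas. -/
def resR {F F' : Finset (sections hf A.C)} (h : F ⊆ F') : M.R F →ₐ[fns A.C] M.R F' :=
  chartAlg (M.affine_base F') (M.affine_base F) (M.res h) (prodRes_base M.T M.ν h) A.C

theorem φ_resR {F F' : Finset (sections hf A.C)} (h : F ⊆ F') (y : M.R F) :
    M.φ F' (M.resR h y) = M.φ F y := by
  show (chartMap hf (M.affine_base F') _ _ A.C).left.appTop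
    ((chartMap (M.affine_base F') (M.affine_base F) _ _ A.C).left.appTop y) = _
  rw [← appTop_comp_apply, chartMap_comp hf (M.affine_base F') (M.affine_base F) (M.toP F')
    (M.toP_base F') (M.res h) (prodRes_base M.T M.ν h) (M.toP F) (M.toP_base F) (M.toP_res h)]
  rfl

theorem mem_range_φ (F : Finset (sections hf A.C)) {z : sections hf A.C} (hz : z ∈ F) :
    z ∈ Set.range (M.φ F) := by
  obtain ⟨y, hy⟩ := M.hit z
  refine ⟨(chartMap (M.affine_base F) (M.aff z) (prodProj M.T M.ν F z hz)
    (prodProj_comp M.T M.ν F z hz) A.C).left.appTop y, ?_⟩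
  show (chartMap hf (M.affine_base F) _ _ A.C).left.appTop _ = z
  rw [← appTop_comp_apply, chartMap_comp hf (M.affine_base F) (M.aff z) (M.toP F)
    (M.toP_base F) (prodProj M.T M.ν F z hz) (prodProj_comp M.T M.ν F z hz) (M.h z) (M.hm z)
    (prodLift_proj M.T M.ν F _ _ _ z hz)]
  exact hy

theorem finiteType_R (F : Finset (sections hf A.C)) : Algebra.FiniteType (fns A.C) (M.R F) :=
  finiteType_sections (M.affine_base F) (repWith_mono EnvKind.le (M.kind_base F)) A.C

/-- The equations of the given space in a product. -/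
abbrev ker (F : Finset (sections hf A.C)) : QSub (M.affine_base F) :=
  kerHom hf (M.affine_base F) (M.toP F) (M.toP_base F)

theorem mem_ker_iff (F : Finset (sections hf A.C)) (y : M.R F) :
    y ∈ (M.ker F).M A.C ↔ M.φ F y = 0 := Iff.rfl

/-- The finitely many equations making the stages agree with the given space near the points where
the functions are invertible. -/
structure Equations {n : ℕ} (b : Fin n → fns A.C) : Type u where
  F₀ : Finset (sections hf A.C)
  surj : ∀ F, F₀ ⊆ F → ∀ r x, ∃ (k : ℕ) (y : M.R F), M.φ F y = algebraMap _ _ (b r) ^ k * x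
  t : ∀ F, F₀ ⊆ F → Finset (M.R F)
  ht : ∀ F hF, ∀ y ∈ t F hF, M.φ F y = 0
  inj : ∀ F hF r y, M.φ F y = 0 →
    ∃ k : ℕ, algebraMap (fns A.C) (M.R F) (b r) ^ k * y ∈ Ideal.span (t F hF : Set (M.R F))

theorem exists_equations {n : ℕ} (b : Fin n → fns A.C)
    (hb : ∀ r, (((proj hf A.C).left ⁻¹ᵁ A.C.Z.left.basicOpen (b r)).ι ≫
      (proj hf A.C).left).appTop.hom.FinitePresentation) :
    Nonempty (M.Equations b) := by
  classical
  have H : ∀ r, ∃ s : Finset (sections hf A.C), ∀ (R : Type u) [CommRing R] [Algebra (fns A.C) R]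
      [Algebra.FiniteType (fns A.C) R] (h : R →ₐ[fns A.C] sections hf A.C),
      (↑s : Set (sections hf A.C)) ⊆ Set.range h →
      (∀ x, ∃ k : ℕ, algebraMap (fns A.C) (sections hf A.C) (b r) ^ k * x ∈ Set.range h) ∧
        ∃ t : Finset R, (∀ y ∈ t, h y = 0) ∧
          ∀ y, h y = 0 → ∃ k : ℕ, algebraMap (fns A.C) R (b r) ^ k * y ∈ Ideal.span (t : Set R) := by
    intro r
    let N := (tot hf A.C).left
    let D : N.Opens := (proj hf A.C).left ⁻¹ᵁ A.C.Z.left.basicOpen (b r)
    have hD : D = N.basicOpen (algebraMap (fns A.C) (sections hf A.C) (b r)) :=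
      Scheme.preimage_basicOpen_top _ _
    let _ : Algebra (sections hf A.C) Γ(N, D) :=
      (N.presheaf.map (homOfLE (le_top : D ≤ ⊤)).op).hom.toAlgebra
    let _ : Algebra (fns A.C) Γ(N, D) :=
      ((algebraMap (sections hf A.C) Γ(N, D)).comp
        (algebraMap (fns A.C) (sections hf A.C))).toAlgebra
    have : IsScalarTower (fns A.C) (sections hf A.C) Γ(N, D) :=
      IsScalarTower.of_algebraMap_eq fun _ => rfl
    have : IsLocalization.Away (algebraMap (fns A.C) (sections hf A.C) (b r)) Γ(N, D) :=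
      (isAffineOpen_top N).isLocalization_of_eq_basicOpen _ (homOfLE le_top) hD
    have : Algebra.FinitePresentation (fns A.C) Γ(N, D) := by
      have e : (algebraMap (fns A.C) Γ(N, D)) =
          D.topIso.hom.hom.comp (D.ι ≫ (proj hf A.C).left).appTop.hom := by
        ext x
        show N.presheaf.map _ ((proj hf A.C).left.appTop x) =
          D.topIso.hom ((D.ι ≫ (proj hf A.C).left).appTop x)
        rw [Scheme.Hom.comp_appTop, Scheme.Opens.topIso_hom]
        show _ = N.presheaf.map _ (D.ι.appTop ((proj hf A.C).left.appTop x))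
        rw [Scheme.Opens.ι_appTop]
        exact ConcreteCategory.congr_hom (N.presheaf.map_comp _ _) ((proj hf A.C).left.appTop x)
      rw [← RingHom.finitePresentation_algebraMap, e]
      exact RingHom.FinitePresentation.comp
        (RingHom.FinitePresentation.of_bijective (ConcreteCategory.bijective_of_isIso D.topIso.hom))
        (hb r)
    exact exists_loc_equations (L := Γ(N, D)) (b r)
  choose s hs using H
  let F₀ := Finset.univ.biUnion s
  have hsF : ∀ F, F₀ ⊆ F → ∀ r, (↑(s r) : Set (sections hf A.C)) ⊆ Set.range (M.φ F) :=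
    fun F hF r z hz => M.mem_range_φ F (hF (Finset.mem_biUnion.2 ⟨r, Finset.mem_univ r, hz⟩))
  have H' : ∀ F (hF : F₀ ⊆ F) r,
      (∀ x, ∃ k : ℕ, algebraMap (fns A.C) (sections hf A.C) (b r) ^ k * x ∈ Set.range (M.φ F)) ∧
        ∃ t : Finset (M.R F), (∀ y ∈ t, M.φ F y = 0) ∧ ∀ y, M.φ F y = 0 →
          ∃ k : ℕ, algebraMap (fns A.C) (M.R F) (b r) ^ k * y ∈ Ideal.span (t : Set (M.R F)) :=
    fun F hF r => by
      have := M.finiteType_R F
      exact hs r (M.R F) (M.φ F) (hsF F hF r)
  choose hsurj t ht hinj using H'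
  refine ⟨⟨F₀, fun F hF r x => ?_, fun F hF => Finset.univ.biUnion (t F hF), fun F hF y hy => ?_,
    fun F hF r y hy => ?_⟩⟩
  · obtain ⟨k, y, hy⟩ := hsurj F hF r x
    exact ⟨k, y, hy⟩
  · obtain ⟨r, -, hr⟩ := Finset.mem_biUnion.1 hy
    exact ht F hF r y hr
  · obtain ⟨k, hk⟩ := hinj F hF r y hy
    refine ⟨k, Ideal.span_mono ?_ hk⟩
    intro x hx
    exact Finset.mem_biUnion.2 ⟨r, Finset.mem_univ r, hx⟩

end Models

end

end Groth.AlgSp2.Approx
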