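import Groth.Agent.AlgSp2.Approx.Atlas
import Groth.Agent.AlgSp3.ClosedSub
import Groth.Agent.BlowUpBasics.IdealComap
import Groth.Agent.Flatmor4.ThickFT
import Groth.Agent.AlgSpBasic.LocP
import Groth.Agent.AlgSpBasic.ImmersionDescent

/-!
# Closed subspaces of affine morphisms and their ideals over charts
-/

set_option autoImplicit false
set_option linter.unusedSectionVars false
set_option backward.isDefEq.respectTransparency.types false
universe u

open CategoryTheory CategoryTheory.Limits AlgebraicGeometry Opposite AlgSp

namespace Groth.AlgSp2.Approx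

open Groth.AlgSpBasic Groth.AlgSp2.QcAffine Groth.AlgSp3

noncomputable section

variable {S : Scheme.{u}} {Y N X : Sp S} {ν : N ⟶ Y} (hν : IsAffineMor ν) {h : X ⟶ N}
  (hh : RepWith @IsClosedImmersion h)

/-- The inverse image of a closed subspace on the inverse image of a chart. -/
def closedTot (C : Chart Y) : Over S := (hh.rep (toN hν C)).choose

/-- The inclusion into the inverse image of the chart. -/
def closedIncl (C : Chart Y) : closedTot hν hh C ⟶ tot hν C :=
  (hh.rep (toN hν C)).choose_spec.choose

/-- The map to the closed subspace. -/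
def closedToX (C : Chart Y) : (yon S).obj (closedTot hν hh C) ⟶ X :=
  (hh.rep (toN hν C)).choose_spec.choose_spec.choose

theorem isPullback_closedIncl (C : Chart Y) :
    IsPullback (closedToX hν hh C) ((yon S).map (closedIncl hν hh C)) h (toN hν C) :=
  (hh.rep (toN hν C)).choose_spec.choose_spec.choose_spec

instance (C : Chart Y) : IsClosedImmersion (closedIncl hν hh C).left :=
  hh.property _ _ _ (isPullback_closedIncl hν hh C)

/-- The ideal sheaf of a closed subspace on the inverse image of a chart. -/
def idealAt (C : Chart Y) : (tot hν C).left.IdealSheafData := (closedIncl hν hh C).left.ker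

theorem isInvIdeal_idealAt (C : Chart Y) : IsInvIdeal (toN hν C) (idealAt hν hh C) :=
  isInvIdeal_ker hh (isPullback_closedIncl hν hh C)

theorem idealAt_eq_comap {C' C : Chart Y} (d : CHom C' C) :
    idealAt hν hh C' = (idealAt hν hh C).comap (totMap hν d).left := by
  have e : toN hν C' = (yon S).map (totMap hν d) ≫ toN hν C := (totMap_toN hν d).symm
  obtain ⟨l, hl⟩ := (yon S).map_surjective ((isPullback_closedIncl hν hh C).lift
    (closedToX hν hh C') ((yon S).map (closedIncl hν hh C' ≫ totMap hν d))
    (by rw [(isPullback_closedIncl hν hh C').w, e, Functor.map_comp, Category.assoc]))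
  have hl₂ : l ≫ closedIncl hν hh C = closedIncl hν hh C' ≫ totMap hν d := (yon S).map_injective (by
    rw [Functor.map_comp, hl, IsPullback.lift_snd])
  have sq : IsPullback ((yon S).map l) ((yon S).map (closedIncl hν hh C'))
      ((yon S).map (closedIncl hν hh C)) ((yon S).map (totMap hν d)) := by
    refine IsPullback.of_right ?_ (by rw [← Functor.map_comp, ← Functor.map_comp, hl₂])
      (isPullback_closedIncl hν hh C)
    rw [hl, IsPullback.lift_fst, ← e]
    exact isPullback_closedIncl hν hh C'
  rw [idealAt, idealAt,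
    ← Scheme.IdealSheafData.ker_fst_of_isClosedImmersion (closedIncl hν hh C).left
      (totMap hν d).left, ← (isPullback_left (isPullback_of_yon sq)).flip.isoPullback_hom_fst,
    Scheme.Hom.ker_comp_of_isIso]

/-- The ideal of a closed subspace in the sections over a chart. -/
def secIdeal (C : Chart Y) : Ideal (sections hν C) :=
  (idealAt hν hh C).ideal ⟨⊤, isAffineOpen_top _⟩

theorem secIdeal_eq_map {C' C : Chart Y} (d : CHom C' C) :
    secIdeal hν hh C' = (secIdeal hν hh C).map (mapM hν d) := by
  rw [secIdeal, idealAt_eq_comap hν hh d]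
  exact Groth.BlowUpBasics.ideal_comap_top _ _

theorem mem_secIdeal_iff (C : Chart Y) (z : sections hν C) :
    z ∈ secIdeal hν hh C ↔ (closedIncl hν hh C).left.appTop z = 0 := by
  rw [secIdeal, idealAt, Scheme.Hom.ker_apply]
  exact RingHom.mem_ker

theorem idealAt_eq_ofIdealTop (C : Chart Y) :
    idealAt hν hh C = Scheme.IdealSheafData.ofIdealTop (secIdeal hν hh C) :=
  Scheme.IdealSheafData.ext_of_isAffine (by simp [secIdeal])

/-- Pushing forward an ideal gives the extended ideal. -/
theorem push_restrictScalars {C' C : Chart Y} (d : CHom C' C) (I : Ideal (sections hν C)) :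
    push hν d (I.restrictScalars (fns C)) = (I.map (mapM hν d)).restrictScalars (fns C') := by
  refine le_antisymm ((push_le_iff hν d).2 fun m hm => Ideal.mem_map_of_mem _ hm) fun x hx => ?_
  change x ∈ Ideal.span _ at hx
  induction hx using Submodule.span_induction with
  | mem x hx =>
    obtain ⟨y, hy, rfl⟩ := hx
    exact mem_push hν d hy
  | zero => exact Submodule.zero_mem _
  | add x y _ _ hx hy => exact Submodule.add_mem _ hx hy
  | smul b x _ hx => exact key b x hx
where
  key (b : sections hν C') (x : sections hν C') (hx : x ∈ push hν d (I.restrictScalars (fns C))) :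
      b * x ∈ push hν d (I.restrictScalars (fns C)) := by
    obtain ⟨G, -, hG⟩ := exists_le_push hν d (Submodule.fg_span_singleton b)
    have hb : b ∈ push hν d ⊤ := push_mono hν d le_top (hG (Submodule.mem_span_singleton_self b))
    clear hG G
    induction hx using Submodule.span_induction with
    | mem z hz =>
      obtain ⟨n, hn, rfl⟩ := hz
      induction hb using Submodule.span_induction with
      | mem y hy =>
        obtain ⟨m, -, rfl⟩ := hy
        rw [← map_mul]
        exact mem_push hν d (I.mul_mem_left m hn)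
      | zero => rw [zero_mul]; exact Submodule.zero_mem _
      | add y w _ _ hy hw => rw [add_mul]; exact Submodule.add_mem _ hy hw
      | smul r y _ hy => rw [smul_mul_assoc]; exact Submodule.smul_mem _ _ hy
    | zero => rw [mul_zero]; exact Submodule.zero_mem _
    | add z w _ _ hz hw => rw [mul_add]; exact Submodule.add_mem _ hz hw
    | smul r z _ hz => rw [mul_smul_comm]; exact Submodule.smul_mem _ _ hz

/-- The sections vanishing on a closed subspace. -/
def kerSub : QSub hν where
  M C := (secIdeal hν hh C).restrictScalars (fns C)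
  le d := by rw [push_restrictScalars, ← secIdeal_eq_map]
  eq d _ := by rw [push_restrictScalars, ← secIdeal_eq_map]

theorem mem_kerSub_iff (C : Chart Y) (z : sections hν C) :
    z ∈ (kerSub hν hh).M C ↔ (closedIncl hν hh C).left.appTop z = 0 :=
  mem_secIdeal_iff hν hh C z

/-- A smaller closed subspace has a bigger ideal. -/
theorem kerSub_le {Z : Sp S} {i : Z ⟶ N} (hi : RepWith @IsClosedImmersion i) {g : X ⟶ Z}
    (hg : g ≫ i = h) (C : Chart Y) : (kerSub hν hi).M C ≤ (kerSub hν hh).M C := by
  obtain ⟨l, hl⟩ := (yon S).map_surjective ((isPullback_closedIncl hν hi C).lift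
    (closedToX hν hh C ≫ g) ((yon S).map (closedIncl hν hh C))
    (by rw [Category.assoc, hg, (isPullback_closedIncl hν hh C).w]))
  have hl₂ : l ≫ closedIncl hν hi C = closedIncl hν hh C := (yon S).map_injective (by
    rw [Functor.map_comp, hl, IsPullback.lift_snd])
  intro z hz
  rw [mem_kerSub_iff] at hz ⊢
  rw [← hl₂, Over.comp_left, Scheme.Hom.comp_appTop]
  exact (congrArg l.left.appTop.hom hz).trans (map_zero _)

theorem comap_span_eq_of_stable (U E : Chart Y) {G : Submodule (fns U) (sections hν U)}
    (hst : StableOn hν U Set.univ G) (x₁ x₂ : E.Z ⟶ tot hν U)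
    (hE : (yon S).map x₁ ≫ toN hν U ≫ ν = E.b)
    (e' : (yon S).map x₂ ≫ toN hν U = (yon S).map x₁ ≫ toN hν U) :
    (Scheme.IdealSheafData.ofIdealTop (Ideal.span (G : Set (sections hν U)))).comap x₁.left =
      (Scheme.IdealSheafData.ofIdealTop (Ideal.span (G : Set (sections hν U)))).comap x₂.left := by
  let c₁ : CHom E U := ⟨x₁ ≫ proj hν U, by
    rw [← hE]
    rw [Functor.map_comp, Category.assoc, (isPullback_tot hν U).w]⟩
  let c₂ : CHom E U := ⟨x₂ ≫ proj hν U, by
    rw [← hE]
    rw [Functor.map_comp, Category.assoc, ← (isPullback_tot hν U).w, ← Category.assoc,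
      ← Category.assoc, e']⟩
  obtain ⟨σ, hσ⟩ := (yon S).map_surjective ((isPullback_tot hν E).lift
    ((yon S).map x₁ ≫ toN hν U) (𝟙 _) (by
      rw [Category.assoc, Category.id_comp, hE]))
  have hσ₁ : (yon S).map σ ≫ toN hν E = (yon S).map x₁ ≫ toN hν U := by
    rw [hσ, IsPullback.lift_fst]
  have hσ₂ : σ ≫ proj hν E = 𝟙 _ := (yon S).map_injective (by
    rw [Functor.map_comp, hσ, IsPullback.lift_snd, CategoryTheory.Functor.map_id])
  have fac : ∀ (x : E.Z ⟶ tot hν U) (c : CHom E U),
      (yon S).map x ≫ toN hν U = (yon S).map x₁ ≫ toN hν U → x ≫ proj hν U = c.f →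
      x = σ ≫ totMap hν c := by
    intro x c hx₁ hx₂
    apply (yon S).map_injective
    apply (isPullback_tot hν U).hom_ext
    · rw [Functor.map_comp, Category.assoc, totMap_toN, hσ₁, hx₁]
    · rw [← Functor.map_comp, ← Functor.map_comp, Category.assoc, totMap_proj, reassoc_of% hσ₂, hx₂]
  have hmap : (Ideal.span (G : Set (sections hν U))).map (mapM hν c₁) =
      (Ideal.span (G : Set (sections hν U))).map (mapM hν c₂) := by
    have le : ∀ c c' : CHom E U, (Ideal.span (G : Set (sections hν U))).map (mapM hν c) ≤
        (Ideal.span (G : Set (sections hν U))).map (mapM hν c') := by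
      intro c c'
      rw [Ideal.map_span, Ideal.span_le]
      rintro _ ⟨m, hm, rfl⟩
      have hmem : mapM hν c m ∈ push hν c' G :=
        (hst E (fun _ => trivial) c c') ▸ mem_push hν c hm
      have key : ∀ w ∈ push hν c' G,
          w ∈ (Ideal.span (G : Set (sections hν U))).map (mapM hν c') := by
        intro w hw
        induction hw using Submodule.span_induction with
        | mem y hy =>
          obtain ⟨n, hn, rfl⟩ := hy
          exact Ideal.mem_map_of_mem _ (Ideal.subset_span hn)
        | zero => exact Submodule.zero_mem _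
        | add y z _ _ hy hz => exact Submodule.add_mem _ hy hz
        | smul r y _ hy => rw [Algebra.smul_def]; exact Ideal.mul_mem_left _ _ hy
      exact key _ hmem
    exact le_antisymm (le c₁ c₂) (le c₂ c₁)
  have hJ : (Scheme.IdealSheafData.ofIdealTop (Ideal.span (G : Set (sections hν U)))).comap
      (totMap hν c₁).left = (Scheme.IdealSheafData.ofIdealTop
        (Ideal.span (G : Set (sections hν U)))).comap (totMap hν c₂).left := by
    apply Scheme.IdealSheafData.ext_of_isAffine
    rw [Groth.BlowUpBasics.ideal_comap_top, Groth.BlowUpBasics.ideal_comap_top]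
    simpa [mapM] using hmap
  rw [show x₁ = σ ≫ totMap hν c₁ from fac _ c₁ rfl rfl,
    show x₂ = σ ≫ totMap hν c₂ from fac _ c₂ e' rfl, Over.comp_left, Over.comp_left,
    Scheme.IdealSheafData.comap_comp, Scheme.IdealSheafData.comap_comp, hJ]

/-- The ideal generated by a stable submodule is invariant. -/
theorem isInvIdeal_span (U : Chart Y) {G : Submodule (fns U) (sections hν U)}
    (hst : StableOn hν U Set.univ G) :
    IsInvIdeal (toN hν U) (Scheme.IdealSheafData.ofIdealTop (Ideal.span (G : Set (sections hν U)))) := by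
  intro T a b e
  -- both sides agree on the affine opens of the test scheme
  refine Scheme.IdealSheafData.ext (funext fun V => ?_)
  have : IsAffine V.1.toScheme := V.2
  let t : Over.mk (V.1.ι ≫ T.hom) ⟶ T := Over.homMk V.1.ι
  suffices key : ((Scheme.IdealSheafData.ofIdealTop (Ideal.span (G : Set (sections hν U)))).comap
      (t ≫ a).left) = (Scheme.IdealSheafData.ofIdealTop (Ideal.span (G : Set (sections hν U)))).comap
      (t ≫ b).left by
    rw [Over.comp_left, Over.comp_left, Scheme.IdealSheafData.comap_comp,
      Scheme.IdealSheafData.comap_comp] at key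
    rw [← Groth.BlowUpBasics.ideal_comap_opensι _ V (isAffineOpen_top _),
      ← Groth.BlowUpBasics.ideal_comap_opensι (Scheme.IdealSheafData.comap _ b.left) V
        (isAffineOpen_top _)]
    exact congrArg (fun J => Ideal.map V.1.topIso.hom.hom
      (Scheme.IdealSheafData.ideal J ⟨⊤, isAffineOpen_top _⟩)) key
  exact comap_span_eq_of_stable hν U
    ⟨Over.mk (V.1.ι ≫ T.hom), ‹IsAffine V.1.toScheme›, (yon S).map (t ≫ a) ≫ toN hν U ≫ ν⟩ hst
    (t ≫ a) (t ≫ b) rfl (by
      simp only [Functor.map_comp, Category.assoc, e])

/-- A stable finitely generated submodule cuts out a finitely presented closed subspace. -/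
theorem exists_closedSub_of_stable (hN : IsAlgSpace N) (A : Atlas Y)
    {G : Submodule (fns A.C) (sections hν A.C)} (hG : G.FG) (hst : StableOn hν A.C Set.univ G) :
    ∃ (Z : Sp S) (i : Z ⟶ N) (hi : RepWith @IsClosedImmersion i), IsAlgSpace Z ∧
      LocP @LocallyOfFinitePresentation i ∧
      secIdeal hν hi A.C = Ideal.span (G : Set (sections hν A.C)) := by
  have hp : RepWith @Etale (toN hν A.C) := repWith_of_isPullback (isPullback_tot hν A.C).flip A.etale
  have hps : RepWith @Surjective (toN hν A.C) :=
    repWith_of_isPullback (isPullback_tot hν A.C).flip A.surj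
  obtain ⟨Z, i, fst, hZ, hi, sq⟩ := exists_closedSub hN hp hps (isInvIdeal_span hν A.C hst)
  refine ⟨Z, i, hi, hZ, ?_, ?_⟩
  · refine locP_of_target_cover hZ hN hp hps sq (locP_of_repWith ((repWith_yon_map_iff _ _).2 ?_))
    have : IsClosedImmersion (Scheme.IdealSheafData.ofIdealTop
        (Ideal.span (G : Set (sections hν A.C)))).subschemeι := inferInstance
    show LocallyOfFinitePresentation (Scheme.IdealSheafData.ofIdealTop
      (Ideal.span (G : Set (sections hν A.C)))).subschemeι
    refine Groth.Flatmor4.lfp_of_ker_fg _ fun V => ?_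
    show (Scheme.Hom.ker (Scheme.IdealSheafData.subschemeι _) |>.ideal V).FG
    rw [Scheme.IdealSheafData.ker_subschemeι, Scheme.IdealSheafData.ofIdealTop_ideal]
    obtain ⟨s, rfl⟩ := hG
    exact Ideal.FG.map ⟨s, le_antisymm (Ideal.span_mono Submodule.subset_span)
      (Ideal.span_le.2 (Submodule.span_le_restrictScalars (fns A.C) (sections hν A.C) _))⟩ _
  · have hk : idealAt hν hi A.C =
        Scheme.IdealSheafData.ofIdealTop (Ideal.span (G : Set (sections hν A.C))) := by
      obtain ⟨k, hk, -⟩ : ∃ k : closedTot hν hi A.C ≅ _, k.hom ≫ _ = closedIncl hν hi A.C ∧ True :=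
        ⟨(yon S).preimageIso ((isPullback_closedIncl hν hi A.C).isoIsPullback _ _ sq),
          (yon S).map_injective (by
            rw [Functor.map_comp, Functor.preimageIso_hom, Functor.map_preimage,
              IsPullback.isoIsPullback_hom_snd]), trivial⟩
      have : IsIso k.hom.left := inferInstanceAs (IsIso ((Over.forget S).map k.hom))
      rw [idealAt, ← hk, Over.comp_left, Scheme.Hom.ker_comp_of_isIso]
      exact Scheme.IdealSheafData.ker_subschemeι _
    rw [secIdeal, hk]
    simp

/-- A closed subspace lies in a finitely presented one on which finitely many given sections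
vanishing on it still vanish. -/
theorem exists_closedFP (hN : IsAlgSpace N) (hY : IsAlgSpace Y) (A : Atlas Y)
    {κ : Type*} [Finite κ] (E : κ → Chart Y) (z : ∀ k, sections hν (E k))
    (hz : ∀ k, z k ∈ (kerSub hν hh).M (E k)) :
    ∃ (Z : Sp S) (i : Z ⟶ N) (hi : RepWith @IsClosedImmersion i) (g : X ⟶ Z), IsAlgSpace Z ∧
      LocP @LocallyOfFinitePresentation i ∧ g ≫ i = h ∧ RepWith @IsClosedImmersion g ∧
      ∀ k, z k ∈ (kerSub hν hi).M (E k) := by
  classical
  have := Fintype.ofFinite κ
  choose n F e c he hcov using fun k => A.exists_cover hY (E k)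
  obtain ⟨G₀, hG₀, hG₀M, hG₀z⟩ := exists_le_push_family_sub hν (kerSub hν hh)
    (fun x : Σ k, Fin (n k) => c x.1 x.2) (fun x => by
      show (secIdeal hν hh _).restrictScalars _ ≤ _
      rw [secIdeal_eq_map hν hh (c x.1 x.2), ← push_restrictScalars]
      exact le_rfl)
    (H := fun x => Submodule.span _ {mapM hν (e x.1 x.2) (z x.1)})
    (fun x => Submodule.fg_span_singleton _) fun x => by
      rw [Submodule.span_le, Set.singleton_subset_iff]
      exact (kerSub hν hh).le (e x.1 x.2) (mem_push hν _ (hz x.1))
  obtain ⟨G, hG, hle, hGM, hst⟩ := A.exists_stable hν hY (kerSub hν hh) G₀ hG₀ hG₀M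
  obtain ⟨Z, i, hi, hZ, hfp, hI⟩ := exists_closedSub_of_stable hν hN A hG hst
  have hp : RepWith @Etale (toN hν A.C) := repWith_of_isPullback (isPullback_tot hν A.C).flip A.etale
  have hps : RepWith @Surjective (toN hν A.C) :=
    repWith_of_isPullback (isPullback_tot hν A.C).flip A.surj
  obtain ⟨g, hg⟩ := (exists_lift_closed_iff_le hp hps hi (isPullback_closedIncl hν hi A.C)
    (isPullback_closedIncl hν hh A.C)).2 (by
      show idealAt hν hi A.C ≤ idealAt hν hh A.C
      refine Scheme.IdealSheafData.le_of_isAffine ?_
      show secIdeal hν hi A.C ≤ secIdeal hν hh A.C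
      rw [hI, Ideal.span_le]
      exact hGM)
  have : Mono i := mono_of_repWith (fun _ _ g (_ : IsClosedImmersion g) => inferInstance) hi
  refine ⟨Z, i, hi, g, hZ, hfp, hg,
    repWith_of_isPullback (isPullback_of_mono_comp hg) hh, fun k => ?_⟩
  have hkey : ∀ j, mapM hν (e k j) (z k) ∈ (kerSub hν hi).M (F k j) := fun j => by
    refine (kerSub hν hi).le (c k j) (push_mono hν _ (hle.trans ?_)
      (hG₀z ⟨k, j⟩ (Submodule.mem_span_singleton_self _)))
    intro m hm
    show m ∈ secIdeal hν hi A.C
    rw [hI]
    exact Ideal.subset_span hm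
  refine le_of_local hν (e k) (fun j => by have := he k j; infer_instance) (hcov k)
    (H := Submodule.span _ {z k}) (fun j => ?_) (Submodule.mem_span_singleton_self _)
  rw [(kerSub hν hi).eq (e k j) (by have := he k j; infer_instance), push_le_iff]
  intro m hm
  obtain ⟨r, rfl⟩ := Submodule.mem_span_singleton.1 hm
  rw [mapM_smul]
  exact Submodule.smul_mem _ _ (hkey j)

end

end Groth.AlgSp2.Approx
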