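import Groth.Agent.AlgSp2.Approx.SchemeStage
import Groth.Agent.AlgSpCartier.ClosedSub
import Groth.Agent.AlgSp2.Approx.ClosedLimit

/-!
# Minimal closed subspaces which are not schemes
-/

set_option autoImplicit false
set_option linter.unusedSectionVars false
set_option backward.isDefEq.respectTransparency.types false
universe u

open CategoryTheory CategoryTheory.Limits AlgebraicGeometry Opposite AlgSp

namespace Groth.AlgSp2.Approx

open Groth.AlgSpBasic Groth.AlgSpCartier

noncomputable section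

variable {S : Scheme.{u}} {X : Sp S} {V : Over S} {φ : (yon S).obj V ⟶ X}
variable (hX : IsAlgSpace X) (hφ : RepWith @Etale φ) (hφs : RepWith @Surjective φ)

include hX hφ hφs in
/-- Closed subspaces cut out by invariant ideals intersect along the supremum of the ideals. -/
theorem isRepresentable_of_sSup [QuasiSeparatedSpace ↥S] (hqc : IsQuasiCompactSp X)
    (hqs : IsQuasiSeparatedSp X) (c : Set V.left.IdealSheafData) (hne : c.Nonempty)
    (hch : IsChain (· ≤ ·) c) (hinv : ∀ I ∈ c, IsInvariant φ I)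
    (Z : V.left.IdealSheafData → Sp S) (i : ∀ I, Z I ⟶ X)
    (fst : ∀ I, (yon S).obj (subOver V I) ⟶ Z I)
    (h : ∀ I, IsInvariant φ I → IsAlgSpace (Z I) ∧ RepWith @IsClosedImmersion (i I) ∧
      IsPullback (fst I) ((yon S).map (incl V I)) (i I) φ)
    (hrep : (Z (sSup c)).obj.IsRepresentable) : ∃ I ∈ c, (Z I).obj.IsRepresentable := by
  classical
  have hM : IsInvariant φ (sSup c) := isInvariant_sSup c hinv
  have hmono : ∀ I, IsInvariant φ I → Mono (i I) := fun I hI =>
    repWith_mono_closedImmersion (h I hI).2.1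
  have hlift : ∀ I J, IsInvariant φ I → IsInvariant φ J → I ≤ J → ∃ k : Z J ⟶ Z I, k ≫ i I = i J := by
    intro I J hI hJ hle
    obtain ⟨he, hs⟩ := chart_of_isPullback hφ hφs (h J hJ).2.2
    have := isLocallySurjective_of_etale (fst J) he hs
    exact (exists_lift_iff_le_ker (h I hI).2.1 (h I hI).2.2 (h J hJ).2.2.w).2
      (hle.trans (Scheme.IdealSheafData.ker_subschemeι J).ge)
  choose k hk using hlift
  have hdir : IsDirected c (· ≤ ·) := ⟨fun a b => by
    rcases hch.total a.2 b.2 with hab | hab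
    · exact ⟨b, hab, le_rfl⟩
    · exact ⟨a, le_rfl, hab⟩⟩
  have : Nonempty c := hne.to_subtype
  let D : cᵒᵖ ⥤ Sp S :=
    { obj := fun I => Z I.unop.1
      map := fun {I J} m => k J.unop.1 I.unop.1 (hinv _ J.unop.2) (hinv _ I.unop.2) m.unop.le
      map_id := fun I => by
        have := hmono _ (hinv _ I.unop.2)
        exact (cancel_mono (i I.unop.1)).1 (by rw [hk, Category.id_comp])
      map_comp := fun {I₁ I₂ I₃} m m' => by
        have := hmono _ (hinv _ I₃.unop.2)
        exact (cancel_mono (i I₃.unop.1)).1 (by rw [hk, Category.assoc, hk, hk]) }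
  let g : ∀ I : c, Z (sSup c) ⟶ Z I.1 := fun I => k I.1 (sSup c) (hinv _ I.2) hM (le_sSup I.2)
  let π : (Functor.const cᵒᵖ).obj (Z (sSup c)) ⟶ D :=
    { app := fun I => g I.unop
      naturality := fun I J m => by
        have := hmono _ (hinv _ J.unop.2)
        show 𝟙 _ ≫ g J.unop = g I.unop ≫ k _ _ _ _ _
        rw [← cancel_mono (i J.unop.1), Category.id_comp, hk, Category.assoc, hk, hk] }
  obtain ⟨I₀⟩ := (inferInstance : Nonempty c)
  have hclM := (h _ hM).2.1
  have := hmono _ hM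
  have hconst : ∀ (s : Cone D) (I : c), s.π.app (op I) ≫ i I.1 = s.π.app (op I₀) ≫ i I₀.1 := by
    intro s I
    obtain ⟨J, h₁, h₂⟩ := hdir.directed I I₀
    have e : ∀ K : c, K ≤ J → s.π.app (op K) ≫ i K.1 = s.π.app (op J) ≫ i J.1 := by
      intro K hle
      rw [← s.w (homOfLE hle).op, Category.assoc]
      exact congrArg (_ ≫ ·) (hk K.1 J.1 (hinv _ K.2) (hinv _ J.2) hle)
    exact (e I h₁).trans (e I₀ h₂).symm
  have hl : ∀ s : Cone D, ∃ l : s.pt ⟶ Z (sSup c), l ≫ i (sSup c) = s.π.app (op I₀) ≫ i I₀.1 := by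
    intro s
    refine exists_lift_of_forall_yon _ _ fun T z => ?_
    obtain ⟨W, w, α, sqW⟩ := hφ.rep (z ≫ s.π.app (op I₀) ≫ i I₀.1)
    obtain ⟨α, rfl⟩ := (yon S).map_surjective α
    have := isLocallySurjective_of_etale ((yon S).map w) (repWith_of_isPullback sqW hφ)
      (repWith_of_isPullback sqW hφs)
    refine (exists_lift_iff_le_ker hclM (h _ hM).2.2 sqW.w.symm).2 (sSup_le fun I hI => ?_)
    exact (exists_lift_iff_le_ker (h I (hinv I hI)).2.1 (h I (hinv I hI)).2.2 sqW.w.symm).1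
      ⟨z ≫ s.π.app (op ⟨I, hI⟩), by rw [Category.assoc, hconst s ⟨I, hI⟩]⟩
  choose l hl using hl
  have hlim : IsLimit (Cone.mk _ π) :=
    { lift := l
      fac := fun s I => by
        have := hmono _ (hinv _ I.unop.2)
        show l s ≫ g I.unop = _
        rw [← cancel_mono (i I.unop.1), Category.assoc, hk, hl]
        exact (hconst s I.unop).symm
      uniq := fun s m hm => by
        rw [← cancel_mono (i (sSup c)), hl, ← hk I₀.1 (sSup c) (hinv _ I₀.2) hM (le_sSup I₀.2),
          ← Category.assoc]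
        exact congrArg (· ≫ i I₀.1) (hm (op I₀)) }
  have haff : ∀ I, IsInvariant φ I → IsAffineMor (i I) := fun I hI => isAffineMor_iff_repWith.2
    (repWith_mono (fun _ _ k (_ : IsClosedImmersion k) => (inferInstance : IsAffineHom k)) (h I hI).2.1)
  obtain ⟨W, ⟨e⟩⟩ := hrep
  obtain ⟨I, hI⟩ := Groth.SpLimit.exists_scheme_of_limit (D := D) (fun I => (h _ (hinv _ I.unop.2)).1)
    (fun I J m => by
      have := hmono _ (hinv _ J.unop.2)
      exact isAffineMor_iff_repWith.2 (repWith_mono (P := @IsClosedImmersion)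
        (fun _ _ k (_ : IsClosedImmersion k) => (inferInstance : IsAffineHom k))
        (repWith_of_isPullback (isPullback_of_mono_comp (hk _ _ _ _ m.unop.le))
          (h _ (hinv _ I.unop.2)).2.1)))
    hlim
    (fun I => isQuasiCompactSp_of_affineMor (h _ (hinv _ I.unop.2)).1 (haff _ (hinv _ I.unop.2)) hX hqc)
    (fun I => isQuasiSeparatedSp_of_affineMor (h _ (hinv _ I.unop.2)).1 (haff _ (hinv _ I.unop.2)) hqs)
    (isoOfRepresentableBy e)
  exact ⟨I.unop.1, I.unop.2, hI⟩

include hX in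
/-- A qcqs space which is not a scheme contains a minimal closed subspace which is not a scheme. -/
theorem exists_minimal_nonscheme [QuasiSeparatedSpace ↥S] (hqc : IsQuasiCompactSp X)
    (hqs : IsQuasiSeparatedSp X) (hnr : ¬ X.obj.IsRepresentable) :
    ∃ (Z : Sp S) (i : Z ⟶ X), IsAlgSpace Z ∧ RepWith @IsClosedImmersion i ∧
      ¬ Z.obj.IsRepresentable ∧
      ∀ (Z' : Sp S) (i' : Z' ⟶ Z), RepWith @IsClosedImmersion i' → ¬ IsIso i' →
        Z'.obj.IsRepresentable := by
  classical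
  obtain ⟨V, φ, hφ, hφs⟩ := hX.atlas
  have H : ∀ I : V.left.IdealSheafData, ∃ (Z : Sp S) (i : Z ⟶ X)
      (fst : (yon S).obj (subOver V I) ⟶ Z), IsInvariant φ I →
        IsAlgSpace Z ∧ RepWith @IsClosedImmersion i ∧
          IsPullback fst ((yon S).map (incl V I)) i φ := fun I => by
    by_cases hI : IsInvariant φ I
    · obtain ⟨Z, i, fst, h⟩ := exists_closedSub_of_isInvariant hX hφ hφs hI
      exact ⟨Z, i, fst, fun _ => h⟩
    · exact ⟨X, 𝟙 X, (yon S).map (incl V I) ≫ φ, fun h => absurd h hI⟩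
  choose Z i fst h using H
  have hrepiso : ∀ {A B : Sp S}, (A ≅ B) → A.obj.IsRepresentable → B.obj.IsRepresentable :=
    fun {A B} e ⟨W, ⟨r⟩⟩ => (representableByOfIso (isoOfRepresentableBy r ≪≫ e)).isRepresentable
  let P : Set V.left.IdealSheafData := {I | IsInvariant φ I ∧ ¬ (Z I).obj.IsRepresentable}
  have hbot : IsInvariant φ (⊥ : V.left.IdealSheafData) := fun R t s _ => by
    rw [Scheme.IdealSheafData.comap_bot, Scheme.IdealSheafData.comap_bot]
  have hbP : ⊥ ∈ P := by
    refine ⟨hbot, fun hr => ?_⟩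
    have := isLocallySurjective_of_etale φ hφ hφs
    obtain ⟨k, hk⟩ := (exists_lift_iff_le_ker (h ⊥ hbot).2.1 (h ⊥ hbot).2.2
      (f := 𝟙 X) (a := φ) (b := 𝟙 V) (by simp)).2 bot_le
    have := repWith_mono_closedImmersion (h ⊥ hbot).2.1
    exact hnr (hrepiso ⟨i ⊥, k, (cancel_mono (i ⊥)).1 (by rw [Category.assoc, hk, Category.comp_id,
      Category.id_comp]), hk⟩ hr)
  obtain ⟨M, -, hM⟩ := zorn_le_nonempty₀ P (fun c hc hch y hy => by
    have hinv : ∀ I ∈ c, IsInvariant φ I := fun I hI => (hc hI).1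
    refine ⟨sSup c, ⟨isInvariant_sSup c hinv, fun hr => ?_⟩, fun z hz => le_sSup hz⟩
    obtain ⟨I, hI, hIr⟩ := isRepresentable_of_sSup hX hφ hφs hqc hqs c ⟨y, hy⟩ hch hinv Z i fst h hr
    exact (hc hI).2 hIr) ⊥ hbP
  obtain ⟨hZa, hMc, sqM⟩ := h M hM.1.1
  refine ⟨Z M, i M, hZa, hMc, hM.1.2, fun Z' i' hi' hni => ?_⟩
  by_contra hnr'
  obtain ⟨J, fJ, sqJ⟩ := exists_ideal (repWith_comp hi' hMc) φ
  have hJ : IsInvariant φ J := isInvariant_of_isPullback (repWith_comp hi' hMc) sqJ
  obtain ⟨he, hs⟩ := chart_of_isPullback hφ hφs sqJ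
  have := isLocallySurjective_of_etale fJ he hs
  obtain ⟨he', hs'⟩ := chart_of_isPullback hφ hφs (h J hJ).2.2
  have := isLocallySurjective_of_etale (fst J) he' hs'
  obtain ⟨k₁, hk₁⟩ := (exists_lift_iff_le_ker (h J hJ).2.1 (h J hJ).2.2 sqJ.w).2
    (Scheme.IdealSheafData.ker_subschemeι J).ge
  obtain ⟨k₂, hk₂⟩ := (exists_lift_iff_le_ker (repWith_comp hi' hMc) sqJ (h J hJ).2.2.w).2
    (Scheme.IdealSheafData.ker_subschemeι J).ge
  have := repWith_mono_closedImmersion (h J hJ).2.1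
  have := repWith_mono_closedImmersion (repWith_comp hi' hMc)
  have e : Z' ≅ Z J := ⟨k₁, k₂,
    (cancel_mono (i' ≫ i M)).1 (by rw [Category.assoc, hk₂, hk₁, Category.id_comp]),
    (cancel_mono (i J)).1 (by rw [Category.assoc, hk₁, hk₂, Category.id_comp])⟩
  have hMJ : M ≤ J := ((exists_lift_iff_le_ker hMc sqM sqJ.w).1 ⟨i', rfl⟩).trans
    (Scheme.IdealSheafData.ker_subschemeι J).le
  have hJM : J ≤ M := hM.2 ⟨hJ, fun hr => hnr' (hrepiso e.symm hr)⟩ hMJ
  obtain ⟨heM, hsM⟩ := chart_of_isPullback hφ hφs sqM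
  have := isLocallySurjective_of_etale (fst M) heM hsM
  obtain ⟨k, hk⟩ := (exists_lift_iff_le_ker (repWith_comp hi' hMc) sqJ sqM.w).2
    (hJM.trans (Scheme.IdealSheafData.ker_subschemeι M).ge)
  have := repWith_mono_closedImmersion hMc
  have := repWith_mono_closedImmersion hi'
  exact hni ⟨k, (cancel_mono (i' ≫ i M)).1 (by rw [Category.assoc, hk, Category.id_comp]),
    (cancel_mono (i M)).1 (by rw [Category.assoc, hk, Category.id_comp])⟩

end

end Groth.AlgSp2.Approx
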