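import Groth.Agent.AlgSp2.Approx.OpenKer
import Groth.Agent.AlgSp2.Approx.FiniteFP

/-!
# An open of a finite space that is finitely presented over the base is open in a finite, finitely
presented space
-/

set_option autoImplicit false
set_option linter.unusedSectionVars false
set_option backward.isDefEq.respectTransparency.types false
universe u

open CategoryTheory CategoryTheory.Limits AlgebraicGeometry Opposite AlgSp

namespace Groth.AlgSp2.Approx

open Groth.AlgSpBasic Groth.AlgSp2 Groth.AlgSp2.QcAffine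

noncomputable section

variable {S : Scheme.{u}} [QuasiSeparatedSpace ↥S] {X Y T₀ : Sp S}

theorem exists_openImm_fp (hX : IsAlgSpace X) (hY : IsAlgSpace Y) (hYqc : IsQuasiCompactSp Y)
    (hYqs : IsQuasiSeparatedSp Y) (hT₀ : IsAlgSpace T₀) {j : X ⟶ T₀} {π : T₀ ⟶ Y}
    (hjo : RepWith @IsOpenImmersion j) (hjq : IsQuasiCompactMor j) (hπ : IsFiniteMor π)
    (hfp : LocP @LocallyOfFinitePresentation (j ≫ π)) :
    ∃ (T : Sp S) (j' : X ⟶ T) (π' : T ⟶ Y), IsAlgSpace T ∧ j' ≫ π' = j ≫ π ∧
      RepWith @IsOpenImmersion j' ∧ IsQuasiCompactMor j' ∧ IsFiniteMor π' ∧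
      IsFinitePresentationMor π' := by
  classical
  obtain ⟨T₁, ν, h, hT₁, hν, hνfp, hh, hfac⟩ :=
    exists_envelope (affWith_isFinite_iff.2 hπ) hY hYqc hYqs
  obtain ⟨A⟩ := exists_atlas hY hYqc hYqs
  have hνa : IsAffineMor ν := affWith_isAffineHom_iff.1
    (affWith_mono (Q := @IsFinite) (Q' := @IsAffineHom) (fun _ _ k (_ : IsFinite k) => inferInstance) hν)
  have hνr : RepWith @IsFinite ν := (isFiniteMor_iff hT₁ hY).1 (affWith_isFinite_iff.1 hν)
  let incl := closedIncl hνa hh A.C
  obtain ⟨XU, xi, xf, sqJ⟩ : ∃ (XU : Over S) (xi : XU ⟶ closedTot hνa hh A.C)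
      (xf : (yon S).obj XU ⟶ X), IsPullback xf ((yon S).map xi) j (closedToX hνa hh A.C) := by
    obtain ⟨XU, b, i, sq⟩ := hjo.rep (closedToX hνa hh A.C)
    exact ⟨XU, b, i, sq⟩
  have : IsOpenImmersion xi.left := hjo.property _ _ _ sqJ
  have : QuasiCompact xi.left := (repWith_of_isQuasiCompactMor hjo.rep hjq).property _ _ _ sqJ
  have : IsFinite (proj hνa A.C).left := hνr.property _ _ _ (isPullback_tot hνa A.C)
  have : IsClosedImmersion incl.left := inferInstanceAs (IsClosedImmersion (closedIncl hνa hh A.C).left)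
  have : IsAffine (closedTot hνa hh A.C).left := isAffine_of_isAffineHom incl.left
  have : CompactSpace ↥XU.left := QuasiCompact.compactSpace_of_compactSpace xi.left
  have sqXY : IsPullback xf ((yon S).map (xi ≫ incl ≫ proj hνa A.C)) (j ≫ π) A.C.b := by
    rw [← hfac, Functor.map_comp]
    exact sqJ.paste_vert (isPullback_closedTot hνa hh A.C)
  have hrep : RepWith @LocallyOfFiniteType (j ≫ π) :=
    repWith_comp (P := @LocallyOfFiniteType)
      (repWith_mono (P := @IsOpenImmersion) (fun _ _ k (_ : IsOpenImmersion k) => (inferInstance : LocallyOfFiniteType k)) hjo)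
      (repWith_mono (P := @IsFinite) (fun _ _ k (_ : IsFinite k) => (inferInstance : LocallyOfFiniteType k)) ((isFiniteMor_iff hT₀ hY).1 hπ))
  have : LocallyOfFinitePresentation (xi.left ≫ incl.left ≫ (proj hνa A.C).left) :=
    (repWith_of_locP hY hrep.rep hfp).property _ _ _ sqXY
  obtain ⟨n, D, s, hs, hDle, hcov, hspan⟩ :=
    exists_equations incl.left (proj hνa A.C).left xi.left
  obtain ⟨Z, i, hi, g, hZ, hifp, hg, hgc, hker⟩ :=
    exists_closedFP hνa hh hT₁ hY A (κ := ↥s) (fun _ => A.C) (fun z => z.1) fun z => by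
      rw [mem_kerSub_iff]
      have := hs z.2
      rw [SetLike.mem_coe, Scheme.Hom.ker_apply, RingHom.mem_ker] at this
      exact this
  let jZ := closedIncl hνa hi A.C
  obtain ⟨l, hl⟩ := (yon S).map_surjective ((isPullback_closedIncl hνa hi A.C).lift
    (closedToX hνa hh A.C ≫ g) ((yon S).map incl)
    (by rw [Category.assoc, hg, (isPullback_closedIncl hνa hh A.C).w]))
  have hl₁ : (yon S).map l ≫ closedToX hνa hi A.C = closedToX hνa hh A.C ≫ g := by
    rw [hl, IsPullback.lift_fst]
  have hl₂ : l ≫ jZ = incl := (yon S).map_injective (by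
    rw [Functor.map_comp, hl, IsPullback.lift_snd])
  have sql : IsPullback (closedToX hνa hh A.C) ((yon S).map l) g (closedToX hνa hi A.C) := by
    refine IsPullback.of_bot ?_ hl₁.symm (isPullback_closedIncl hνa hi A.C)
    rw [← Functor.map_comp, hl₂, hg]
    exact isPullback_closedIncl hνa hh A.C
  have : IsClosedImmersion jZ.left := inferInstanceAs (IsClosedImmersion (closedIncl hνa hi A.C).left)
  have : IsClosedImmersion l.left := hgc.property _ _ _ sql
  let W := ⨆ k, (D k).1
  have hiso : IsIso (l.left ∣_ (jZ.left ⁻¹ᵁ W)) := by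
    refine isIso_morphismRestrict_of_ker_eq' jZ.left l.left W D le_rfl (fun k => le_iSup (fun k => (D k).1) k)
      fun k => le_antisymm ?_ ?_
    · rw [show l.left ≫ jZ.left = incl.left from congrArg CommaMorphism.left hl₂, hspan k,
        Ideal.span_le]
      rintro _ ⟨z, hz, rfl⟩
      refine jZ.left.ker.ideal_le_comap_ideal (U := D k) (V := ⟨⊤, isAffineOpen_top _⟩)
        (show (D k).1 ≤ ⊤ from le_top) ?_
      rw [Scheme.Hom.ker_apply, RingHom.mem_ker]
      exact (mem_kerSub_iff hνa hi A.C z).1 (hker ⟨z, hz⟩)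
    · exact (Scheme.Hom.le_ker_comp l.left jZ.left) (D k)
  let E := jZ.left ⁻¹ᵁ W
  have hr : Set.range xi.left ⊆ Set.range (l.left ⁻¹ᵁ E).ι := by
    rw [Scheme.Opens.range_ι]
    rintro _ ⟨x, rfl⟩
    obtain ⟨k, hk⟩ := hcov x
    show jZ.left (l.left (xi.left x)) ∈ W
    rw [← Scheme.Hom.comp_apply l.left, ← Over.comp_left, hl₂]
    exact TopologicalSpace.Opens.mem_iSup.2 ⟨k, hk⟩
  let e := IsOpenImmersion.lift (l.left ⁻¹ᵁ E).ι xi.left hr
  have : IsOpenImmersion (e ≫ (l.left ⁻¹ᵁ E).ι) := by rw [IsOpenImmersion.lift_fac]; infer_instance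
  have : IsOpenImmersion e := IsOpenImmersion.of_comp _ (l.left ⁻¹ᵁ E).ι
  have hopen : IsOpenImmersion (xi ≫ l).left := by
    rw [Over.comp_left, ← IsOpenImmersion.lift_fac (l.left ⁻¹ᵁ E).ι xi.left hr, Category.assoc,
      ← morphismRestrict_ι]
    infer_instance
  have hqe : RepWith @Etale (closedToX hνa hi A.C) :=
    repWith_of_isPullback (isPullback_closedTot hνa hi A.C).flip A.etale
  have hqs : RepWith @Surjective (closedToX hνa hi A.C) :=
    repWith_of_isPullback (isPullback_closedTot hνa hi A.C).flip A.surj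
  have sqT : IsPullback xf ((yon S).map (xi ≫ l)) (j ≫ g) (closedToX hνa hi A.C) := by
    rw [Functor.map_comp]
    exact sqJ.paste_vert sql
  have ho : RepWith @IsOpenImmersion (j ≫ g) := repWith_isOpenImmersion_of_cover hX hZ hqe hqs
    sqT ((repWith_yon_map_iff _ _).2 hopen)
  have := isLocallySurjective_of_etale _ hqe hqs
  have : IsAffine (closedTot hνa hi A.C).left := isAffine_of_isAffineHom jZ.left
  have hq : IsQuasiCompactMor (j ≫ g) := isQuasiCompactMor_of_repWith hX hZ
    (repWith_of_isLocallySurjective (j ≫ g) ho.rep (closedToX hνa hi A.C) xf _ sqT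
      ((repWith_yon_map_iff _ _).2 (quasiCompact_of_compactSpace (xi ≫ l).left)))
  obtain ⟨hfin, hfin'⟩ := closed_comp_finite hZ hT₁ hY hν hνfp hi hifp
  exact ⟨Z, j ≫ g, i ≫ ν, hZ, by rw [Category.assoc, reassoc_of% hg, hfac], ho, hq, hfin, hfin'⟩

end

end Groth.AlgSp2.Approx
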