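import Mathlib
import Groth.Agent.LocImm.FiniteFactorFP
import Groth.Agent.PropsBasic2.Misc

/-!
# The equations of a closed subscheme near a finitely presented open
-/

set_option autoImplicit false
set_option linter.unusedSectionVars false
set_option backward.isDefEq.respectTransparency.types false
universe u

open CategoryTheory CategoryTheory.Limits AlgebraicGeometry Opposite TopologicalSpace

namespace Groth.AlgSp2.Approx

noncomputable section

/-- Two closed immersions with equal ideals on an affine family agree above it. -/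
theorem isIso_morphismRestrict_of_ker_eq' {A B M : Scheme.{u}} (b : B ⟶ M) [IsClosedImmersion b]
    (l : A ⟶ B) [IsClosedImmersion l] (W : M.Opens) {ι : Type*} (D : ι → M.affineOpens)
    (hW : W ≤ ⨆ k, (D k).1) (hD : ∀ k, (D k).1 ≤ W)
    (hker : ∀ k, (l ≫ b).ker.ideal (D k) = b.ker.ideal (D k)) : IsIso (l ∣_ (b ⁻¹ᵁ W)) := by
  have key : ∀ k, IsIso (l ∣_ (b ⁻¹ᵁ (D k).1)) := by
    intro k
    set U := b ⁻¹ᵁ (D k).1
    have hU : IsAffineOpen U := (D k).2.preimage _
    have : IsAffine U := hU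
    refine (HasAffineProperty.iff_of_isAffine (P := MorphismProperty.isomorphisms Scheme)).mpr
      ⟨hU.preimage l, ?_⟩
    have hbij : Function.Bijective (l.app U) := by
      refine ⟨?_, l.app_surjective U hU⟩
      rw [injective_iff_map_eq_zero]
      intro z hz
      obtain ⟨a, rfl⟩ := b.app_surjective (D k).1 (D k).2 z
      have ha : a ∈ (l ≫ b).ker.ideal (D k) := by
        rw [Scheme.Hom.ker_apply, RingHom.mem_ker, Scheme.Hom.comp_app]
        exact hz
      rw [hker k, Scheme.Hom.ker_apply, RingHom.mem_ker] at ha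
      exact ha
    have h2 : IsIso (l.app U) := (ConcreteCategory.isIso_iff_bijective _).mpr hbij
    exact ((MorphismProperty.isomorphisms CommRingCat).arrow_mk_iso_iff
      (arrowResLEAppIso l _ _ le_rfl)).mpr (by rwa [← Scheme.Hom.app_eq_appLE]) |> fun h => by
        rw [← Scheme.Hom.resLE_eq_morphismRestrict]; exact h
  set U := b ⁻¹ᵁ W
  refine (IsZariskiLocalAtTarget.iff_of_iSup_eq_top (P := MorphismProperty.isomorphisms Scheme)
    (fun k => U.ι ⁻¹ᵁ (b ⁻¹ᵁ (D k).1)) ?_).mpr fun k => ?_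
  · refine top_le_iff.mp fun z _ => ?_
    obtain ⟨k, hk⟩ := Opens.mem_iSup.mp (hW z.2)
    exact Opens.mem_iSup.mpr ⟨k, hk⟩
  · rw [MorphismProperty.arrow_mk_iso_iff (MorphismProperty.isomorphisms Scheme)
      (morphismRestrictRestrict l U _)]
    have h : U.ι ''ᵁ (U.ι ⁻¹ᵁ (b ⁻¹ᵁ (D k).1)) = b ⁻¹ᵁ (D k).1 := by
      rw [Scheme.Hom.image_preimage_eq_opensRange_inf, Scheme.Opens.opensRange_ι]
      exact inf_eq_right.mpr (b.preimage_mono (hD k))
    rw [h]; exact key k

/-- Near an open of a closed subscheme that is finitely presented over the base, the subscheme is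
cut out by finitely many equations. -/
theorem exists_equations {T₀ M U X : Scheme.{u}} [IsAffine M] (i : T₀ ⟶ M) [IsClosedImmersion i]
    (p : M ⟶ U) [LocallyOfFiniteType p] (j : X ⟶ T₀) [IsOpenImmersion j] [CompactSpace X]
    [LocallyOfFinitePresentation (j ≫ i ≫ p)] :
    ∃ (n : ℕ) (D : Fin n → M.affineOpens) (s : Finset Γ(M, ⊤)),
      (↑s : Set Γ(M, ⊤)) ⊆ i.ker.ideal ⟨⊤, isAffineOpen_top _⟩ ∧
      (∀ k, i ⁻¹ᵁ (D k).1 ≤ j.opensRange) ∧ (∀ x : X, ∃ k, i (j x) ∈ (D k).1) ∧
      ∀ k, i.ker.ideal (D k) =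
        Ideal.span (M.presheaf.map (homOfLE (le_top : (D k).1 ≤ ⊤)).op '' (↑s : Set Γ(M, ⊤))) := by
  classical
  obtain ⟨W, hWo, hW⟩ := i.isClosedEmbedding.isInducing.isOpen_iff.1 j.opensRange.isOpen
  choose c hcW hxc using fun x : X =>
    (isAffineOpen_top M).exists_basicOpen_le (V := ⟨W, hWo⟩)
      ⟨i (j x), (Set.ext_iff.1 hW (j x)).2 ⟨x, rfl⟩⟩ trivial
  have hcov : (Set.univ : Set X) ⊆ ⋃ x, (fun y => i (j y)) ⁻¹' (M.basicOpen (c x) : Set M) :=
    fun x _ => Set.mem_iUnion.2 ⟨x, hxc x⟩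
  obtain ⟨t, ht⟩ := isCompact_univ.elim_finite_subcover _
    (fun x => (M.basicOpen (c x)).isOpen.preimage (i.continuous.comp j.continuous)) hcov
  let D : Fin t.card → M.affineOpens := fun k =>
    ⟨M.basicOpen (c (t.equivFin.symm k).1), (isAffineOpen_top M).basicOpen _⟩
  have hDle : ∀ k, i ⁻¹ᵁ (D k).1 ≤ j.opensRange := fun k x hx => by
    show x ∈ (j.opensRange : Set T₀)
    rw [← hW]
    exact hcW _ hx
  have hfg : ∀ k, (i.ker.ideal (D k)).FG := by
    intro k
    let E := i ⁻¹ᵁ (D k).1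
    have hE : IsAffineOpen E := (D k).2.preimage i
    have : IsAffine E.toScheme := hE
    have : IsAffine (D k).1.toScheme := (D k).2
    have hr : Set.range E.ι ⊆ Set.range j := by
      rw [Scheme.Opens.range_ι, ← Scheme.Hom.coe_opensRange]
      exact hDle k
    have : IsOpenImmersion (IsOpenImmersion.lift j E.ι hr ≫ j) := by
      rw [IsOpenImmersion.lift_fac]; infer_instance
    have : IsOpenImmersion (IsOpenImmersion.lift j E.ι hr) := IsOpenImmersion.of_comp _ j
    have : LocallyOfFinitePresentation ((i ∣_ (D k).1) ≫ ((D k).1.ι ≫ p)) := by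
      rw [← Category.assoc, morphismRestrict_ι, Category.assoc,
        ← IsOpenImmersion.lift_fac j E.ι hr, Category.assoc]
      infer_instance
    have : LocallyOfFinitePresentation (i ∣_ (D k).1) :=
      Groth.PropsBasic2.lfp_of_comp _ ((D k).1.ι ≫ p)
    have hker : ((i ∣_ (D k).1).ker.ideal ⟨⊤, isAffineOpen_top _⟩).FG := by
      rw [Scheme.Hom.ker_apply]
      exact Groth.LocImmersion.FiniteFactorFP.ker_fg_of_surjective _
        ((HasAffineProperty.iff_of_isAffine (P := @IsClosedImmersion)).1 inferInstance).2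
        (HasRingHomProperty.appTop (P := @LocallyOfFinitePresentation) (i ∣_ (D k).1) inferInstance)
    have aux : ∀ V : M.affineOpens, V.1 = (D k).1 → (i.ker.ideal V).FG → (i.ker.ideal (D k)).FG := by
      intro V e h
      obtain rfl : V = D k := Subtype.ext e
      exact h
    rw [Scheme.ker_morphismRestrict_ideal i (D k).1] at hker
    exact aux _ (Scheme.Opens.ι_image_top _) hker
  have hex : ∀ k, ∃ s : Finset Γ(M, ⊤), (↑s : Set Γ(M, ⊤)) ⊆ i.ker.ideal ⟨⊤, isAffineOpen_top _⟩ ∧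
      i.ker.ideal (D k) =
        Ideal.span (M.presheaf.map (homOfLE (le_top : (D k).1 ≤ ⊤)).op '' (↑s : Set Γ(M, ⊤))) := by
    intro k
    have e := (i.ker.map_ideal (U := D k) (V := ⟨⊤, isAffineOpen_top _⟩) (show (D k).1 ≤ ⊤ from le_top)).symm
    have h := hfg k
    rw [e] at h
    obtain ⟨s', hs', hspan⟩ := (Submodule.fg_span_iff_fg_span_finset_subset _).1 h
    choose g hg hgz using fun z : s' => hs' z.2
    refine ⟨Finset.univ.image g, fun z hz => ?_, e.trans (hspan.trans ?_)⟩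
    · obtain ⟨w, -, rfl⟩ := Finset.mem_image.1 hz
      exact hg w
    · congr 1
      ext z
      constructor
      · intro hz
        exact ⟨g ⟨z, hz⟩, by simp, hgz ⟨z, hz⟩⟩
      · rintro ⟨y, hy, rfl⟩
        obtain ⟨w, -, rfl⟩ := Finset.mem_image.1 hy
        exact (hgz w).symm ▸ w.2
  choose s hs hspan using hex
  refine ⟨t.card, D, Finset.univ.biUnion s, fun z hz => ?_, hDle, fun x => ?_, fun k => ?_⟩
  · obtain ⟨k, -, hz⟩ := Finset.mem_biUnion.1 hz
    exact hs k hz
  · obtain ⟨x₀, hx₀, hx⟩ := Set.mem_iUnion₂.1 (ht (Set.mem_univ x))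
    refine ⟨t.equivFin ⟨x₀, hx₀⟩, ?_⟩
    show i (j x) ∈ M.basicOpen (c (t.equivFin.symm (t.equivFin ⟨x₀, hx₀⟩)).1)
    rw [Equiv.symm_apply_apply]
    exact hx
  · refine le_antisymm ?_ ?_
    · rw [hspan k]
      exact Ideal.span_mono (Set.image_mono (by
        intro z hz; exact Finset.mem_biUnion.2 ⟨k, Finset.mem_univ k, hz⟩))
    · rw [Ideal.span_le]
      rintro _ ⟨z, hz, rfl⟩
      obtain ⟨k', -, hz'⟩ := Finset.mem_biUnion.1 hz
      exact i.ker.ideal_le_comap_ideal (U := D k) (V := ⟨⊤, isAffineOpen_top _⟩) (show (D k).1 ≤ ⊤ from le_top) (hs k' hz')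

end

end Groth.AlgSp2.Approx
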