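import Groth.Agent.AlgSp2.Approx.SchemeStage
import Groth.Agent.AlgSp2.Approx.FiniteFP

/-!
# Finite, finitely presented covers by schemes
-/

set_option autoImplicit false
set_option linter.unusedSectionVars false
set_option backward.isDefEq.respectTransparency.types false
universe u

open CategoryTheory CategoryTheory.Limits AlgebraicGeometry Opposite AlgSp

namespace Groth.AlgSp2.Approx

open Groth.AlgSpBasic Groth.AlgSp2

noncomputable section

variable {S : Scheme.{u}} [QuasiSeparatedSpace ↥S]

/-- In a system of finite, finitely presented spaces with limit a scheme covering the base, some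
member is a scheme with the same properties. -/
theorem exists_cover_stage {X : Sp S} (hX : IsAlgSpace X) (hXqc : IsQuasiCompactSp X)
    (hXqs : IsQuasiSeparatedSp X) {I : Type u} [SmallCategory I] [IsCofiltered I] (D : I ⥤ Sp S)
    (t : D ⟶ (Functor.const I).obj X) {c : Cone D} (hc : IsLimit c)
    (hD : ∀ i, IsAlgSpace (D.obj i)) (hDa : ∀ (i j : I) (φ : i ⟶ j), IsAffineMor (D.map φ))
    (ht : ∀ i, IsFiniteMor (t.app i) ∧ IsFinitePresentationMor (t.app i))
    {W : Over S} (e : c.pt ≅ (yon S).obj W) {g₀ : (yon S).obj W ⟶ X}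
    (hg : ∀ i, e.inv ≫ c.π.app i ≫ t.app i = g₀)
    {U : Over S} {b : (yon S).obj U ⟶ X} (hb : RepWith @Etale b) (hf : LocalFactor b g₀)
    (hs : RepWith @Surjective g₀) :
    ∃ (i : I) (Y : Over S) (e' : (yon S).obj Y ≅ D.obj i),
      IsFiniteMor (e'.hom ≫ t.app i) ∧ IsSurjectiveMor (e'.hom ≫ t.app i) ∧
      IsFinitePresentationMor (e'.hom ≫ t.app i) ∧ LocalFactor b (e'.hom ≫ t.app i) := by
  have hta : ∀ i, IsAffineMor (t.app i) := fun i => affWith_isAffineHom_iff.1
    (affWith_mono (Q := @IsFinite) (Q' := @IsAffineHom)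
      (fun _ _ k (_ : IsFinite k) => inferInstance) (affWith_isFinite_iff.2 (ht i).1))
  obtain ⟨i, Y, e', hY⟩ := exists_scheme_stage hD hDa hc
    (fun i => isQuasiCompactSp_of_affineMor (hD i) (hta i) hX hXqc)
    (fun i => isQuasiSeparatedSp_of_affineMor (hD i) (hta i) hXqs) t e.symm hg hb hf
  have hY' : IsAlgSpace ((yon S).obj Y) := IsAlgSpace.yon_obj Y
  have hr : RepWith @IsFinite (e'.hom ≫ t.app i) :=
    repWith_comp (repWith_isIso e'.hom) ((isFiniteMor_iff (hD i) hX).1 (ht i).1)
  refine ⟨i, Y, e', (isFiniteMor_iff hY' hX).2 hr, fun x => ?_, ?_, hY⟩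
  · obtain ⟨w, hw⟩ := surjective_map_of_repWith hs x
    refine ⟨AlgSp.Points.map (e.inv ≫ c.π.app i ≫ e'.inv) w, ?_⟩
    rw [← hw, ← AlgSp.Points.map_comp]
    congr 1
    rw [← hg i]
    simp only [Category.assoc, e'.inv_hom_id_assoc]
  · exact isFinitePresentationMor_of_finite hY' hX hr (locP_comp hY' (hD i) hX
      (locP_of_repWith (repWith_mono (P := @IsOpenImmersion)
        (fun _ _ k (_ : IsOpenImmersion k) => (inferInstance : LocallyOfFinitePresentation k))
        (repWith_isIso e'.hom))) (ht i).2.1)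

end

end Groth.AlgSp2.Approx
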