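import Groth.Agent.SpecFerrand.Relative
import Groth.Agent.AlgSp3.NormAffine

/-!
# An affine scheme is the pushout of two closed subschemes with trivially intersecting ideals
-/

set_option autoImplicit false
set_option linter.unusedSectionVars false
set_option backward.isDefEq.respectTransparency.types false
universe u

open CategoryTheory CategoryTheory.Limits AlgebraicGeometry TopologicalSpace

namespace Groth.AlgSp2.Approx

noncomputable section

theorem appTop_apply_comp {A B C : Scheme.{u}} {f : A ⟶ B} {g : B ⟶ C} {h : A ⟶ C} (e : f ≫ g = h)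
    (x : Γ(C, ⊤)) : f.appTop (g.appTop x) = h.appTop x := by
  rw [← e, Scheme.Hom.comp_appTop]
  rfl

/-- If `I ⊓ J = ⊥` on an affine scheme, it is the pushout of `V(I)` and `V(J)` along `V(I ⊔ J)`. -/
theorem isPushout_of_inf_eq_bot {W : Scheme.{u}} [IsAffine W] (I J : W.IdealSheafData)
    (h : I ⊓ J = ⊥) :
    IsPushout (Scheme.IdealSheafData.inclusion (le_sup_left : I ≤ I ⊔ J))
      (Scheme.IdealSheafData.inclusion (le_sup_right : J ≤ I ⊔ J)) I.subschemeι J.subschemeι := by
  let iI := Scheme.IdealSheafData.inclusion (le_sup_left : I ≤ I ⊔ J)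
  let iJ := Scheme.IdealSheafData.inclusion (le_sup_right : J ≤ I ⊔ J)
  have eI : iI ≫ I.subschemeι = (I ⊔ J).subschemeι := Scheme.IdealSheafData.inclusion_subschemeι _
  have eJ : iJ ≫ J.subschemeι = (I ⊔ J).subschemeι := Scheme.IdealSheafData.inclusion_subschemeι _
  have : IsClosedImmersion iI := by
    have : IsClosedImmersion (iI ≫ I.subschemeι) := by rw [eI]; infer_instance
    exact IsClosedImmersion.of_comp iI I.subschemeι
  have : IsClosedImmersion iJ := by
    have : IsClosedImmersion (iJ ≫ J.subschemeι) := by rw [eJ]; infer_instance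
    exact IsClosedImmersion.of_comp iJ J.subschemeι
  have hc := Groth.SpecFerrand.covers_of_closed iI iJ
  have hQ := Groth.SpecFerrand.Glue.isPushout hc
  let a := Groth.SpecFerrand.Glue.a hc
  let b := Groth.SpecFerrand.Glue.b hc
  let k := hQ.desc I.subschemeι J.subschemeι (eI.trans eJ.symm)
  have ha : a ≫ k = I.subschemeι := hQ.inl_desc _ _ _
  have hb : b ≫ k = J.subschemeι := hQ.inr_desc _ _ _
  have hab : iI ≫ a = iJ ≫ b := hQ.w
  have pa : ∀ y, k (a y) = I.subschemeι y := fun y => by rw [← Scheme.Hom.comp_apply, ha]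
  have pb : ∀ y, k (b y) = J.subschemeι y := fun y => by rw [← Scheme.Hom.comp_apply, hb]
  have cross : ∀ y z, I.subschemeι y = J.subschemeι z → a y = b z := by
    intro y z e
    have hy : I.subschemeι y ∈ Set.range (I ⊔ J).subschemeι := by
      rw [Scheme.IdealSheafData.range_subschemeι, Scheme.IdealSheafData.support_sup]
      refine ⟨?_, ?_⟩
      · rw [← Scheme.IdealSheafData.range_subschemeι]; exact ⟨y, rfl⟩
      · rw [← Scheme.IdealSheafData.range_subschemeι]; exact ⟨z, e.symm⟩
    obtain ⟨w, hw⟩ := hy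
    have h₁ : iI w = y := I.subschemeι.isClosedEmbedding.injective (by
      rw [← Scheme.Hom.comp_apply, eI, hw])
    have h₂ : iJ w = z := J.subschemeι.isClosedEmbedding.injective (by
      rw [← Scheme.Hom.comp_apply, eJ, hw, e])
    rw [← h₁, ← h₂, ← Scheme.Hom.comp_apply, hab, Scheme.Hom.comp_apply]
  have hcl : Topology.IsClosedEmbedding k := by
    refine Topology.IsClosedEmbedding.of_continuous_injective_isClosedMap k.continuous
      (fun p q e => ?_) fun F hF => ?_
    · rcases Groth.SpecFerrand.Glue.jointly_surjective_ab hc p with ⟨y, rfl⟩ | ⟨y, rfl⟩ <;>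
        rcases Groth.SpecFerrand.Glue.jointly_surjective_ab hc q with ⟨z, rfl⟩ | ⟨z, rfl⟩
      · exact congrArg a (I.subschemeι.isClosedEmbedding.injective ((pa y).symm.trans (e.trans (pa z))))
      · exact cross y z ((pa y).symm.trans (e.trans (pb z)))
      · exact (cross z y ((pa z).symm.trans (e.symm.trans (pb y)))).symm
      · exact congrArg b (J.subschemeι.isClosedEmbedding.injective ((pb y).symm.trans (e.trans (pb z))))
    · have : k '' F = I.subschemeι '' (a ⁻¹' F) ∪ J.subschemeι '' (b ⁻¹' F) := by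
        ext w
        constructor
        · rintro ⟨p, hp, rfl⟩
          rcases Groth.SpecFerrand.Glue.jointly_surjective_ab hc p with ⟨y, rfl⟩ | ⟨y, rfl⟩
          · exact Or.inl ⟨y, hp, (pa y).symm⟩
          · exact Or.inr ⟨y, hp, (pb y).symm⟩
        · rintro (⟨y, hy, rfl⟩ | ⟨y, hy, rfl⟩)
          · exact ⟨a y, hy, pa y⟩
          · exact ⟨b y, hy, pb y⟩
      rw [this]
      exact (I.subschemeι.isClosedEmbedding.isClosedMap _ (hF.preimage a.continuous)).union
        (J.subschemeι.isClosedEmbedding.isClosedMap _ (hF.preimage b.continuous))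
  have : IsAffineHom k := isAffineHom_of_isInducing k hcl.isInducing hcl.isClosed_range
  have : IsAffine (Groth.SpecFerrand.Glue.P iI iJ) := isAffine_of_isAffineHom k
  -- functions on the pushout come from the affine scheme
  have kerI : ∀ (K : W.IdealSheafData) x, K.subschemeι.appTop x = 0 ↔ x ∈ K.ideal ⟨⊤, isAffineOpen_top W⟩ :=
    fun K x => by
      rw [← Scheme.IdealSheafData.ker_subschemeι_app K ⟨⊤, isAffineOpen_top W⟩]
      exact Iff.rfl
  have surj : ∀ (K : W.IdealSheafData), Function.Surjective K.subschemeι.appTop := fun K =>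
    Scheme.IdealSheafData.subschemeι_app_surjective K ⟨⊤, isAffineOpen_top W⟩
  have uniq : ∀ x y : Γ(W, ⊤), I.subschemeι.appTop x = I.subschemeι.appTop y →
      J.subschemeι.appTop x = J.subschemeι.appTop y → x = y := by
    intro x y h₁ h₂
    have h₃ : x - y ∈ (I ⊓ J).ideal ⟨⊤, isAffineOpen_top W⟩ := by
      rw [Scheme.IdealSheafData.ideal_inf]
      exact ⟨(kerI I _).1 (by rw [map_sub, h₁, sub_self]), (kerI J _).1 (by rw [map_sub, h₂, sub_self])⟩
    rw [h, Scheme.IdealSheafData.ideal_bot] at h₃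
    exact sub_eq_zero.1 h₃
  have ex : ∀ q : Γ(Groth.SpecFerrand.Glue.P iI iJ, ⊤), ∃ x : Γ(W, ⊤),
      I.subschemeι.appTop x = a.appTop q ∧ J.subschemeι.appTop x = b.appTop q := by
    intro q
    obtain ⟨x₁, h₁⟩ := surj I (a.appTop q)
    obtain ⟨x₂, h₂⟩ := surj J (b.appTop q)
    have hK : x₁ - x₂ ∈ (I ⊔ J).ideal ⟨⊤, isAffineOpen_top W⟩ := by
      rw [← kerI, map_sub, ← appTop_apply_comp eI x₁, h₁, ← appTop_apply_comp eJ x₂, h₂,
        appTop_apply_comp hab q, appTop_apply_comp (rfl : iJ ≫ b = _) q, sub_self]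
    rw [Scheme.IdealSheafData.ideal_sup] at hK
    obtain ⟨i, hi, j, hj, e⟩ := Submodule.mem_sup.1 hK
    refine ⟨x₁ - i, ?_, ?_⟩
    · rw [map_sub, h₁, (kerI I i).2 hi, sub_zero]
    · rw [show x₁ - i = x₂ + j from by rw [← sub_eq_zero]; linear_combination -e, map_add, h₂,
        (kerI J j).2 hj, add_zero]
  choose φ hφI hφJ using ex
  let φh : Γ(Groth.SpecFerrand.Glue.P iI iJ, ⊤) →+* Γ(W, ⊤) :=
    { toFun := φ
      map_one' := uniq _ _ (by rw [hφI, map_one, map_one]) (by rw [hφJ, map_one, map_one])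
      map_zero' := uniq _ _ (by rw [hφI, map_zero, map_zero]) (by rw [hφJ, map_zero, map_zero])
      map_mul' := fun x y => uniq _ _ (by rw [hφI, map_mul, map_mul, hφI, hφI])
        (by rw [hφJ, map_mul, map_mul, hφJ, hφJ])
      map_add' := fun x y => uniq _ _ (by rw [hφI, map_add, map_add, hφI, hφI])
        (by rw [hφJ, map_add, map_add, hφJ, hφJ]) }
  obtain ⟨r, hr⟩ := Groth.AlgSp3.exists_hom_of_appTop (X := W) (CommRingCat.ofHom φh)
  have hrI : I.subschemeι ≫ r = a := ext_of_isAffine (ConcreteCategory.hom_ext _ _ fun q => by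
    rw [Scheme.Hom.comp_appTop, hr]
    exact hφI q)
  have hrJ : J.subschemeι ≫ r = b := ext_of_isAffine (ConcreteCategory.hom_ext _ _ fun q => by
    rw [Scheme.Hom.comp_appTop, hr]
    exact hφJ q)
  have hkr : k ≫ r = 𝟙 _ := hQ.hom_ext
    (by show a ≫ k ≫ r = a ≫ 𝟙 _; rw [reassoc_of% ha, hrI, Category.comp_id])
    (by show b ≫ k ≫ r = b ≫ 𝟙 _; rw [reassoc_of% hb, hrJ, Category.comp_id])
  have hrk : r ≫ k = 𝟙 W := ext_of_isAffine (ConcreteCategory.hom_ext _ _ fun x => by
    refine uniq _ _ ?_ ?_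
    · rw [appTop_apply_comp (show I.subschemeι ≫ r ≫ k = I.subschemeι by rw [reassoc_of% hrI, ha]) x,
        Scheme.Hom.id_appTop]
      rfl
    · rw [appTop_apply_comp (show J.subschemeι ≫ r ≫ k = J.subschemeι by rw [reassoc_of% hrJ, hb]) x,
        Scheme.Hom.id_appTop]
      rfl)
  exact hQ.of_iso (Iso.refl _) (Iso.refl _) (Iso.refl _) ⟨k, r, hkr, hrk⟩
    (by simp; rfl) (by simp; rfl) (by simpa using ha) (by simpa using hb)

end

end Groth.AlgSp2.Approx
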