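import Groth.Agent.AlgSp2.Approx.UnionPushout
import Groth.Agent.SpecFerrand.AlgSpPushout
import Groth.Agent.AlgSpCartier.ClosedSub
import Groth.Agent.AlgSp2.FppfProps
import Groth.Agent.Limits.Components
import Groth.Agent.AlgSpBasic.Presentation

/-!
# A reduced space covered by two closed subspaces which are schemes is a scheme
-/

set_option autoImplicit false
set_option linter.unusedSectionVars false
set_option backward.isDefEq.respectTransparency.types false
universe u

open CategoryTheory CategoryTheory.Limits AlgebraicGeometry Opposite AlgSp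

namespace Groth.AlgSp2.Approx

open Groth.AlgSpBasic Groth.AlgSpCartier

noncomputable section

variable {S : Scheme.{u}} {X : Sp S}

/-- Etale charts of a reduced space are reduced. -/
theorem isReduced_of_etale_chart (hX : IsAlgSpace X) (hr : IsReducedSp X) {W : Over S}
    {z : (yon S).obj W ⟶ X} (hz : RepWith @Etale z) : IsReduced W.left := by
  obtain ⟨U, p, hp, hps, hU⟩ := hr
  obtain ⟨R, r₁, r₂, sq⟩ := exists_pullback_of_diag hX.diag p z
  have : Etale r₂.left := repWith_fst_of_isPullback sq hp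
  have : Surjective r₂.left := repWith_fst_of_isPullback sq hps
  have : Etale r₁.left := repWith_fst_of_isPullback sq.flip hz
  have := Groth.AlgSp2.isReduced_of_smooth_morphism r₁.left
  exact Groth.Limits.isReduced_of_flat_surjective r₂.left

/-- A reduced algebraic space which is the union of two closed subspaces which are schemes is a
scheme. -/
theorem isRepresentable_of_union (hX : IsAlgSpace X) (hqc : IsQuasiCompactSp X) (hr : IsReducedSp X)
    {WA WB : Over S} {a₀ : (yon S).obj WA ⟶ X} {b₀ : (yon S).obj WB ⟶ X}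
    (ha₀ : RepWith @IsClosedImmersion a₀) (hb₀ : RepWith @IsClosedImmersion b₀)
    (hcov : ∀ x, x ∈ Set.range (AlgSp.Points.map a₀) ∨ x ∈ Set.range (AlgSp.Points.map b₀)) :
    X.obj.IsRepresentable := by
  -- the pushout of the two schemes along their intersection
  obtain ⟨WC, i, j, sqC⟩ := exists_pullback_yon ha₀.rep b₀
  have : IsClosedImmersion j.left := ha₀.property _ _ _ sqC
  have : IsClosedImmersion i.left := hb₀.property _ _ _ sqC.flip
  have hc := Groth.SpecFerrand.covers_of_closed i.left j.left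
  have hst : Groth.SpecFerrand.AlgSpPush.CoversStable i.left j.left :=
    fun f g h i' j' _ _ _ _ hi' hj' => by
      have : IsClosedImmersion i' := MorphismProperty.of_isPullback (P := @IsClosedImmersion) hi' ‹_›
      have : IsClosedImmersion j' := MorphismProperty.of_isPullback (P := @IsClosedImmersion) hj' ‹_›
      exact Groth.SpecFerrand.covers_of_closed i' j'
  have hP0 := Groth.SpecFerrand.Glue.isPushout hc
  let P : Over S := Over.mk (hP0.desc WA.hom WB.hom ((Over.w i).trans (Over.w j).symm))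
  let a : WA ⟶ P := Over.homMk (Groth.SpecFerrand.Glue.a hc) (hP0.inl_desc _ _ _)
  let b : WB ⟶ P := Over.homMk (Groth.SpecFerrand.Glue.b hc) (hP0.inr_desc _ _ _)
  have hP : IsPushout i j a b :=
    IsPushout.of_map (Over.forget S) (Over.OverMorphism.ext hP0.w) hP0
  obtain ⟨τ, hτa, hτb⟩ := Groth.SpecFerrand.AlgSpPush.exists_desc hc hst hP ⟨X, hX⟩ a₀ b₀ sqC.w
  -- the inverse on affine etale charts
  let Good : ∀ {W : Over S}, ((yon S).obj W ⟶ X) → (W ⟶ P) → Prop := fun {W} z r =>
    (∀ {T : Over S} (g : T ⟶ W) (l : T ⟶ WA),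
      (yon S).map g ≫ z = (yon S).map l ≫ a₀ → g ≫ r = l ≫ a) ∧
    ∀ {T : Over S} (g : T ⟶ W) (l : T ⟶ WB),
      (yon S).map g ≫ z = (yon S).map l ≫ b₀ → g ≫ r = l ≫ b
  have hgood : ∀ {W W' : Over S} (u : W' ⟶ W) {z : (yon S).obj W ⟶ X} {r : W ⟶ P},
      Good z r → Good ((yon S).map u ≫ z) (u ≫ r) := fun {W W'} u {z r} h =>
    ⟨fun g l e => by
      rw [← Category.assoc]
      exact h.1 (g ≫ u) l (by rw [Functor.map_comp, Category.assoc, e]),
    fun g l e => by
      rw [← Category.assoc]
      exact h.2 (g ≫ u) l (by rw [Functor.map_comp, Category.assoc, e])⟩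
  have chart : ∀ {W : Over S} (z : (yon S).obj W ⟶ X), IsAffine W.left → RepWith @Etale z →
      ∃ (I J : W.left.IdealSheafData) (fI : subOver W I ⟶ WA) (fJ : subOver W J ⟶ WB)
        (iI : subOver W (I ⊔ J) ⟶ subOver W I) (iJ : subOver W (I ⊔ J) ⟶ subOver W J),
        IsPullback ((yon S).map fI) ((yon S).map (incl W I)) a₀ z ∧
        IsPullback ((yon S).map fJ) ((yon S).map (incl W J)) b₀ z ∧
        IsPushout iI iJ (incl W I) (incl W J) := by
    intro W z hW hz
    obtain ⟨I, fI, sqI⟩ := exists_ideal ha₀ z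
    obtain ⟨J, fJ, sqJ⟩ := exists_ideal hb₀ z
    obtain ⟨fI, rfl⟩ := (yon S).map_surjective fI
    obtain ⟨fJ, rfl⟩ := (yon S).map_surjective fJ
    have := isReduced_of_etale_chart hX hr hz
    have hIJ : I ⊓ J = ⊥ := by
      have h₁ : I ⊓ J ≤ Scheme.IdealSheafData.vanishingIdeal (I.support ⊔ J.support) := by
        rw [Scheme.IdealSheafData.vanishingIdeal_sup]
        exact inf_le_inf (Scheme.IdealSheafData.le_support_iff_le_vanishingIdeal.1 le_rfl)
          (Scheme.IdealSheafData.le_support_iff_le_vanishingIdeal.1 le_rfl)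
      have h₂ : I.support ⊔ J.support = ⊤ := top_le_iff.1 fun w _ => by
        rcases hcov (AlgSp.Points.ofPt z w) with ⟨x, hx⟩ | ⟨x, hx⟩
        · obtain ⟨v, -, hv⟩ := (map_eq_ofPt_iff sqI x w).1 hx
          exact Or.inl ((Scheme.IdealSheafData.range_subschemeι I).le ⟨v, hv⟩)
        · obtain ⟨v, -, hv⟩ := (map_eq_ofPt_iff sqJ x w).1 hx
          exact Or.inr ((Scheme.IdealSheafData.range_subschemeι J).le ⟨v, hv⟩)
      rw [h₂, Scheme.IdealSheafData.vanishingIdeal_top, Scheme.nilradical_eq_bot] at h₁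
      exact le_bot_iff.1 h₁
    refine ⟨I, J, fI, fJ, Over.homMk (Scheme.IdealSheafData.inclusion le_sup_left) (by
        show _ ≫ I.subschemeι ≫ W.hom = _
        rw [Scheme.IdealSheafData.inclusion_subschemeι_assoc]; rfl),
      Over.homMk (Scheme.IdealSheafData.inclusion le_sup_right) (by
        show _ ≫ J.subschemeι ≫ W.hom = _
        rw [Scheme.IdealSheafData.inclusion_subschemeι_assoc]; rfl), sqI, sqJ, ?_⟩
    exact IsPushout.of_map (Over.forget S) (Over.OverMorphism.ext
      ((Scheme.IdealSheafData.inclusion_subschemeι _).trans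
        (Scheme.IdealSheafData.inclusion_subschemeι _).symm))
      (isPushout_of_inf_eq_bot I J hIJ)
  have hex : ∀ {W : Over S} (z : (yon S).obj W ⟶ X), IsAffine W.left → RepWith @Etale z →
      ∃ r, Good z r := by
    intro W z hW hz
    obtain ⟨I, J, fI, fJ, iI, iJ, sqI, sqJ, hpo⟩ := chart z hW hz
    obtain ⟨c, hc'⟩ := (yon S).map_surjective (sqC.lift ((yon S).map (iI ≫ fI))
      ((yon S).map (iJ ≫ fJ)) (by
        rw [Functor.map_comp, Functor.map_comp, Category.assoc, Category.assoc, sqI.w, sqJ.w,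
          ← Category.assoc, ← Category.assoc, ← Functor.map_comp, ← Functor.map_comp, hpo.w]))
    have hci : c ≫ i = iI ≫ fI := (yon S).map_injective (by rw [Functor.map_comp, hc', sqC.lift_fst])
    have hcj : c ≫ j = iJ ≫ fJ := (yon S).map_injective (by rw [Functor.map_comp, hc', sqC.lift_snd])
    let r := hpo.desc (fI ≫ a) (fJ ≫ b) (by
      rw [← Category.assoc, ← hci, Category.assoc, hP.w, ← Category.assoc, hcj, Category.assoc])
    refine ⟨r, fun g l e => ?_, fun g l e => ?_⟩
    · obtain ⟨m, hm⟩ := (yon S).map_surjective (sqI.lift ((yon S).map l) ((yon S).map g) e.symm)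
      have hm₁ : m ≫ fI = l := (yon S).map_injective (by rw [Functor.map_comp, hm, sqI.lift_fst])
      have hm₂ : m ≫ incl W I = g := (yon S).map_injective (by rw [Functor.map_comp, hm, sqI.lift_snd])
      rw [← hm₂, Category.assoc, hpo.inl_desc, ← Category.assoc, hm₁]
    · obtain ⟨m, hm⟩ := (yon S).map_surjective (sqJ.lift ((yon S).map l) ((yon S).map g) e.symm)
      have hm₁ : m ≫ fJ = l := (yon S).map_injective (by rw [Functor.map_comp, hm, sqJ.lift_fst])
      have hm₂ : m ≫ incl W J = g := (yon S).map_injective (by rw [Functor.map_comp, hm, sqJ.lift_snd])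
      rw [← hm₂, Category.assoc, hpo.inr_desc, ← Category.assoc, hm₁]
  have huniq : ∀ {W : Over S} (z : (yon S).obj W ⟶ X), IsAffine W.left → RepWith @Etale z →
      ∀ r r', Good z r → Good z r' → r = r' := by
    intro W z hW hz r r' h h'
    obtain ⟨I, J, fI, fJ, iI, iJ, sqI, sqJ, hpo⟩ := chart z hW hz
    exact hpo.hom_ext ((h.1 _ fI sqI.w.symm).trans (h'.1 _ fI sqI.w.symm).symm)
      ((h.2 _ fJ sqJ.w.symm).trans (h'.2 _ fJ sqJ.w.symm).symm)
  -- an affine chart
  obtain ⟨V, φ, hV, hφ, hφs⟩ := exists_affine_chart hX hqc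
  obtain ⟨rV, hrV⟩ := hex φ hV hφ
  obtain ⟨R, t, s, sqR⟩ := exists_pullback_of_diag hX.diag φ φ
  have hte : Etale t.left := repWith_fst_of_isPullback sqR.flip hφ
  have hts : t ≫ rV = s ≫ rV := by
    ext : 1
    refine R.left.affineCover.hom_ext _ _ fun k => ?_
    let Rk : Over S := Over.mk (R.left.affineCover.f k ≫ R.hom)
    let u : Rk ⟶ R := Over.homMk (R.left.affineCover.f k) rfl
    have hRk : IsAffine Rk.left := inferInstanceAs (IsAffine (R.left.affineCover.X k))
    have hze : RepWith @Etale ((yon S).map u ≫ (yon S).map t ≫ φ) :=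
      repWith_comp ((repWith_yon_map_iff _ u).2 (inferInstanceAs (Etale (R.left.affineCover.f k))))
        (repWith_comp ((repWith_yon_map_iff _ t).2 hte) hφ)
    have h₁ : Good ((yon S).map u ≫ (yon S).map t ≫ φ) (u ≫ t ≫ rV) := hgood u (hgood t hrV)
    have h₂ : Good ((yon S).map u ≫ (yon S).map t ≫ φ) (u ≫ s ≫ rV) := by
      rw [sqR.w]; exact hgood u (hgood s hrV)
    exact congrArg CommaMorphism.left (huniq _ hRk hze _ _ h₁ h₂)
  have := isLocallySurjective_of_etale φ hφ hφs
  obtain ⟨hcol⟩ := isColimit_of_isLocallySurjective sqR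
  obtain ⟨ρ, hρ, -⟩ := Cofork.IsColimit.existsUnique hcol ((yon S).map rV)
    (by rw [← Functor.map_comp, ← Functor.map_comp, hts])
  have hρ' : φ ≫ ρ = (yon S).map rV := hρ
  obtain ⟨I, J, fI, fJ, iI, iJ, sqI, sqJ, hpo⟩ := chart φ hV hφ
  have h₁ : ρ ≫ τ = 𝟙 X := by
    refine (cancel_epi φ).1 ?_
    rw [reassoc_of% hρ', Category.comp_id]
    refine Groth.SpecFerrand.AlgSpPush.hom_ext_yon hpo ⟨X, hX⟩ ?_ ?_
    · rw [← Category.assoc, ← Functor.map_comp, hrV.1 _ fI sqI.w.symm, Functor.map_comp,
        Category.assoc, hτa, sqI.w]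
    · rw [← Category.assoc, ← Functor.map_comp, hrV.2 _ fJ sqJ.w.symm, Functor.map_comp,
        Category.assoc, hτb, sqJ.w]
  have h₂ : τ ≫ ρ = 𝟙 ((yon S).obj P) := by
    obtain ⟨q, hq⟩ := (yon S).map_surjective (τ ≫ ρ)
    have eA : (yon S).map a ≫ τ ≫ ρ = (yon S).map a := by
      have := isLocallySurjective_of_etale ((yon S).map fI) (repWith_of_isPullback sqI.flip hφ)
        (repWith_of_isPullback sqI.flip hφs)
      refine (cancel_epi ((yon S).map fI)).1 ?_
      rw [reassoc_of% hτa, reassoc_of% sqI.w, hρ', ← Functor.map_comp, hrV.1 _ fI sqI.w.symm,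
        Functor.map_comp]
    have eB : (yon S).map b ≫ τ ≫ ρ = (yon S).map b := by
      have := isLocallySurjective_of_etale ((yon S).map fJ) (repWith_of_isPullback sqJ.flip hφ)
        (repWith_of_isPullback sqJ.flip hφs)
      refine (cancel_epi ((yon S).map fJ)).1 ?_
      rw [reassoc_of% hτb, reassoc_of% sqJ.w, hρ', ← Functor.map_comp, hrV.2 _ fJ sqJ.w.symm,
        Functor.map_comp]
    rw [← hq, ← CategoryTheory.Functor.map_id]
    congr 1
    refine hP.hom_ext ?_ ?_
    · exact (yon S).map_injective (by rw [Functor.map_comp, hq, eA, Category.comp_id])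
    · exact (yon S).map_injective (by rw [Functor.map_comp, hq, eB, Category.comp_id])
  exact (representableByOfIso ⟨τ, ρ, h₂, h₁⟩).isRepresentable

end

end Groth.AlgSp2.Approx
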